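import Cfsg.Agent.Lib.Chev.U43InU6.AbelianData
import Cfsg.Agent.Lib.KnownA.U4ThreeSchur.Model

/-!
Checks on the abelian subgroup of order 81.
-/

set_option autoImplicit false
set_option maxRecDepth 100000

namespace CfsgLib.Chev.U43U6

open CfsgLib.KnownA.U4ThreeSchur CfsgLib.KnownA.PermCert

theorem A_produced : producedBy gensA opsA eltsA = true := by decide +kernel

theorem A_in_stab : producedBy gensH opsAH gensA = true := by decide +kernel

theorem A_chain : chainOK 112 [] [(regPt, eltsA)] = true ∧ chainProd [(regPt, eltsA)] = 81 := by
  decide +kernel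

theorem A_conj : (gensH.all fun h => gensA.all fun a =>
    eltsA.any fun c => eqW 112 [c, h] [h, a]) = true := by decide +kernel

theorem A_rel : (gensA.all fun a => eqW 112 [a, a, a] [] && gensA.all fun b => eqW 112 [a, b] [b, a]) = true := by
  decide +kernel

theorem gensH_fix : (gensH.all fun h => Nat.beq (pimg h 0) 0) = true := by decide +kernel

theorem first_cover : ((List.range 112).all fun j => first.any fun c => Nat.beq (pimg c 0) j) = true := by
  decide +kernel

end CfsgLib.Chev.U43U6
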