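import Cfsg.Agent.Lib.Chev.U43InU6.Checks
import Cfsg.Agent.Lib.Classical.SUCenter

/-!
The action of the special unitary group in dimension six over four elements on the 672 points.
-/

set_option autoImplicit false
set_option linter.unusedSectionVars false

namespace CfsgLib.Chev.U43U6

open Matrix CfsgLib.Classical

theorem of_range {n : ℕ} {f : ℕ → Bool} (h : (List.range n).all f = true) {i : ℕ} (hi : i < n) :
    f i = true := List.all_eq_true.1 h i (List.mem_range.2 hi)

theorem sclV_lt (a c : ℕ) : sclV a c < 4096 := by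
  have := mulE_lt a (crd c 0); have := mulE_lt a (crd c 1); have := mulE_lt a (crd c 2)
  have := mulE_lt a (crd c 3); have := mulE_lt a (crd c 4); have := mulE_lt a (crd c 5)
  simp only [sclV, vec6]
  omega

theorem herm_lt (u v : ℕ) : herm u v < 4 := by
  have h : ∀ a b, a < 4 → b < 4 → Nat.xor a b < 4 := fun a b ha hb => Nat.xor_lt_two_pow (n := 2) ha hb
  simp only [herm]
  exact h _ _ (h _ _ (h _ _ (h _ _ (h _ _ (mulE_lt _ _) (mulE_lt _ _)) (mulE_lt _ _)) (mulE_lt _ _))
    (mulE_lt _ _)) (mulE_lt _ _)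

theorem ptC_lt (i : ℕ) : ptC i < 4096 := Nat.mod_lt _ (by norm_num)

section Mask

theorem testBit_mask (L : List ℕ) (i : ℕ) : (mask L).testBit i = true ↔ i ∈ L := by
  induction L with
  | nil => simp [mask]
  | cons a L ih =>
    show (2 ^ a ||| mask L).testBit i = true ↔ _
    rw [Nat.testBit_or, Nat.testBit_two_pow, Bool.or_eq_true, decide_eq_true_iff, ih, List.mem_cons]
    exact or_congr_left eq_comm

/-- The set of points of a list of numbers. -/
def lst (L : List ℕ) : Finset (Fin 672) := Finset.univ.filter fun i => (i : ℕ) ∈ L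

theorem mem_lst {L : List ℕ} {i : Fin 672} : i ∈ lst L ↔ (i : ℕ) ∈ L :=
  Finset.mem_filter.trans (and_iff_right (Finset.mem_univ i))

theorem lst_congr {L L' : List ℕ} (h : mask L = mask L') : lst L = lst L' := by
  ext i
  rw [mem_lst, mem_lst, ← testBit_mask, ← testBit_mask, h]

theorem mask_congr {L L' : List ℕ} (hL : ∀ x ∈ L, x < 672) (hL' : ∀ x ∈ L', x < 672) (h : lst L = lst L') :
    mask L = mask L' := by
  refine Nat.eq_of_testBit_eq fun i => Bool.eq_iff_iff.2 ?_
  rw [testBit_mask, testBit_mask]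
  constructor <;> intro hi
  · have h1 : (⟨i, hL i hi⟩ : Fin 672) ∈ lst L := mem_lst.2 hi
    rw [h] at h1
    exact mem_lst.1 h1
  · have h1 : (⟨i, hL' i hi⟩ : Fin 672) ∈ lst L' := mem_lst.2 hi
    rw [← h] at h1
    exact mem_lst.1 h1

end Mask

variable {F : Type*} [Field F] [Fintype F]

theorem exists_omega (hF : Fintype.card F = 4) : ∃ ω : F, IsOmega ω := by
  classical
  have h2 : (2 : F) = 0 := by
    have h := FiniteField.cast_card_eq_zero F
    rw [hF] at h
    push_cast at h
    exact mul_self_eq_zero.1 (show (2 : F) * 2 = 0 by linear_combination h)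
  obtain ⟨x, hx⟩ := Finset.exists_mem_notMem_of_card_lt_card (s := ({0, 1} : Finset F)) (t := Finset.univ)
    (by rw [Finset.card_univ, hF]; exact lt_of_le_of_lt Finset.card_le_two (by norm_num))
  simp only [Finset.mem_insert, Finset.mem_singleton, not_or] at hx
  refine ⟨x, ?_, h2⟩
  have h3 := FiniteField.pow_card_sub_one_eq_one x hx.2.1
  rw [hF] at h3
  have h4 : (x - 1) * (x ^ 2 + x + 1) = 0 := by linear_combination h3
  exact (mul_eq_zero.1 h4).resolve_left fun e => hx.2.2 (sub_eq_zero.1 e)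

variable {ω : F} (hω : IsOmega ω) (hF : Fintype.card F = 4)

/-- The special unitary group. -/
abbrev GS (F : Type*) [Field F] : Type _ := ↥(Cfsg.SU 6 F 2)

/-- The matrix of an element. -/
abbrev mat (g : GS F) : Matrix (Fin 6) (Fin 6) F := (g.1 : Matrix (Fin 6) (Fin 6) F)

theorem herm_mat (g : GS F) (u v : Fin 6 → F) :
    Cfsg.hermForm 6 F 2 (mat g *ᵥ u) (mat g *ᵥ v) = Cfsg.hermForm 6 F 2 u v := g.2 u v

/-- The vector of a point. -/
def vec (ω : F) (i : Fin 672) : Fin 6 → F := vdec ω (ptC i)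

include hω

theorem hermForm_dec (u v : ℕ) : Cfsg.hermForm 6 F 2 (vdec ω u) (vdec ω v) = dec ω (herm u v) :=
  (dec_herm hω u v).symm

theorem omega_ne_zero : ω ≠ 0 := fun e => one_ne_zero (α := F) (by have := hω.1; simp [e] at this)

theorem dec_inj {a b : ℕ} (ha : a < 4) (hb : b < 4) (h : dec ω a = dec ω b) : a = b := by
  have h2 : dec ω (Nat.xor a b) = 0 := by rw [dec_xor hω, h, ← two_mul, hω.2, zero_mul]
  have h3 := dec_eq_zero hω h2
  have h4 : Nat.xor a b < 4 := Nat.xor_lt_two_pow (n := 2) ha hb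
  rw [Nat.mod_eq_of_lt h4] at h3
  exact Nat.xor_eq_zero_iff.1 h3

theorem vec_norm (i : Fin 672) : Cfsg.hermForm 6 F 2 (vec ω i) (vec ω i) = 1 := by
  have h := of_range points_ok i.2
  simp only [pointOK, Bool.and_eq_true] at h
  rw [vec, hermForm_dec hω, Nat.eq_of_beq_eq_true h.1, dec_one]

include hF

theorem dec_surj (x : F) : ∃ a < 4, dec ω a = x := by
  have h : Function.Bijective (fun a : Fin 4 => dec ω a) := by
    refine (Fintype.bijective_iff_injective_and_card _).2 ⟨fun a b h => Fin.ext (dec_inj hω a.2 b.2 h), ?_⟩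
    rw [Fintype.card_fin, hF]
  obtain ⟨a, ha⟩ := h.2 x
  exact ⟨a, a.2, ha⟩

theorem vdec_surj (v : Fin 6 → F) : ∃ c < 4096, vdec ω c = v := by
  choose a ha hav using fun i => dec_surj hω hF (v i)
  let f : ℕ → ℕ := fun i => if h : i < 6 then a ⟨i, h⟩ else 0
  have hf : ∀ i, f i < 4 := fun i => by simp only [f]; split <;> [exact ha _; norm_num]
  refine ⟨vec6 f, ?_, ?_⟩
  · have := hf 0; have := hf 1; have := hf 2; have := hf 3; have := hf 4; have := hf 5
    simp only [vec6]
    omega
  · funext i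
    show dec ω (crd (vec6 f) i) = v i
    rw [crd_vec6 f hf i.2]
    simp [f, hav]

theorem point_unique {i j : Fin 672} {a b : F} (ha : a ≠ 0) (hb : b ≠ 0) (h : a • vec ω i = b • vec ω j) :
    i = j := by
  obtain ⟨x, hx, rfl⟩ := dec_surj hω hF a
  obtain ⟨y, hy, rfl⟩ := dec_surj hω hF b
  rw [vec, vec, ← vdec_scl hω, ← vdec_scl hω] at h
  have e := vdec_inj hω (sclV_lt _ _) (sclV_lt _ _) h
  have hmem : ∀ z, z < 4 → dec ω z ≠ 0 → z ∈ [1, 2, 3] := fun z hz hn => by
    interval_cases z
    · exact absurd dec_zero hn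
    all_goals simp
  have h1 := of_range points_ok i.2
  have h2 := of_range points_ok j.2
  simp only [pointOK, Bool.and_eq_true, List.all_eq_true] at h1 h2
  have e1 := Nat.eq_of_beq_eq_true (h1.2 x (hmem x hx ha))
  have e2 := Nat.eq_of_beq_eq_true (h2.2 y (hmem y hy hb))
  rw [e, e2] at e1
  exact Fin.ext (by omega)

theorem exists_point {v : Fin 6 → F} (hv : Cfsg.hermForm 6 F 2 v v ≠ 0) :
    ∃ (i : Fin 672) (a : F), a ≠ 0 ∧ v = a • vec ω i := by
  obtain ⟨c, hc, rfl⟩ := vdec_surj hω hF v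
  rw [hermForm_dec hω] at hv
  have h := of_range codes_ok hc
  simp only [codeOK, Bool.or_eq_true, Bool.and_eq_true, List.any_eq_true] at h
  rcases h with h | ⟨⟨h1, h2⟩, a, ha, hac⟩
  · exact absurd (by rw [Nat.eq_of_beq_eq_true h, dec_zero]) hv
  have h1' := Nat.le_of_ble_eq_true h1
  have h2' := Nat.le_of_ble_eq_true h2
  refine ⟨⟨posC c - 1, by omega⟩, dec ω a, fun e => ?_, ?_⟩
  · have := dec_eq_zero hω e
    simp at ha
    rcases ha with rfl | rfl | rfl <;> simp at this
  · rw [vec, ← vdec_scl hω, Nat.eq_of_beq_eq_true hac]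

theorem exists_act (g : GS F) (i : Fin 672) :
    ∃ (j : Fin 672) (a : F), a ≠ 0 ∧ mat g *ᵥ vec ω i = a • vec ω j :=
  exists_point hω hF (by rw [herm_mat, vec_norm hω]; exact one_ne_zero)

/-- The image of a point. -/
noncomputable def act (g : GS F) (i : Fin 672) : Fin 672 := (exists_act hω hF g i).choose

theorem act_eq {g : GS F} {i j : Fin 672} {a : F} (ha : a ≠ 0) (h : mat g *ᵥ vec ω i = a • vec ω j) :
    act hω hF g i = j := by
  obtain ⟨b, hb, e⟩ := (exists_act hω hF g i).choose_spec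
  exact point_unique hω hF hb ha (e.symm.trans h)

theorem act_one (i : Fin 672) : act hω hF 1 i = i :=
  act_eq hω hF one_ne_zero (by simp [mat])

theorem act_mul (g h : GS F) (i : Fin 672) : act hω hF (g * h) i = act hω hF g (act hω hF h i) := by
  obtain ⟨a, ha, e⟩ := (exists_act hω hF h i).choose_spec
  obtain ⟨b, hb, e'⟩ := (exists_act hω hF g (act hω hF h i)).choose_spec
  refine act_eq hω hF (mul_ne_zero ha hb) ?_
  show ((g.1 : Matrix (Fin 6) (Fin 6) F) * (h.1 : Matrix (Fin 6) (Fin 6) F)) *ᵥ vec ω i = _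
  rw [← Matrix.mulVec_mulVec, e]
  show mat g *ᵥ (a • vec ω (act hω hF h i)) = _
  rw [Matrix.mulVec_smul, e', smul_smul]
  rfl

/-- The permutations of the points. -/
noncomputable def toPerm : GS F →* Equiv.Perm (Fin 672) where
  toFun g :=
    { toFun := act hω hF g
      invFun := act hω hF g⁻¹
      left_inv := fun i => by rw [← act_mul, inv_mul_cancel, act_one]
      right_inv := fun i => by rw [← act_mul, mul_inv_cancel, act_one] }
  map_one' := Equiv.ext (act_one hω hF)
  map_mul' g h := Equiv.ext (act_mul hω hF g h)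

/-- The image of a set of points. -/
noncomputable def mv (g : GS F) (S : Finset (Fin 672)) : Finset (Fin 672) := S.map (toPerm hω hF g).toEmbedding

theorem mem_mv {g : GS F} {S : Finset (Fin 672)} {j : Fin 672} :
    j ∈ mv hω hF g S ↔ ∃ i ∈ S, act hω hF g i = j :=
  Finset.mem_map

theorem mv_one (S : Finset (Fin 672)) : mv hω hF 1 S = S := by ext; simp [mem_mv, act_one]

theorem mv_mul (g h : GS F) (S : Finset (Fin 672)) : mv hω hF (g * h) S = mv hω hF g (mv hω hF h S) := by
  ext
  simp [mem_mv, act_mul]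

theorem exists_el {m : List ℕ} (h : isSU m = true) : ∃ g : GS F, mat g = mdec ω m := by
  have hF' : Fintype.card F = 2 ^ 2 := by rw [hF]; norm_num
  simp only [isSU, Bool.and_eq_true, List.all_eq_true, List.mem_range] at h
  have hdet : (mdec ω m).det = 1 := by
    have e := dec_det hω 6 (tabM m)
    rw [Nat.eq_of_beq_eq_true h.2, dec_one] at e
    exact e.symm
  refine ⟨⟨⟨mdec ω m, hdet⟩, (mem_su_iff hF' _).2 ?_⟩, rfl⟩
  ext k l
  change ((mdec ω m)ᵀ * (mdec ω m).map (qFrob hF')) k l = (1 : Matrix (Fin 6) (Fin 6) F) k l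
  simp only [Matrix.mul_apply, Matrix.transpose_apply, Matrix.map_apply, qFrob_apply, Matrix.one_apply]
  rw [show (∑ r, mdec ω m r k * mdec ω m r l ^ 2) = dec ω (herm (colM m k) (colM m l)) from
    (dec_herm hω _ _).symm]
  rw [Nat.eq_of_beq_eq_true (h.1 k k.2 l l.2)]
  by_cases hkl : k = l
  · subst hkl; simp [dec_one]
  · rw [if_neg (fun e => hkl (Fin.ext e)), if_neg hkl, dec_zero]

theorem act_code {g : GS F} {m : List ℕ} (hg : mat g = mdec ω m) (i : Fin 672) :
    (act hω hF g i : ℕ) = imgP m i := by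
  have hh : herm (mulV m (ptC i)) (mulV m (ptC i)) = 1 := by
    refine dec_inj hω (herm_lt _ _) (by norm_num) ?_
    rw [dec_one, ← hermForm_dec hω, vdec_mulV hω, ← hg]
    exact (herm_mat g _ _).trans (vec_norm hω i)
  have hlt : mulV m (ptC i) < 4096 := by
    have h : ∀ a b, a < 4096 → b < 4096 → Nat.xor a b < 4096 := fun a b ha hb =>
      Nat.xor_lt_two_pow (n := 12) ha hb
    simp only [mulV]
    exact h _ _ (h _ _ (h _ _ (h _ _ (h _ _ (sclV_lt _ _) (sclV_lt _ _)) (sclV_lt _ _)) (sclV_lt _ _))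
      (sclV_lt _ _)) (sclV_lt _ _)
  have h := of_range codes_ok hlt
  simp only [codeOK, hh, Bool.or_eq_true, Bool.and_eq_true, List.any_eq_true] at h
  rcases h with h | ⟨⟨h1, h2⟩, a, ha, hac⟩
  · simp at h
  have h1' := Nat.le_of_ble_eq_true h1
  have h2' := Nat.le_of_ble_eq_true h2
  have key : act hω hF g i = ⟨posC (mulV m (ptC i)) - 1, by omega⟩ := by
    refine act_eq hω hF (a := dec ω a) (fun e => ?_) ?_
    · have := dec_eq_zero hω e
      simp at ha
      rcases ha with rfl | rfl | rfl <;> simp at this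
    · rw [hg, vec, ← vdec_mulV hω, vec, ← vdec_scl hω, Nat.eq_of_beq_eq_true hac]
  rw [key]
  rfl

end CfsgLib.Chev.U43U6
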