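import Cfsg.Agent.Lib.Chev.U43InU6.Code

/-!
Representatives of the orbits of the monomial subgroup on frames.
-/

set_option autoImplicit false

namespace CfsgLib.Chev.U43U6

/-- The representatives, the eight short orbits first. -/
def reps : List (List ℕ) := [[0, 1, 2, 12, 40, 176], [0, 1, 2, 348, 524, 616], [3, 8, 10, 348, 524, 616], [3, 8, 10, 376, 468, 644], [3, 8, 10, 404, 496, 588], [75, 211, 319, 349, 358, 361], [75, 261, 453, 501, 513, 516], [75, 311, 587, 653, 668, 671], [0, 1, 74, 210, 318, 348], [0, 25, 33, 374, 543, 631], [0, 25, 53, 189, 369, 374], [0, 361, 369, 391, 483, 670], [0, 361, 369, 423, 522, 607], [3, 8, 82, 218, 326, 348], [3, 8, 82, 259, 451, 496], [3, 8, 82, 306, 582, 644], [3, 13, 22, 361, 551, 636], [3, 13, 22, 396, 481, 671], [3, 13, 22, 431, 516, 601], [3, 13, 41, 177, 358, 361], [3, 13, 41, 181, 513, 516], [3, 13, 41, 185, 668, 671],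 [3, 13, 80, 216, 396, 428], [3, 13, 80, 263, 478, 551], [3, 13, 80, 304, 601, 633], [3, 80, 82, 348, 525, 617], [3, 80, 82, 385, 477, 644], [3, 80, 82, 409, 496, 593], [3, 80, 132, 409, 488, 633], [3, 349, 358, 396, 488, 657], [3, 349, 358, 431, 509, 615], [3, 349, 393, 396, 529, 617], [3, 349, 428, 431, 525, 625], [3, 377, 386, 424, 516, 601], [3, 377, 421, 424, 473, 645], [75, 211, 319, 353, 365, 368], [75, 211, 319, 357, 372, 375], [75, 211, 323, 353, 426, 429], [75, 215, 323, 353, 513, 516], [75, 219, 327, 357, 668, 671], [75, 261, 453, 505, 520, 523], [75, 265, 457, 505, 668, 671]]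

/-- The short orbits. -/
def shortOrbs : List (List (List ℕ)) := [
  [[0, 1, 2, 12, 40, 176]],
  [[0, 1, 2, 348, 524, 616], [0, 1, 40, 210, 266, 292], [0, 1, 12, 318, 458, 568], [0, 1, 2, 376, 468, 644], [0, 12, 40, 189, 197, 202], [0, 2, 40, 207, 245, 280], [0, 1, 40, 220, 246, 302], [0, 1, 40, 230, 256, 282], [0, 1, 74, 130, 156, 176], [0, 2, 12, 315, 437, 556], [0, 1, 12, 328, 438, 578], [0, 1, 12, 338, 448, 558], [0, 1, 2, 404, 496, 588], [0, 12, 53, 61, 66, 176], [2, 12, 40, 177, 182, 184], [0, 12, 40, 190, 195, 203], [0, 12, 40, 191, 196, 201], [1, 2, 40, 204, 242, 277], [0, 2, 40, 208, 243, 281], [0, 2, 40, 209, 244, 279], [0, 2, 71, 109, 144, 176], [0, 1, 94, 120, 146, 176], [0, 1, 84, 110, 166, 176], [1, 2, 12, 312, 434, 553], [0, 2, 12, 316, 435, 557], [0, 2, 12, 317, 436, 555], [0, 25, 33, 38, 40, 176], [2, 12, 41, 46, 48, 176], [0, 12, 55, 60, 65, 176],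 [0, 12, 54, 59, 67, 176], [1, 12, 40, 186, 194, 199], [2, 12, 40, 178, 180, 185], [2, 12, 40, 179, 181, 183], [1, 2, 40, 205, 240, 278], [1, 2, 40, 206, 241, 276], [1, 2, 68, 106, 141, 176], [0, 2, 73, 108, 143, 176], [0, 2, 72, 107, 145, 176], [1, 2, 12, 313, 432, 554], [1, 2, 12, 314, 433, 552], [2, 13, 18, 20, 40, 176], [0, 27, 32, 37, 40, 176], [0, 26, 31, 39, 40, 176], [1, 12, 50, 58, 63, 176], [2, 12, 43, 45, 47, 176], [2, 12, 42, 44, 49, 176], [1, 12, 40, 187, 192, 200], [1, 12, 40, 188, 193, 198], [1, 22, 30, 35, 40, 176], [1, 2, 70, 105, 140, 176], [1, 2, 69, 104, 142, 176], [3, 8, 10, 12, 40, 176], [2, 15, 17, 19, 40, 176], [2, 14, 16, 21, 40, 176], [1, 12, 52, 57, 62, 176], [1, 12, 51, 56, 64, 176], [1, 24, 29, 34, 40, 176], [1, 23, 28, 36, 40, 176], [5, 7, 9, 12, 40, 176], [4, 6, 11, 12, 40, 176]],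
  [[3, 8, 10, 348, 524, 616], [41, 46, 48, 210, 266, 292], [13, 18, 20, 318, 458, 568], [5, 7, 9, 376, 468, 644], [68, 106, 141, 189, 197, 202], [50, 58, 63, 207, 245, 280], [43, 45, 47, 220, 246, 302], [42, 44, 49, 230, 256, 282], [74, 130, 156, 177, 182, 184], [22, 30, 35, 315, 437, 556], [15, 17, 19, 328, 438, 578], [14, 16, 21, 338, 448, 558], [4, 6, 11, 404, 496, 588], [53, 61, 66, 204, 242, 277], [70, 105, 140, 190, 195, 203], [69, 104, 142, 191, 196, 201], [52, 57, 62, 208, 243, 281], [51, 56, 64, 209, 244, 279], [71, 109, 144, 186, 194, 199], [94, 120, 146, 178, 180, 185], [84, 110, 166, 179, 181, 183], [25, 33, 38, 312, 434, 553], [24, 29, 34, 316, 435, 557], [23, 28, 36, 317, 436, 555], [55, 60, 65, 205, 240, 278], [54, 59, 67, 206, 241, 276], [73, 108, 143, 187, 192, 200], [72, 107, 145, 188, 193, 198], [27, 32, 37, 313, 432, 554], [26, 31, 39, 314, 433,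 552]],
  [[3, 8, 10, 376, 468, 644], [41, 46, 48, 220, 246, 302], [13, 18, 20, 328, 438, 578], [5, 7, 9, 404, 496, 588], [68, 106, 141, 190, 195, 203], [50, 58, 63, 208, 243, 281], [43, 45, 47, 230, 256, 282], [42, 44, 49, 210, 266, 292], [84, 110, 166, 177, 182, 184], [22, 30, 35, 316, 435, 557], [15, 17, 19, 338, 448, 558], [14, 16, 21, 318, 458, 568], [4, 6, 11, 348, 524, 616], [54, 59, 67, 204, 242, 277], [74, 130, 156, 178, 180, 185], [70, 105, 140, 191, 196, 201], [69, 104, 142, 189, 197, 202], [53, 61, 66, 205, 240, 278], [52, 57, 62, 209, 244, 279], [51, 56, 64, 207, 245, 280], [72, 107, 145, 186, 194, 199], [94, 120, 146, 179, 181, 183], [25, 33, 38, 313, 432, 554], [24, 29, 34, 317, 436, 555], [23, 28, 36, 315, 437, 556], [26, 31, 39, 312, 434, 553], [55, 60, 65, 206, 241, 276], [71, 109, 144, 187, 192, 200], [73, 108, 143, 188, 193, 198], [27, 32, 37,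 314, 433, 552]],
  [[3, 8, 10, 404, 496, 588], [41, 46, 48, 230, 256, 282], [13, 18, 20, 338, 448, 558], [5, 7, 9, 348, 524, 616], [68, 106, 141, 191, 196, 201], [50, 58, 63, 209, 244, 279], [43, 45, 47, 210, 266, 292], [42, 44, 49, 220, 246, 302], [94, 120, 146, 177, 182, 184], [22, 30, 35, 317, 436, 555], [15, 17, 19, 318, 458, 568], [14, 16, 21, 328, 438, 578], [4, 6, 11, 376, 468, 644], [55, 60, 65, 204, 242, 277], [74, 130, 156, 179, 181, 183], [70, 105, 140, 189, 197, 202], [69, 104, 142, 190, 195, 203], [53, 61, 66, 206, 241, 276], [52, 57, 62, 207, 245, 280], [51, 56, 64, 208, 243, 281], [73, 108, 143, 186, 194, 199], [84, 110, 166, 178, 180, 185], [25, 33, 38, 314, 433, 552], [24, 29, 34, 315, 437, 556], [23, 28, 36, 316, 435, 557], [27, 32, 37, 312, 434, 553], [54, 59, 67, 205, 240, 278], [71, 109, 144, 188, 193, 198], [72, 107, 145, 187, 192, 200], [26,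 31, 39, 313, 432, 554]],
  [[75, 211, 319, 349, 358, 361], [125, 311, 467, 533, 548, 551], [139, 283, 439, 525, 534, 537], [131, 267, 339, 377, 398, 401], [91, 227, 335, 355, 364, 369], [80, 216, 324, 354, 360, 362], [147, 275, 587, 625, 640, 643], [175, 261, 573, 621, 633, 636], [151, 229, 457, 477, 486, 489], [132, 288, 444, 530, 536, 538], [127, 304, 460, 526, 547, 549], [111, 297, 453, 529, 541, 544], [165, 231, 459, 469, 490, 493], [161, 247, 559, 617, 626, 629], [116, 299, 455, 531, 540, 545], [95, 301, 577, 653, 662, 665], [135, 221, 569, 589, 604, 607], [117, 253, 325, 383, 386, 391], [157, 293, 329, 405, 420, 423], [136, 272, 344, 382, 400, 402], [172, 217, 445, 475, 478, 483], [150, 286, 322, 408, 414, 418], [98, 234, 342, 352, 370, 374], [87, 223, 331, 351, 366, 367], [113, 249, 321, 379, 388, 389], [96, 232, 340, 350, 371, 373], [82, 218, 326, 356, 359,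 363], [89, 225, 333, 353, 365, 368], [103, 239, 347, 357, 372, 375], [163, 252, 564, 622, 628, 630], [152, 268, 580, 618, 639, 641], [93, 287, 563, 649, 655, 658], [168, 263, 575, 623, 632, 637], [129, 265, 337, 385, 394, 397], [99, 255, 447, 505, 508, 511], [158, 236, 464, 474, 492, 494], [153, 222, 450, 470, 485, 487], [92, 269, 461, 499, 520, 521], [118, 295, 451, 527, 542, 543], [134, 290, 446, 532, 535, 539], [160, 238, 466, 476, 491, 495], [123, 306, 462, 528, 546, 550], [85, 271, 463, 501, 519, 522], [167, 215, 443, 473, 479, 482], [79, 303, 579, 645, 666, 669], [83, 257, 449, 497, 512, 515], [90, 273, 465, 503, 518, 523], [81, 308, 584, 650, 668, 670], [115, 251, 323, 381, 387, 390], [121, 219, 567, 597, 600, 603], [100, 294, 570, 646, 661, 663], [128, 214, 562, 592, 598, 602], [155, 291, 327, 413, 416, 419], [112, 237, 585, 595, 610, 615], [137, 226, 574,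 594, 606, 608], [173, 309, 345, 411, 426, 431], [124, 260, 332, 380, 392, 396], [162, 298, 334, 410, 422, 424], [138, 274, 346, 384, 399, 403], [174, 213, 441, 471, 480, 481], [86, 289, 565, 651, 654, 659], [149, 224, 452, 472, 484, 488], [78, 264, 456, 504, 513, 517], [148, 284, 320, 406, 415, 417], [97, 250, 442, 500, 506, 510], [77, 310, 586, 652, 667, 671], [169, 305, 341, 407, 428, 429], [126, 212, 560, 590, 599, 601], [122, 258, 330, 378, 393, 395], [170, 259, 571, 619, 634, 635], [159, 254, 566, 624, 627, 631], [133, 228, 576, 596, 605, 609], [154, 270, 582, 620, 638, 642], [171, 307, 343, 409, 427, 430], [119, 235, 583, 593, 611, 614], [102, 296, 572, 648, 660, 664], [76, 262, 454, 502, 514, 516], [101, 248, 440, 498, 507, 509], [114, 233, 581, 591, 612, 613], [88, 285, 561, 647, 656, 657], [164, 300, 336, 412, 421, 425]],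
  [[75, 261, 453, 501, 513, 516], [125, 211, 559, 589, 598, 601], [139, 225, 573, 593, 605, 608], [131, 287, 443, 529, 535, 538], [91, 268, 460, 498, 519, 521], [80, 263, 455, 503, 512, 517], [147, 283, 319, 405, 414, 417], [175, 311, 347, 413, 428, 431], [151, 267, 579, 617, 638, 641], [132, 227, 575, 595, 604, 609], [127, 216, 564, 594, 600, 602], [161, 297, 333, 409, 421, 424], [165, 251, 563, 621, 627, 630], [116, 232, 580, 590, 611, 613], [115, 301, 457, 533, 542, 545], [135, 271, 343, 381, 399, 402], [117, 294, 450, 526, 541, 543], [157, 235, 463, 473, 491, 494], [136, 289, 445, 531, 534, 539], [172, 258, 570, 618, 633, 635], [150, 228, 456, 476, 485, 489], [98, 254, 446, 504, 507, 511], [87, 270, 462, 500, 518, 522], [113, 296, 452, 528, 540, 544], [96, 252, 444, 502, 508, 510], [82, 259, 451, 499, 514, 515], [95, 231, 339, 349, 370, 373], [89, 275, 467, 505,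 520, 523], [103, 247, 439, 497, 506, 509], [163, 299, 335, 411, 420, 425], [152, 288, 324, 410, 416, 418], [111, 239, 587, 597, 612, 615], [93, 229, 337, 357, 366, 369], [168, 304, 340, 406, 427, 429], [167, 265, 577, 625, 634, 637], [99, 293, 569, 645, 660, 663], [158, 253, 565, 623, 626, 631], [153, 272, 584, 622, 640, 642], [92, 286, 562, 648, 654, 658], [118, 234, 582, 592, 610, 614], [134, 223, 571, 591, 606, 607], [160, 249, 561, 619, 628, 629], [123, 218, 566, 596, 599, 603], [79, 215, 323, 353, 359, 362], [83, 307, 583, 649, 667, 670], [90, 284, 560, 646, 655, 657], [129, 303, 459, 525, 546, 549], [122, 308, 464, 530, 548, 550], [171, 219, 447, 477, 480, 483], [128, 264, 336, 384, 393, 397], [155, 221, 449, 469, 484, 487], [112, 248, 320, 378, 387, 389], [137, 273, 345, 383, 398, 403], [173, 212, 440, 470, 479, 481], [124, 310, 466, 532, 547, 551], [162,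 237, 465, 475, 490, 495], [138, 285, 441, 527, 536, 537], [174, 260, 572, 620, 632, 636], [81, 217, 325, 355, 358, 363], [86, 222, 330, 350, 365, 367], [149, 274, 586, 624, 639, 643], [148, 226, 454, 474, 486, 488], [97, 300, 576, 652, 661, 665], [169, 214, 442, 472, 478, 482], [126, 262, 334, 382, 394, 396], [121, 257, 329, 377, 392, 395], [100, 236, 344, 354, 372, 374], [170, 306, 342, 408, 426, 430], [159, 295, 331, 407, 422, 423], [133, 269, 341, 379, 400, 401], [154, 290, 326, 412, 415, 419], [85, 291, 567, 653, 656, 659], [119, 255, 327, 385, 388, 391], [102, 238, 346, 356, 371, 375], [101, 298, 574, 650, 662, 664], [76, 309, 585, 651, 666, 671], [114, 250, 322, 380, 386, 390], [77, 213, 321, 351, 360, 361], [78, 305, 581, 647, 668, 669], [164, 233, 461, 471, 492, 493], [88, 224, 332, 352, 364, 368]],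
  [[75, 311, 587, 653, 668, 671], [175, 211, 439, 469, 478, 481], [125, 261, 333, 381, 393, 396], [139, 275, 347, 385, 400, 403], [131, 229, 577, 597, 606, 609], [91, 288, 564, 650, 656, 658], [80, 304, 580, 646, 667, 669], [111, 247, 319, 377, 386, 389], [89, 283, 559, 645, 654, 657], [93, 267, 459, 497, 518, 521], [152, 227, 455, 475, 484, 489], [168, 216, 444, 474, 480, 482], [147, 225, 453, 473, 485, 488], [151, 287, 323, 409, 415, 418], [132, 268, 340, 378, 399, 401], [127, 263, 335, 383, 392, 397], [103, 297, 573, 649, 661, 664], [165, 301, 337, 413, 422, 425], [161, 239, 467, 477, 492, 495], [116, 252, 324, 382, 388, 390], [135, 291, 447, 533, 536, 539], [117, 236, 584, 594, 612, 614], [157, 255, 567, 625, 628, 631], [136, 222, 570, 590, 605, 607], [172, 308, 344, 410, 428, 430], [150, 269, 581, 619, 640, 641], [98, 295, 571, 647, 662, 663], [87, 290, 566,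 652, 655, 659], [113, 238, 586, 596, 611, 615], [96, 299, 575, 651, 660, 665], [82, 306, 582, 648, 666, 670], [85, 221, 329, 349, 364, 367], [167, 303, 339, 405, 426, 429], [115, 231, 579, 589, 610, 613], [171, 257, 569, 617, 632, 635], [100, 253, 445, 503, 506, 511], [119, 293, 449, 525, 540, 543], [86, 272, 464, 502, 520, 522], [133, 286, 442, 528, 534, 538], [159, 234, 462, 472, 490, 494], [154, 223, 451, 471, 486, 487], [102, 249, 441, 499, 508, 509], [163, 232, 460, 470, 491, 493], [170, 218, 446, 476, 479, 483], [95, 251, 443, 501, 507, 510], [79, 265, 457, 505, 514, 517], [99, 235, 343, 353, 371, 374], [158, 294, 330, 406, 421, 423], [153, 289, 325, 411, 414, 419], [92, 228, 336, 356, 365, 369], [118, 254, 326, 384, 387, 391], [134, 270, 342, 380, 398, 402], [160, 296, 332, 408, 420, 424], [123, 259, 331, 379, 394, 395], [121, 307, 463, 529, 547, 550], [155,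 271, 583, 621, 639, 642], [129, 215, 563, 593, 599, 602], [83, 219, 327, 357, 360, 363], [90, 226, 334, 354, 366, 368], [128, 305, 461, 527, 548, 549], [112, 298, 454, 530, 542, 544], [137, 284, 440, 526, 535, 537], [173, 262, 574, 622, 634, 636], [124, 213, 561, 591, 600, 601], [162, 248, 560, 618, 627, 629], [138, 224, 572, 592, 604, 608], [174, 310, 346, 412, 427, 431], [81, 258, 450, 498, 513, 515], [149, 285, 321, 407, 416, 417], [169, 264, 576, 624, 633, 637], [148, 273, 585, 623, 638, 643], [97, 233, 341, 351, 372, 373], [126, 309, 465, 531, 546, 551], [122, 217, 565, 595, 598, 603], [78, 214, 322, 352, 358, 362], [101, 237, 345, 355, 370, 375], [164, 250, 562, 620, 626, 630], [77, 260, 452, 500, 512, 516], [88, 274, 466, 504, 519, 523], [114, 300, 456, 532, 541, 545], [76, 212, 320, 350, 359, 361]]]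

/-- Words taking a representative to each member of its short orbit. -/
def shortWords : List (List (List ℕ)) := [
  [[]],
  [[], [1], [2], [6], [1, 2], [1, 3], [1, 4], [1, 5], [2, 0], [2, 2], [2, 5], [2, 6], [6, 6], [1, 2, 0], [1, 2, 3], [1, 2, 4], [1, 2, 6], [1, 3, 3], [1, 3, 4], [1, 3, 5], [2, 0, 3], [2, 0, 4], [2, 0, 7], [2, 2, 3], [2, 2, 5], [2, 2, 7], [1, 2, 0, 0], [1, 2, 0, 3], [1, 2, 0, 4], [1, 2, 0, 5], [1, 2, 3, 3], [1, 2, 3, 4], [1, 2, 3, 7], [1, 3, 3, 4], [1, 3, 3, 5], [2, 0, 3, 3], [2, 0, 3, 4], [2, 0, 3, 6], [2, 2, 3, 5], [2, 2, 3, 8], [1, 2, 0, 0, 3], [1, 2, 0, 0, 5], [1, 2, 0, 0, 8], [1, 2, 0, 3, 3], [1, 2, 0, 3, 4], [1, 2, 0, 3, 5], [1, 2, 3, 3, 4], [1, 2, 3, 3, 6], [2, 0, 3, 3, 1], [2, 0, 3, 3, 4], [2, 0, 3, 3, 6], [1, 2, 0, 0, 3, 1], [1, 2, 0, 0, 3, 5], [1, 2, 0, 0, 3, 6], [1, 2, 0, 3, 3, 4], [1, 2, 0, 3, 3, 5], [2, 0, 3, 3, 1, 5], [2, 0, 3, 3,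 1, 7], [1, 2, 0, 0, 3, 1, 6], [1, 2, 0, 0, 3, 6, 1]],
  [[], [1], [2], [6], [1, 2], [1, 3], [1, 4], [1, 5], [2, 0], [2, 2], [2, 5], [2, 6], [6, 6], [1, 2, 0], [1, 2, 4], [1, 2, 6], [1, 3, 4], [1, 3, 5], [2, 0, 3], [2, 0, 4], [2, 0, 7], [2, 2, 3], [2, 2, 5], [2, 2, 7], [1, 2, 0, 4], [1, 2, 0, 5], [2, 0, 3, 4], [2, 0, 3, 6], [2, 2, 3, 5], [2, 2, 3, 8]],
  [[], [1], [2], [6], [1, 2], [1, 3], [1, 4], [1, 5], [2, 0], [2, 2], [2, 5], [2, 6], [6, 6], [1, 2, 0], [1, 2, 3], [1, 2, 4], [1, 2, 6], [1, 3, 3], [1, 3, 4], [1, 3, 5], [2, 0, 3], [2, 0, 7], [2, 2, 3], [2, 2, 5], [2, 2, 7], [1, 2, 0, 0], [1, 2, 0, 5], [1, 2, 3, 3], [2, 0, 3, 6], [2, 2, 3, 5]],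
  [[], [1], [2], [6], [1, 2], [1, 3], [1, 4], [1, 5], [2, 0], [2, 2], [2, 5], [2, 6], [6, 6], [1, 2, 0], [1, 2, 3], [1, 2, 4], [1, 2, 6], [1, 3, 3], [1, 3, 4], [1, 3, 5], [2, 0, 3], [2, 0, 4], [2, 2, 3], [2, 2, 5], [2, 2, 7], [1, 2, 0, 0], [1, 2, 0, 4], [1, 2, 3, 3], [2, 0, 3, 4], [2, 2, 3, 8]],
  [[], [4], [5], [6], [7], [8], [4, 1], [4, 4], [4, 6], [4, 7], [4, 8], [5, 0], [5, 2], [5, 5], [5, 7], [6, 0], [6, 1], [6, 3], [6, 6], [6, 8], [7, 1], [7, 2], [7, 7], [7, 8], [8, 2], [8, 3], [8, 8], [4, 1, 4], [4, 1, 5], [4, 1, 7], [4, 1, 8], [4, 4, 6], [4, 4, 8], [4, 6, 0], [4, 6, 1], [4, 6, 3], [4, 6, 8], [4, 7, 2], [4, 7, 7], [4, 7, 8], [4, 8, 2], [4, 8, 8], [5, 0, 1], [5, 0, 6], [5, 2, 5], [5, 2, 6], [5, 7, 1], [6, 0, 2], [6, 0, 4], [6, 0, 6], [6, 0, 8], [6, 1, 2], [6, 1, 4], [6, 1, 7], [6, 1, 8], [6, 3, 6], [6, 3, 7], [6, 6, 8], [6, 8, 3], [7, 1, 3], [7, 1, 5], [7,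 1, 7], [7, 2, 0], [7, 2, 3], [7, 2, 5], [8, 2, 0], [8, 2, 6], [8, 3, 1], [8, 3, 6], [4, 1, 7, 2], [4, 1, 7, 8], [4, 1, 8, 2], [4, 1, 8, 8], [4, 4, 6, 1], [4, 4, 6, 6], [4, 4, 8, 2], [4, 6, 1, 7], [4, 6, 1, 8], [4, 7, 2, 5], [6, 0, 2, 7], [6, 6, 8, 8]],
  [[], [0], [5], [6], [7], [8], [0, 0], [0, 4], [0, 6], [0, 7], [0, 8], [5, 0], [5, 2], [5, 7], [6, 0], [6, 1], [6, 3], [6, 6], [6, 8], [7, 1], [7, 2], [7, 7], [7, 8], [8, 2], [8, 3], [8, 8], [0, 0, 1], [0, 0, 4], [0, 0, 5], [0, 0, 7], [0, 0, 8], [0, 4, 1], [0, 4, 6], [0, 4, 8], [0, 6, 0], [0, 6, 1], [0, 6, 3], [0, 6, 8], [0, 7, 2], [0, 7, 7], [0, 7, 8], [0, 8, 2], [0, 8, 8], [5, 0, 6], [5, 2, 6], [5, 7, 1], [6, 0, 0], [6, 0, 2], [6, 0, 6], [6, 1, 2], [6, 1, 4], [6, 1, 7], [6, 1, 8], [6, 3, 6], [6, 3, 7], [6, 6, 8], [6, 8, 3], [7, 1, 3], [7, 1, 4], [7, 1, 5], [7, 1, 7], [7, 2, 3], [7, 2, 5], [8, 2, 6], [8, 3, 1], [0,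 0, 1, 6], [0, 0, 1, 8], [0, 0, 7, 2], [0, 0, 7, 8], [0, 0, 8, 2], [0, 0, 8, 8], [0, 4, 1, 1], [0, 4, 6, 6], [0, 4, 8, 2], [0, 6, 0, 2], [0, 6, 1, 7], [0, 7, 2, 5], [0, 8, 2, 5], [0, 8, 2, 6], [6, 0, 6, 3], [7, 1, 3, 5]],
  [[], [0], [4], [5], [6], [7], [8], [0, 0], [0, 5], [0, 6], [0, 7], [0, 8], [4, 1], [4, 6], [4, 7], [4, 8], [5, 0], [5, 2], [5, 5], [5, 7], [6, 1], [6, 3], [6, 6], [6, 8], [7, 1], [7, 2], [7, 7], [7, 8], [8, 2], [8, 3], [8, 8], [0, 0, 1], [0, 0, 6], [0, 5, 2], [0, 6, 1], [0, 6, 3], [0, 6, 6], [0, 6, 8], [0, 7, 2], [0, 7, 7], [0, 7, 8], [0, 8, 2], [0, 8, 3], [0, 8, 8], [4, 1, 1], [4, 6, 0], [4, 6, 1], [4, 6, 3], [4, 6, 8], [4, 7, 2], [4, 7, 7], [4, 7, 8], [4, 8, 2], [4, 8, 8], [5, 0, 1], [5, 0, 2], [5, 0, 6], [5, 2, 6], [5, 7, 1], [6, 1, 2], [6, 1, 7], [6, 1, 8], [6, 3, 6], [6, 3, 7], [6, 6, 8], [6, 8, 3], [7, 1, 3], [7, 1, 4], [7, 1, 7], [7, 2,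 0], [7, 2, 3], [7, 2, 5], [8, 3, 1], [8, 3, 6], [0, 0, 1, 2], [0, 0, 1, 7], [0, 6, 1, 3], [0, 6, 3, 7], [0, 6, 8, 3], [0, 7, 2, 0], [4, 6, 1, 7]]]

/-- For the other orbits a tree on 113 of their frames: parent and generator. -/
def longTrees : List (List (ℕ × ℕ)) := [
  [(0, 2), (0, 3), (0, 4), (0, 5), (0, 6), (0, 7), (1, 0), (1, 3), (1, 4), (1, 5), (1, 6), (1, 7), (1, 8), (2, 1), (2, 3), (2, 4), (2, 5), (2, 6), (2, 7), (2, 8), (3, 1), (3, 4), (3, 6), (4, 0), (4, 2), (4, 5), (4, 6), (5, 0), (5, 1), (5, 3), (5, 6), (5, 7), (6, 1), (6, 7), (7, 3), (7, 4), (7, 5), (7, 6), (7, 7), (7, 8), (8, 1), (8, 3), (8, 4), (8, 5), (8, 7), (8, 8), (9, 1), (9, 4), (9, 5), (9, 6), (9, 7), (10, 0), (10, 2), (10, 5), (11, 0), (11, 1), (11, 6), (11, 7), (11, 8), (12, 1), (12, 2), (13, 3), (14, 4), (14, 5), (14, 6), (14, 7), (14, 8), (15, 1), (15, 4), (15, 5), (15, 6), (15, 8), (16,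 1), (16, 4), (16, 7), (17, 5), (18, 0), (18, 1), (18, 6), (18, 8), (19, 1), (19, 2), (20, 3), (21, 2), (22, 6), (23, 0), (23, 1), (23, 3), (24, 1), (24, 2), (25, 3), (25, 5), (25, 6), (25, 7), (26, 2), (26, 6), (27, 6), (28, 2), (28, 3), (28, 6), (29, 2), (29, 3), (29, 7), (30, 3), (30, 6), (31, 7), (35, 1), (35, 2), (35, 4), (35, 5), (35, 6), (35, 7)],
  [(0, 0), (0, 1), (0, 2), (0, 3), (0, 5), (0, 6), (0, 7), (0, 8), (1, 0), (1, 1), (1, 2), (1, 3), (1, 4), (1, 6), (1, 7), (1, 8), (2, 0), (2, 1), (2, 2), (2, 3), (2, 4), (2, 5), (2, 6), (2, 7), (2, 8), (3, 0), (3, 1), (3, 2), (3, 3), (3, 5), (3, 6), (3, 8), (4, 1), (4, 2), (4, 3), (4, 5), (4, 6), (4, 7), (4, 8), (5, 0), (5, 2), (5, 5), (5, 6), (5, 7), (6, 0), (6, 1), (6, 3), (6, 7), (6, 8), (7, 1), (7, 7), (7, 8), (8, 2), (8, 3), (8, 8), (9, 1), (9, 2), (9, 3), (9, 5), (9, 6), (9, 8), (10, 1), (10, 2), (10, 3), (10,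 4), (10, 5), (10, 7), (10, 8), (11, 0), (11, 1), (11, 2), (11, 3), (11, 4), (11, 5), (11, 6), (11, 7), (11, 8), (12, 1), (12, 2), (12, 3), (12, 4), (12, 6), (12, 7), (12, 8), (13, 1), (13, 8), (14, 1), (14, 3), (14, 6), (14, 7), (14, 8), (15, 1), (15, 2), (15, 8), (16, 2), (16, 3), (16, 8), (17, 0), (17, 3), (17, 5), (18, 0), (18, 2), (18, 3), (18, 4), (18, 5), (18, 6), (18, 7), (18, 8), (19, 0), (19, 2), (19, 3), (19, 4)],
  [(0, 1), (0, 2), (0, 3), (0, 4), (0, 5), (0, 6), (0, 7), (0, 8), (1, 2), (1, 3), (1, 4), (1, 5), (1, 6), (1, 7), (1, 8), (2, 0), (2, 2), (2, 3), (2, 4), (2, 5), (2, 6), (2, 7), (2, 8), (3, 1), (3, 2), (3, 3), (3, 4), (3, 5), (3, 6), (3, 7), (3, 8), (4, 1), (4, 4), (4, 5), (4, 6), (4, 7), (4, 8), (5, 0), (5, 2), (5, 5), (5, 6), (5, 7), (6, 0), (6, 1), (6, 3), (6, 6), (6, 7), (6, 8), (7, 1), (7, 2), (7, 7), (7, 8), (8, 2), (8, 3), (8, 8), (9,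 0), (9, 2), (9, 3), (9, 4), (9, 5), (9, 6), (9, 7), (9, 8), (10, 1), (10, 2), (10, 3), (10, 4), (10, 5), (10, 6), (10, 7), (10, 8), (11, 1), (11, 4), (11, 6), (11, 7), (11, 8), (12, 0), (12, 2), (12, 5), (12, 6), (12, 7), (13, 0), (13, 1), (13, 3), (13, 6), (13, 7), (13, 8), (14, 1), (14, 2), (14, 7), (14, 8), (15, 2), (15, 3), (15, 8), (16, 3), (16, 4), (16, 5), (16, 6), (16, 7), (16, 8), (17, 0), (17, 3), (17, 4), (17, 5), (17, 6), (17, 7), (17, 8), (18, 1), (18, 3), (18, 4), (18, 5), (18, 6)],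
  [(0, 2), (0, 3), (0, 4), (0, 5), (0, 6), (0, 7), (0, 8), (1, 0), (1, 1), (1, 3), (1, 4), (1, 5), (1, 7), (1, 8), (2, 1), (2, 2), (2, 3), (2, 4), (2, 5), (2, 6), (2, 7), (2, 8), (3, 1), (3, 4), (3, 6), (3, 7), (3, 8), (4, 0), (4, 2), (4, 5), (4, 6), (4, 7), (5, 0), (5, 1), (5, 3), (5, 7), (5, 8), (6, 1), (6, 8), (7, 3), (7, 8), (8, 0), (8, 3), (8, 5), (8, 6), (8, 7), (8, 8), (9, 3), (9, 4), (9, 6), (9, 8), (10, 1), (10, 3), (10, 4), (10, 5), (10, 7), (10, 8), (11, 1), (11, 5), (11, 7), (12, 2), (13, 2), (13, 8), (14, 3), (14, 8), (15, 0), (15, 4), (15, 5), (15, 6), (15, 7), (15, 8), (16, 4), (16, 5), (16, 6), (16, 7), (16, 8), (17, 1), (17, 2), (17, 4), (17, 5), (17, 6), (17, 7), (17, 8), (18, 1), (18, 4), (18, 5), (18, 6), (18, 7), (18, 8), (19, 0), (19, 2), (19, 5), (19, 6), (19, 7), (20, 0), (20, 1), (20, 3), (20, 6), (20, 8), (21, 1), (21, 2), (21, 7), (21,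 8), (22, 2), (22, 3), (23, 4), (23, 7), (23, 8), (24, 6), (24, 8), (25, 0), (25, 3)],
  [(0, 1), (0, 2), (0, 3), (0, 4), (0, 5), (0, 6), (0, 7), (0, 8), (1, 3), (1, 4), (1, 5), (1, 6), (1, 7), (1, 8), (2, 3), (2, 4), (2, 5), (2, 6), (2, 8), (3, 1), (3, 2), (3, 3), (3, 4), (3, 5), (3, 6), (3, 7), (3, 8), (4, 1), (4, 4), (4, 5), (4, 6), (4, 7), (4, 8), (5, 0), (5, 2), (5, 5), (5, 7), (6, 3), (6, 6), (6, 7), (6, 8), (7, 1), (7, 2), (7, 8), (8, 3), (8, 8), (9, 1), (9, 2), (9, 4), (9, 5), (9, 6), (9, 7), (9, 8), (10, 4), (10, 6), (10, 7), (10, 8), (11, 0), (11, 2), (11, 7), (12, 3), (12, 7), (12, 8), (13, 8), (14, 2), (14, 3), (14, 8), (15, 1), (15, 3), (15, 4), (15, 5), (15, 6), (15, 7), (16, 1), (16, 4), (17, 0), (17, 5), (18, 0), (18, 1), (18, 3), (18, 6), (19, 2), (19, 3), (19, 8), (20, 0), (20, 4), (20, 5), (20, 6), (20, 7), (20, 8), (21, 0), (21, 2), (21, 4), (21,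 6), (21, 7), (21, 8), (22, 2), (22, 4), (22, 5), (22, 6), (22, 7), (22, 8), (23, 1), (23, 4), (23, 5), (23, 6), (23, 7), (23, 8), (24, 0), (24, 2), (24, 5), (24, 6)],
  [(0, 1), (0, 2), (0, 3), (0, 4), (0, 5), (0, 6), (0, 7), (0, 8), (1, 0), (1, 2), (1, 3), (1, 4), (1, 5), (1, 6), (1, 7), (1, 8), (2, 0), (2, 1), (2, 2), (2, 3), (2, 4), (2, 5), (2, 6), (2, 7), (2, 8), (3, 1), (3, 2), (3, 3), (3, 5), (3, 6), (3, 7), (4, 1), (4, 4), (4, 5), (4, 6), (4, 7), (4, 8), (5, 2), (5, 5), (5, 6), (5, 7), (6, 0), (6, 1), (6, 3), (6, 6), (6, 7), (6, 8), (7, 1), (7, 2), (7, 8), (8, 2), (8, 8), (9, 0), (9, 2), (9, 3), (9, 4), (9, 5), (9, 6), (9, 7), (10, 0), (10, 2), (10, 3), (10, 4), (10, 5), (10, 6), (10, 7), (10, 8), (11, 1), (11, 2), (11, 3), (11, 4), (11, 5), (11, 6), (11, 7), (11, 8), (12, 1), (12, 4), (12, 6), (12, 7), (12, 8), (13, 0), (13, 2), (13, 5), (13, 6), (13, 7),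 (14, 0), (14, 1), (14, 3), (14, 6), (14, 7), (14, 8), (15, 1), (15, 2), (15, 7), (15, 8), (16, 2), (16, 3), (17, 0), (17, 3), (17, 4), (17, 5), (17, 6), (17, 7), (17, 8), (18, 4), (18, 5), (18, 6), (19, 0), (19, 1), (19, 3), (19, 4), (19, 5)],
  [(0, 0), (0, 1), (0, 2), (0, 3), (0, 5), (0, 6), (0, 7), (0, 8), (1, 0), (1, 1), (1, 2), (1, 4), (1, 6), (1, 7), (1, 8), (2, 0), (2, 1), (2, 2), (2, 3), (2, 4), (2, 5), (2, 6), (2, 7), (2, 8), (3, 0), (3, 1), (3, 2), (3, 3), (3, 5), (3, 6), (3, 7), (3, 8), (4, 1), (4, 2), (4, 3), (4, 5), (4, 6), (4, 7), (5, 0), (5, 2), (5, 6), (5, 7), (6, 1), (6, 3), (6, 6), (6, 7), (6, 8), (7, 1), (7, 2), (7, 8), (8, 2), (8, 8), (9, 1), (9, 2), (9, 6), (9, 7), (9, 8), (10, 1), (10, 2), (10, 3), (10, 4), (10, 5), (10, 7), (10, 8), (11, 0), (11, 1), (11, 2), (11, 3), (11, 4), (11, 5), (11, 6), (11, 7), (11, 8), (12, 1), (12, 6), (12, 8), (13,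 0), (13, 1), (13, 3), (13, 6), (13, 7), (13, 8), (14, 1), (14, 2), (14, 7), (14, 8), (15, 2), (15, 8), (16, 0), (16, 2), (16, 3), (16, 4), (16, 5), (16, 6), (16, 7), (17, 0), (17, 2), (17, 3), (17, 5), (17, 6), (17, 7), (18, 0), (18, 2), (18, 3), (18, 4), (18, 5), (18, 6), (18, 7), (18, 8), (19, 1), (19, 2), (19, 3)],
  [(0, 0), (0, 1), (0, 2), (0, 3), (0, 4), (0, 5), (0, 6), (0, 7), (0, 8), (1, 0), (1, 1), (1, 2), (1, 3), (1, 6), (1, 7), (1, 8), (2, 0), (2, 1), (2, 2), (2, 3), (2, 4), (2, 5), (2, 6), (2, 7), (2, 8), (3, 0), (3, 1), (3, 2), (3, 3), (3, 4), (3, 5), (3, 6), (3, 7), (3, 8), (4, 1), (4, 2), (4, 3), (4, 6), (4, 7), (5, 1), (5, 6), (5, 7), (5, 8), (6, 2), (6, 5), (6, 6), (6, 7), (7, 1), (7, 3), (7, 6), (7, 7), (7, 8), (8, 1), (8, 2), (8, 8), (9, 2), (9, 8), (10, 1), (10, 2), (10, 6), (11, 1), (11, 2), (11, 3), (11, 4), (11, 5), (11, 7), (11, 8), (12, 0),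 (12, 1), (12, 2), (12, 3), (12, 5), (12, 6), (12, 7), (12, 8), (13, 1), (13, 2), (13, 6), (13, 7), (14, 1), (14, 3), (14, 6), (14, 7), (14, 8), (15, 1), (15, 2), (15, 7), (15, 8), (16, 2), (16, 8), (17, 0), (17, 2), (17, 3), (17, 5), (17, 6), (17, 7), (18, 0), (18, 2), (18, 3), (18, 4), (18, 5), (18, 6), (18, 7), (19, 0), (19, 2), (19, 3), (19, 4), (19, 5), (19, 6), (19, 7), (19, 8), (20, 1)],
  [(0, 0), (0, 1), (0, 3), (0, 5), (0, 6), (0, 7), (0, 8), (1, 1), (1, 2), (1, 3), (1, 4), (1, 6), (1, 7), (1, 8), (2, 1), (2, 3), (2, 4), (2, 5), (2, 6), (2, 7), (2, 8), (3, 1), (3, 2), (3, 5), (3, 6), (3, 7), (3, 8), (4, 0), (4, 2), (4, 5), (4, 7), (5, 0), (5, 1), (5, 3), (5, 6), (5, 7), (5, 8), (6, 1), (6, 2), (6, 7), (6, 8), (7, 2), (7, 3), (7, 8), (8, 2), (8, 3), (8, 4), (8, 5), (8, 7), (8, 8), (9, 2), (9, 3), (9, 4), (9, 5), (9, 6), (9, 7), (9, 8), (10, 1), (10, 2), (10,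 3), (10, 4), (10, 6), (10, 7), (10, 8), (11, 1), (11, 8), (12, 1), (12, 3), (12, 6), (12, 7), (12, 8), (13, 1), (13, 2), (13, 7), (13, 8), (14, 2), (14, 3), (14, 8), (15, 2), (15, 3), (15, 4), (15, 5), (15, 6), (15, 7), (15, 8), (16, 1), (16, 2), (16, 3), (16, 4), (16, 5), (16, 6), (16, 7), (16, 8), (17, 1), (17, 6), (17, 7), (18, 2), (18, 6), (19, 3), (19, 6), (19, 7), (20, 1), (20, 2), (20, 7), (20, 8), (21, 2), (21, 3), (21, 8), (22, 0), (22, 1), (22, 4), (22, 5)],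
  [(0, 0), (0, 1), (0, 3), (0, 5), (0, 6), (0, 7), (0, 8), (1, 1), (1, 2), (1, 3), (1, 4), (1, 6), (1, 7), (1, 8), (2, 1), (2, 3), (2, 4), (2, 5), (2, 6), (2, 7), (2, 8), (3, 1), (3, 2), (3, 5), (3, 6), (3, 7), (3, 8), (4, 0), (4, 2), (4, 5), (4, 7), (5, 0), (5, 1), (5, 3), (5, 6), (5, 7), (5, 8), (6, 1), (6, 2), (6, 7), (6, 8), (7, 2), (7, 3), (7, 8), (8, 2), (8, 3), (8, 4), (8, 5), (8, 7), (8, 8), (9, 2), (9, 3), (9, 4), (9, 5), (9, 6), (9, 7), (9, 8), (10, 1), (10, 2), (10, 3), (10, 4), (10, 6), (10, 7), (10, 8), (11, 1), (11, 8), (12, 1), (12, 3), (12, 6), (12, 7), (12, 8), (13, 1), (13, 2), (13, 7), (13, 8), (14, 2), (14, 3), (14, 8), (15, 2), (15, 3), (15, 4), (15, 5), (15, 6), (15, 7), (15, 8), (16, 1), (16, 2), (16, 3), (16, 4), (16, 5), (16, 6), (16, 7), (16, 8), (17, 1), (17, 6), (17, 7), (18, 2), (18, 6), (19, 3), (19, 6), (19, 7), (20, 1), (20, 2), (20,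 7), (20, 8), (21, 2), (21, 3), (21, 8), (22, 0), (22, 1), (22, 4), (22, 5)],
  [(0, 0), (0, 1), (0, 3), (0, 5), (0, 6), (0, 7), (0, 8), (1, 1), (1, 2), (1, 3), (1, 4), (1, 6), (1, 7), (1, 8), (2, 1), (2, 3), (2, 4), (2, 5), (2, 6), (2, 7), (2, 8), (3, 1), (3, 2), (3, 5), (3, 6), (3, 7), (3, 8), (4, 0), (4, 2), (4, 5), (4, 7), (5, 0), (5, 1), (5, 3), (5, 6), (5, 7), (5, 8), (6, 1), (6, 2), (6, 7), (6, 8), (7, 2), (7, 3), (7, 8), (8, 2), (8, 3), (8, 4), (8, 5), (8, 7), (8, 8), (9, 2), (9, 3), (9, 4), (9, 5), (9, 6), (9, 7), (9, 8), (10, 1), (10, 2), (10, 3), (10, 4), (10, 6), (10, 7), (10, 8), (11, 1), (11, 8), (12, 1), (12, 3), (12, 6), (12, 7), (12, 8), (13, 1), (13, 2), (13, 7), (13, 8), (14, 2), (14, 3), (14, 8), (15, 2), (15, 3), (15, 4), (15, 5), (15, 6), (15, 7), (15, 8), (16, 1), (16, 2), (16, 3), (16, 4), (16, 5), (16, 6), (16, 7), (16, 8), (17, 1), (17, 6),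 (17, 7), (18, 2), (18, 6), (19, 3), (19, 6), (19, 7), (20, 1), (20, 2), (20, 7), (20, 8), (21, 2), (21, 3), (21, 8), (22, 0), (22, 1), (22, 4), (22, 5)],
  [(0, 2), (0, 3), (0, 4), (0, 5), (0, 6), (0, 7), (0, 8), (1, 0), (1, 3), (1, 4), (1, 5), (1, 6), (1, 7), (1, 8), (2, 1), (2, 3), (2, 4), (2, 5), (2, 6), (2, 7), (2, 8), (3, 1), (3, 4), (3, 6), (3, 7), (3, 8), (4, 0), (4, 2), (4, 5), (4, 6), (4, 7), (5, 0), (5, 1), (5, 3), (5, 6), (5, 7), (5, 8), (6, 1), (6, 2), (6, 7), (6, 8), (7, 2), (7, 3), (7, 8), (8, 3), (8, 4), (8, 5), (8, 6), (8, 7), (8, 8), (9, 1), (9, 3), (9, 4), (9, 5), (9, 6), (9, 7), (9, 8), (10, 1), (10, 4), (10, 5), (10, 6), (10, 7), (10, 8), (11, 0), (11, 2), (11, 5), (11, 7), (12, 0), (12, 1), (12, 3), (12, 6), (12, 7), (12, 8), (13, 1), (13, 2), (13, 7), (13, 8), (14, 2), (14, 3), (14, 8), (15, 4), (15, 5), (15, 6), (15, 7), (15, 8), (16, 1), (16,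 4), (16, 5), (16, 6), (16, 7), (16, 8), (17, 1), (17, 4), (17, 6), (17, 7), (17, 8), (18, 0), (18, 5), (18, 7), (19, 0), (19, 1), (19, 3), (19, 6), (19, 8), (20, 1), (20, 2), (20, 7), (20, 8), (21, 2), (21, 3), (21, 8), (22, 2)],
  [(0, 0), (0, 2), (0, 3), (0, 5), (0, 6), (0, 7), (0, 8), (1, 0), (1, 2), (1, 3), (1, 4), (1, 6), (1, 7), (1, 8), (2, 0), (2, 3), (2, 5), (2, 6), (2, 7), (2, 8), (3, 1), (3, 3), (3, 5), (3, 6), (3, 7), (3, 8), (4, 0), (4, 2), (4, 6), (4, 7), (5, 0), (5, 1), (5, 3), (5, 6), (5, 7), (5, 8), (6, 1), (6, 2), (6, 7), (6, 8), (7, 2), (7, 3), (7, 8), (8, 1), (8, 2), (8, 3), (8, 4), (8, 5), (8, 7), (8, 8), (9, 0), (9, 3), (9, 4), (9, 5), (9, 6), (9, 7), (9, 8), (10, 1), (10, 3), (10, 4), (10, 6), (10, 7), (10, 8), (11, 1), (11, 6), (11, 8), (12, 0), (12, 1), (12, 3), (12, 7), (12, 8), (13, 2), (13, 7), (13, 8), (14, 2), (14, 3), (14, 8), (15, 3),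 (15, 4), (15, 6), (15, 7), (15, 8), (16, 1), (16, 3), (16, 5), (16, 6), (16, 7), (16, 8), (17, 0), (17, 2), (17, 5), (17, 7), (18, 0), (18, 1), (18, 3), (18, 6), (18, 7), (18, 8), (19, 1), (19, 2), (19, 7), (19, 8), (20, 2), (20, 3), (20, 8), (21, 4), (21, 5), (21, 6), (21, 7), (21, 8), (22, 1), (22, 5)],
  [(0, 0), (0, 2), (0, 3), (0, 4), (0, 5), (0, 6), (0, 7), (0, 8), (1, 0), (1, 2), (1, 3), (1, 5), (1, 6), (1, 7), (1, 8), (2, 0), (2, 3), (2, 4), (2, 5), (2, 6), (2, 7), (2, 8), (3, 1), (3, 3), (3, 4), (3, 5), (3, 6), (3, 7), (3, 8), (4, 1), (4, 6), (4, 7), (4, 8), (5, 0), (5, 2), (5, 5), (5, 6), (5, 7), (6, 1), (6, 3), (6, 6), (6, 7), (6, 8), (7, 1), (7, 2), (7, 7), (7, 8), (8, 2), (8, 3), (8, 8), (9, 1), (9, 2), (9, 3), (9, 6), (10, 0), (10, 3), (10, 5), (10, 6), (10, 7), (10, 8), (11, 1), (11, 3), (11, 5), (11, 6), (11, 7), (11, 8), (12, 2), (12, 6), (12, 7),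 (13, 1), (13, 3), (13, 6), (13, 7), (13, 8), (14, 2), (14, 7), (14, 8), (15, 2), (15, 3), (15, 8), (16, 3), (16, 4), (16, 5), (16, 6), (16, 7), (16, 8), (17, 1), (17, 3), (17, 4), (17, 5), (17, 6), (17, 7), (17, 8), (18, 1), (18, 5), (18, 6), (18, 7), (18, 8), (19, 0), (19, 2), (19, 5), (19, 7), (20, 0), (20, 1), (20, 3), (20, 6), (20, 7), (20, 8), (21, 1), (21, 2), (21, 7), (21, 8)],
  [(0, 0), (0, 1), (0, 2), (0, 3), (0, 4), (0, 5), (0, 6), (0, 7), (0, 8), (1, 1), (1, 2), (1, 3), (1, 4), (1, 5), (1, 6), (1, 7), (1, 8), (2, 1), (2, 2), (2, 3), (2, 4), (2, 5), (2, 6), (2, 7), (2, 8), (3, 0), (3, 1), (3, 2), (3, 3), (3, 4), (3, 5), (3, 6), (3, 7), (3, 8), (4, 1), (4, 2), (4, 3), (4, 4), (4, 5), (4, 6), (4, 7), (4, 8), (5, 1), (5, 4), (5, 5), (5, 6), (5, 7), (5, 8), (6, 0), (6, 2), (6, 5), (6, 6), (6, 7), (7, 0), (7, 1), (7, 3), (7, 6), (7, 7), (7, 8), (8, 1), (8,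 2), (8, 7), (8, 8), (9, 2), (9, 3), (9, 8), (10, 1), (10, 2), (10, 3), (10, 4), (10, 5), (10, 6), (10, 7), (10, 8), (11, 0), (11, 1), (11, 2), (11, 3), (11, 4), (11, 5), (11, 6), (11, 7), (11, 8), (12, 1), (12, 2), (12, 3), (12, 4), (12, 5), (12, 6), (12, 7), (12, 8), (13, 1), (13, 4), (13, 5), (13, 6), (13, 7), (13, 8), (14, 0), (14, 2), (14, 5), (14, 6), (14, 7), (15, 0), (15, 1), (15, 3), (15, 6), (15, 7), (15, 8), (16, 1), (16, 2), (16, 7), (16, 8)],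
  [(0, 0), (0, 1), (0, 2), (0, 3), (0, 4), (0, 5), (0, 6), (0, 7), (0, 8), (1, 0), (1, 1), (1, 2), (1, 3), (1, 4), (1, 5), (1, 6), (1, 7), (1, 8), (2, 1), (2, 2), (2, 3), (2, 4), (2, 5), (2, 6), (2, 7), (2, 8), (3, 0), (3, 1), (3, 2), (3, 3), (3, 4), (3, 5), (3, 6), (3, 7), (3, 8), (4, 1), (4, 2), (4, 3), (4, 4), (4, 5), (4, 6), (4, 7), (4, 8), (5, 4), (5, 5), (5, 6), (5, 7), (5, 8), (6, 0), (6, 2), (6, 5), (6, 6), (6, 7), (7, 0), (7, 1), (7, 3), (7, 6), (7, 7), (7, 8), (8, 1), (8, 2), (8, 7), (8, 8), (9, 2), (9, 3), (9, 8), (10, 1), (10, 2), (10, 3), (10, 4), (10, 5), (10, 6), (10, 7), (10, 8), (11, 1), (11, 2), (11, 3), (11, 4), (11, 5), (11, 6), (11, 7), (11, 8), (12, 0), (12, 1), (12, 2), (12, 3), (12, 4), (12, 5), (12, 6), (12, 7), (12, 8), (13, 1), (13, 2), (13, 3), (13, 4), (13, 5), (13, 6), (13, 7), (13, 8), (14, 1), (14, 4), (14, 5), (14, 6), (14, 7), (14,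 8), (15, 2), (15, 5), (15, 6), (15, 7), (16, 0), (16, 1), (16, 3)],
  [(0, 0), (0, 1), (0, 2), (0, 3), (0, 4), (0, 5), (0, 6), (0, 7), (0, 8), (1, 0), (1, 1), (1, 2), (1, 3), (1, 4), (1, 5), (1, 6), (1, 7), (1, 8), (2, 0), (2, 1), (2, 2), (2, 3), (2, 4), (2, 5), (2, 6), (2, 7), (2, 8), (3, 0), (3, 1), (3, 2), (3, 3), (3, 4), (3, 5), (3, 6), (3, 7), (3, 8), (4, 1), (4, 2), (4, 3), (4, 4), (4, 5), (4, 6), (4, 7), (4, 8), (5, 1), (5, 5), (5, 6), (5, 7), (5, 8), (6, 0), (6, 2), (6, 5), (6, 6), (6, 7), (7, 0), (7, 1), (7, 3), (7, 6), (7, 7), (7, 8), (8, 1), (8, 2), (8, 7), (8, 8), (9, 2), (9, 3), (9, 8), (10, 1), (10, 2), (10, 3), (10, 4), (10, 5), (10, 6), (10, 7), (10, 8), (11, 1), (11, 2), (11, 3), (11, 4), (11, 5), (11, 6), (11, 7), (11, 8), (12, 0), (12, 1), (12, 2), (12, 3), (12, 4), (12, 5), (12, 6), (12, 7), (12, 8), (13, 1), (13, 2), (13, 3), (13, 4), (13, 5),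 (13, 6), (13, 7), (13, 8), (14, 1), (14, 4), (14, 5), (14, 6), (14, 7), (14, 8), (15, 2), (15, 5), (15, 6), (15, 7), (16, 1), (16, 3)],
  [(0, 0), (0, 1), (0, 2), (0, 3), (0, 4), (0, 5), (0, 6), (0, 7), (0, 8), (1, 0), (1, 1), (1, 2), (1, 3), (1, 4), (1, 5), (1, 6), (1, 7), (1, 8), (2, 0), (2, 1), (2, 2), (2, 3), (2, 4), (2, 5), (2, 6), (2, 7), (2, 8), (3, 0), (3, 2), (3, 3), (3, 4), (3, 5), (3, 6), (3, 7), (3, 8), (4, 1), (4, 3), (4, 4), (4, 5), (4, 6), (4, 7), (4, 8), (5, 1), (5, 4), (5, 5), (5, 6), (5, 7), (5, 8), (6, 0), (6, 2), (6, 5), (6, 6), (6, 7), (7, 0), (7, 1), (7, 3), (7, 6), (7, 7), (7, 8), (8, 1), (8, 2), (8, 7), (8, 8), (9, 2), (9, 3), (9, 8), (10, 1), (10, 2), (10, 3), (10, 4), (10, 5), (10, 6), (10, 7), (10, 8), (11, 1), (11, 2), (11, 3), (11, 4), (11, 5), (11, 6), (11, 7), (11, 8), (12, 0), (12, 2), (12, 3), (12, 4), (12, 5), (12, 6), (12, 7), (12,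 8), (13, 1), (13, 3), (13, 4), (13, 5), (13, 6), (13, 7), (13, 8), (14, 1), (14, 4), (14, 5), (14, 6), (14, 7), (14, 8), (15, 0), (15, 2), (15, 5), (15, 6), (15, 7), (16, 0), (16, 1), (16, 3), (16, 6)],
  [(0, 0), (0, 1), (0, 2), (0, 3), (0, 4), (0, 5), (0, 6), (0, 7), (0, 8), (1, 0), (1, 1), (1, 2), (1, 3), (1, 4), (1, 5), (1, 6), (1, 7), (1, 8), (2, 0), (2, 1), (2, 2), (2, 3), (2, 4), (2, 5), (2, 6), (2, 7), (2, 8), (3, 0), (3, 2), (3, 3), (3, 4), (3, 5), (3, 6), (3, 7), (3, 8), (4, 1), (4, 3), (4, 4), (4, 5), (4, 6), (4, 7), (4, 8), (5, 1), (5, 4), (5, 5), (5, 6), (5, 7), (5, 8), (6, 0), (6, 2), (6, 5), (6, 6), (6, 7), (7, 0), (7, 1), (7, 3), (7, 6), (7, 7), (7, 8), (8, 1), (8, 2), (8, 7), (8, 8), (9, 2), (9, 3), (9, 8), (10, 1), (10, 2), (10, 3), (10, 4), (10, 5), (10, 6), (10, 7), (10, 8), (11, 1), (11, 2), (11, 3), (11, 4), (11, 5), (11, 6), (11, 7), (11, 8),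 (12, 0), (12, 2), (12, 3), (12, 4), (12, 5), (12, 6), (12, 7), (12, 8), (13, 1), (13, 3), (13, 4), (13, 5), (13, 6), (13, 7), (13, 8), (14, 1), (14, 4), (14, 5), (14, 6), (14, 7), (14, 8), (15, 0), (15, 2), (15, 5), (15, 6), (15, 7), (16, 0), (16, 1), (16, 3), (16, 6)],
  [(0, 0), (0, 1), (0, 2), (0, 3), (0, 4), (0, 5), (0, 6), (0, 7), (0, 8), (1, 0), (1, 1), (1, 2), (1, 3), (1, 4), (1, 5), (1, 6), (1, 7), (1, 8), (2, 0), (2, 1), (2, 2), (2, 3), (2, 4), (2, 5), (2, 6), (2, 7), (2, 8), (3, 0), (3, 2), (3, 3), (3, 4), (3, 5), (3, 6), (3, 7), (3, 8), (4, 1), (4, 3), (4, 4), (4, 5), (4, 6), (4, 7), (4, 8), (5, 1), (5, 4), (5, 5), (5, 6), (5, 7), (5, 8), (6, 0), (6, 2), (6, 5), (6, 6), (6, 7), (7, 0), (7, 1), (7, 3), (7, 6), (7, 7), (7, 8), (8, 1), (8, 2), (8, 7), (8, 8), (9, 2), (9, 3), (9, 8), (10, 1), (10, 2), (10, 3), (10, 4), (10, 5), (10, 6), (10, 7), (10, 8), (11,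 1), (11, 2), (11, 3), (11, 4), (11, 5), (11, 6), (11, 7), (11, 8), (12, 0), (12, 2), (12, 3), (12, 4), (12, 5), (12, 6), (12, 7), (12, 8), (13, 1), (13, 3), (13, 4), (13, 5), (13, 6), (13, 7), (13, 8), (14, 1), (14, 4), (14, 5), (14, 6), (14, 7), (14, 8), (15, 0), (15, 2), (15, 5), (15, 6), (15, 7), (16, 0), (16, 1), (16, 3), (16, 6)],
  [(0, 0), (0, 1), (0, 2), (0, 3), (0, 4), (0, 5), (0, 6), (0, 7), (0, 8), (1, 0), (1, 1), (1, 2), (1, 3), (1, 4), (1, 5), (1, 6), (1, 7), (1, 8), (2, 0), (2, 1), (2, 2), (2, 3), (2, 4), (2, 5), (2, 6), (2, 7), (2, 8), (3, 0), (3, 1), (3, 2), (3, 3), (3, 4), (3, 5), (3, 6), (3, 7), (3, 8), (4, 1), (4, 2), (4, 3), (4, 4), (4, 5), (4, 6), (4, 7), (4, 8), (5, 1), (5, 4), (5, 5), (5, 6), (5, 7), (5, 8), (6, 0), (6, 2), (6, 5), (6, 6), (6, 7), (7, 0), (7, 1), (7, 3), (7, 6), (7, 7), (7, 8), (8, 1), (8, 2), (8, 7), (8, 8), (9, 2), (9, 3),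 (9, 8), (10, 1), (10, 2), (10, 3), (10, 4), (10, 5), (10, 6), (10, 7), (10, 8), (11, 1), (11, 2), (11, 3), (11, 4), (11, 5), (11, 6), (11, 7), (11, 8), (12, 0), (12, 1), (12, 2), (12, 3), (12, 4), (12, 5), (12, 6), (12, 7), (12, 8), (13, 1), (13, 2), (13, 3), (13, 4), (13, 5), (13, 6), (13, 7), (13, 8), (14, 1), (14, 4), (14, 5), (14, 6), (14, 7), (14, 8), (15, 0), (15, 2), (15, 5), (15, 6), (15, 7)],
  [(0, 1), (0, 2), (0, 3), (0, 4), (0, 5), (0, 6), (0, 7), (0, 8), (1, 2), (1, 3), (1, 4), (1, 5), (1, 6), (1, 7), (1, 8), (2, 0), (2, 2), (2, 3), (2, 4), (2, 5), (2, 6), (2, 7), (2, 8), (3, 1), (3, 2), (3, 3), (3, 4), (3, 5), (3, 6), (3, 7), (3, 8), (4, 1), (4, 4), (4, 5), (4, 6), (4, 7), (4, 8), (5, 0), (5, 2), (5, 5), (5, 6), (5, 7), (6, 0), (6, 1), (6, 3), (6, 6), (6, 7), (6, 8), (7, 1), (7, 2), (7, 7), (7, 8), (8, 2), (8, 3), (8, 8), (9, 0), (9, 2), (9, 3), (9,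 4), (9, 5), (9, 6), (9, 7), (9, 8), (10, 1), (10, 2), (10, 3), (10, 4), (10, 5), (10, 6), (10, 7), (10, 8), (11, 1), (11, 4), (11, 6), (11, 7), (11, 8), (12, 0), (12, 2), (12, 5), (12, 6), (12, 7), (13, 0), (13, 1), (13, 3), (13, 6), (13, 7), (13, 8), (14, 1), (14, 2), (14, 7), (14, 8), (15, 2), (15, 3), (15, 8), (16, 3), (16, 4), (16, 5), (16, 6), (16, 7), (16, 8), (17, 0), (17, 3), (17, 4), (17, 5), (17, 6), (17, 7), (17, 8), (18, 1), (18, 3), (18, 4), (18, 5), (18, 6)],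
  [(0, 1), (0, 2), (0, 3), (0, 4), (0, 5), (0, 6), (0, 7), (0, 8), (1, 2), (1, 3), (1, 4), (1, 5), (1, 6), (1, 7), (1, 8), (2, 0), (2, 2), (2, 3), (2, 4), (2, 5), (2, 6), (2, 7), (2, 8), (3, 1), (3, 2), (3, 3), (3, 4), (3, 5), (3, 6), (3, 7), (3, 8), (4, 1), (4, 4), (4, 5), (4, 6), (4, 7), (4, 8), (5, 0), (5, 2), (5, 5), (5, 6), (5, 7), (6, 0), (6, 1), (6, 3), (6, 6), (6, 7), (6, 8), (7, 1), (7, 2), (7, 7), (7, 8), (8, 2), (8, 3), (8, 8), (9, 0), (9, 2), (9, 3), (9, 4), (9, 5), (9, 6), (9, 7), (9, 8), (10, 1), (10, 2), (10, 3), (10, 4), (10, 5), (10, 6), (10, 7), (10, 8), (11, 1), (11, 4), (11, 6), (11, 7), (11, 8), (12, 0), (12, 2), (12, 5), (12, 6), (12, 7), (13, 0), (13, 1), (13, 3), (13, 6), (13, 7), (13, 8), (14, 1), (14, 2), (14, 7), (14, 8), (15, 2), (15, 3), (15, 8), (16, 3), (16, 4), (16, 5), (16, 6), (16, 7), (16, 8), (17, 0), (17, 3), (17, 4), (17, 5),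 (17, 6), (17, 7), (17, 8), (18, 1), (18, 3), (18, 4), (18, 5), (18, 6)],
  [(0, 0), (0, 1), (0, 2), (0, 3), (0, 4), (0, 5), (0, 6), (0, 7), (0, 8), (1, 1), (1, 2), (1, 3), (1, 4), (1, 5), (1, 6), (1, 7), (1, 8), (2, 0), (2, 1), (2, 2), (2, 3), (2, 4), (2, 5), (2, 6), (2, 7), (2, 8), (3, 0), (3, 1), (3, 2), (3, 3), (3, 4), (3, 5), (3, 6), (3, 7), (3, 8), (4, 1), (4, 3), (4, 4), (4, 6), (4, 7), (4, 8), (5, 1), (5, 4), (5, 6), (5, 7), (5, 8), (6, 2), (6, 5), (6, 6), (6, 7), (7, 0), (7, 1), (7, 3), (7, 6), (7, 7), (7, 8), (8, 1), (8, 2), (8, 7), (8, 8), (9, 2), (9, 3), (9, 8), (10, 1), (10, 2), (10, 3), (10, 4), (10, 5), (10, 6), (10, 7), (10, 8), (11, 0), (11, 2), (11, 3), (11, 4), (11, 5), (11, 6), (11, 7), (11, 8), (12, 1), (12, 3), (12, 4), (12, 5), (12, 6), (12, 7), (12, 8), (13, 1), (13, 5), (13, 6), (13, 7), (14, 2), (14, 6), (15, 3), (15, 6), (15, 7), (15, 8),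 (16, 1), (16, 2), (16, 7), (16, 8), (17, 2), (17, 3), (17, 8), (18, 0), (18, 2), (18, 4), (18, 5), (18, 6), (18, 7), (18, 8), (19, 0), (19, 2)],
  [(0, 0), (0, 1), (0, 2), (0, 3), (0, 4), (0, 5), (0, 6), (0, 7), (0, 8), (1, 0), (1, 1), (1, 2), (1, 3), (1, 5), (1, 6), (1, 7), (1, 8), (2, 0), (2, 1), (2, 2), (2, 3), (2, 4), (2, 5), (2, 6), (2, 7), (2, 8), (3, 0), (3, 1), (3, 2), (3, 3), (3, 4), (3, 5), (3, 6), (3, 7), (3, 8), (4, 1), (4, 3), (4, 4), (4, 5), (4, 6), (4, 7), (4, 8), (5, 1), (5, 5), (5, 6), (5, 7), (6, 2), (6, 6), (7, 1), (7, 3), (7, 6), (7, 7), (7, 8), (8, 1), (8, 2), (8, 7), (8, 8), (9, 2), (9, 3), (9, 8), (10, 1), (10, 2), (10, 4), (10, 6), (10, 7), (10, 8), (11, 1), (11, 2), (11, 3), (11, 5), (11, 6), (11, 7), (11, 8), (12, 0), (12, 2), (12, 3), (12, 5), (12, 6), (12, 7), (12, 8), (13, 1), (13, 3), (13, 5), (13, 6), (13, 7), (13, 8), (14, 0), (14,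 2), (14, 6), (14, 7), (15, 1), (15, 3), (15, 6), (15, 7), (15, 8), (16, 1), (16, 2), (16, 7), (16, 8), (17, 2), (17, 3), (17, 8), (18, 0), (18, 2), (18, 4), (18, 5), (18, 6), (18, 7), (18, 8), (19, 0), (19, 2), (19, 3)],
  [(0, 0), (0, 1), (0, 2), (0, 3), (0, 4), (0, 5), (0, 6), (0, 7), (0, 8), (1, 1), (1, 2), (1, 3), (1, 4), (1, 5), (1, 6), (1, 7), (1, 8), (2, 1), (2, 2), (2, 3), (2, 4), (2, 5), (2, 6), (2, 7), (2, 8), (3, 0), (3, 2), (3, 3), (3, 4), (3, 5), (3, 6), (3, 7), (3, 8), (4, 1), (4, 2), (4, 3), (4, 4), (4, 5), (4, 6), (4, 7), (4, 8), (5, 1), (5, 4), (5, 6), (5, 7), (5, 8), (6, 5), (6, 6), (6, 7), (7, 0), (7, 1), (7, 3), (7, 6), (7, 7), (7, 8), (8, 1), (8, 2), (8, 7), (8, 8), (9, 2), (9, 3), (9, 8), (10, 2), (10, 3), (10, 4), (10, 5), (10, 6), (10, 7), (10, 8), (11, 0), (11, 2), (11, 3), (11, 4), (11, 5), (11, 6), (11, 7), (11, 8), (12, 1), (12, 2), (12,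 3), (12, 4), (12, 5), (12, 6), (12, 7), (12, 8), (13, 1), (13, 5), (13, 6), (13, 7), (14, 2), (14, 6), (15, 3), (15, 6), (15, 7), (15, 8), (16, 1), (16, 2), (16, 7), (16, 8), (17, 2), (17, 3), (17, 8), (18, 0), (18, 2), (18, 3), (18, 5), (18, 6), (18, 7), (18, 8), (19, 0), (19, 2), (19, 3)],
  [(0, 0), (0, 1), (0, 2), (0, 3), (0, 4), (0, 5), (0, 6), (0, 7), (0, 8), (1, 0), (1, 1), (1, 2), (1, 3), (1, 5), (1, 6), (1, 7), (1, 8), (2, 0), (2, 1), (2, 2), (2, 3), (2, 4), (2, 5), (2, 6), (2, 7), (2, 8), (3, 0), (3, 1), (3, 2), (3, 3), (3, 4), (3, 5), (3, 6), (3, 7), (3, 8), (4, 1), (4, 3), (4, 4), (4, 5), (4, 6), (4, 7), (4, 8), (5, 1), (5, 5), (5, 6), (5, 7), (6, 2), (6, 6), (7, 1), (7, 3), (7, 6), (7, 7), (7, 8), (8, 1), (8, 2), (8, 7), (8, 8), (9, 2), (9, 3), (9, 8), (10, 1), (10, 2), (10, 4), (10, 6), (10, 7), (10, 8), (11, 1), (11, 2), (11, 3), (11, 5), (11, 6),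 (11, 7), (11, 8), (12, 0), (12, 2), (12, 3), (12, 5), (12, 6), (12, 7), (12, 8), (13, 1), (13, 3), (13, 5), (13, 6), (13, 7), (13, 8), (14, 0), (14, 2), (14, 6), (14, 7), (15, 1), (15, 3), (15, 6), (15, 7), (15, 8), (16, 1), (16, 2), (16, 7), (16, 8), (17, 2), (17, 3), (17, 8), (18, 0), (18, 2), (18, 4), (18, 5), (18, 6), (18, 7), (18, 8), (19, 0), (19, 2), (19, 3)],
  [(0, 1), (0, 2), (0, 4), (0, 5), (0, 6), (0, 7), (0, 8), (1, 2), (1, 3), (1, 4), (1, 5), (1, 6), (1, 7), (1, 8), (2, 0), (2, 2), (2, 4), (2, 5), (2, 6), (2, 7), (2, 8), (3, 1), (3, 4), (3, 5), (3, 6), (3, 7), (3, 8), (4, 0), (4, 2), (4, 5), (4, 6), (4, 7), (5, 0), (5, 1), (5, 3), (5, 6), (5, 8), (6, 1), (6, 2), (6, 7), (6, 8), (7, 2), (7, 3), (7, 8), (8, 0), (8, 3), (8, 4), (8, 5), (8, 6), (8, 7), (8, 8), (9, 3), (9, 4), (9, 5), (9, 6), (9, 7), (9, 8), (10, 1), (10, 4), (10, 6), (10, 7), (10, 8), (11,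 0), (11, 2), (11, 5), (11, 6), (11, 7), (12, 0), (12, 1), (12, 3), (12, 6), (12, 7), (12, 8), (13, 1), (13, 2), (13, 7), (13, 8), (14, 2), (14, 3), (14, 8), (15, 3), (15, 4), (15, 5), (15, 6), (15, 7), (15, 8), (16, 3), (16, 4), (16, 5), (16, 6), (16, 7), (16, 8), (17, 4), (17, 6), (17, 7), (17, 8), (18, 0), (18, 2), (18, 5), (18, 7), (19, 0), (19, 1), (19, 3), (19, 6), (19, 7), (19, 8), (20, 1), (20, 2), (20, 7), (20, 8), (21, 2), (21, 3)],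
  [(0, 1), (0, 2), (0, 4), (0, 5), (0, 6), (0, 7), (0, 8), (1, 2), (1, 3), (1, 4), (1, 5), (1, 6), (1, 7), (1, 8), (2, 0), (2, 2), (2, 4), (2, 5), (2, 6), (2, 7), (2, 8), (3, 1), (3, 4), (3, 5), (3, 6), (3, 7), (3, 8), (4, 0), (4, 2), (4, 5), (4, 6), (4, 7), (5, 0), (5, 1), (5, 3), (5, 6), (5, 8), (6, 1), (6, 2), (6, 7), (6, 8), (7, 2), (7, 3), (7, 8), (8, 0), (8, 3), (8, 4), (8, 5), (8, 6), (8, 7), (8, 8), (9, 3), (9, 4), (9, 5), (9, 6), (9, 7), (9, 8), (10, 1), (10, 4), (10, 6), (10, 7), (10, 8), (11, 0), (11, 2), (11, 5), (11, 6), (11, 7), (12, 0), (12, 1), (12, 3), (12, 6), (12, 7), (12, 8), (13, 1), (13, 2), (13, 7), (13, 8), (14, 2), (14, 3), (14, 8), (15, 3), (15, 4), (15, 5), (15, 6), (15, 7), (15, 8), (16, 3), (16, 4), (16, 5), (16, 6), (16, 7), (16, 8), (17, 4), (17, 6), (17, 7), (17, 8), (18, 0), (18, 2), (18, 5), (18, 7), (19, 0), (19, 1), (19, 3), (19,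 6), (19, 7), (19, 8), (20, 1), (20, 2), (20, 7), (20, 8), (21, 2), (21, 3)],
  [(0, 0), (0, 1), (0, 2), (0, 3), (0, 4), (0, 5), (0, 6), (0, 7), (0, 8), (1, 1), (1, 2), (1, 3), (1, 4), (1, 5), (1, 6), (1, 7), (1, 8), (2, 1), (2, 2), (2, 3), (2, 4), (2, 5), (2, 6), (2, 7), (2, 8), (3, 0), (3, 3), (3, 4), (3, 5), (3, 6), (3, 7), (3, 8), (4, 1), (4, 3), (4, 4), (4, 5), (4, 6), (4, 7), (4, 8), (5, 1), (5, 4), (5, 5), (5, 6), (5, 7), (5, 8), (6, 0), (6, 2), (6, 5), (6, 6), (6, 7), (7, 0), (7, 1), (7, 3), (7, 6), (7, 7), (7, 8), (8, 1), (8, 2), (8, 7), (8, 8), (9, 2), (9, 3), (9, 8), (10, 1), (10, 2), (10, 3), (10, 4), (10, 5), (10, 6), (10, 7), (10, 8), (11, 0), (11, 2), (11, 3), (11, 4), (11, 5), (11, 6), (11, 7), (11, 8), (12, 1), (12, 3), (12, 4), (12, 5), (12, 6), (12, 7), (12, 8), (13, 1), (13, 4), (13, 5), (13, 6), (13, 7), (13, 8), (14, 0), (14, 2), (14, 5), (14,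 6), (14, 7), (15, 0), (15, 1), (15, 3), (15, 6), (15, 7), (15, 8), (16, 1), (16, 2), (16, 7), (16, 8), (17, 2), (17, 3), (17, 8), (18, 2), (18, 3)],
  [(0, 0), (0, 2), (0, 3), (0, 4), (0, 5), (0, 6), (0, 7), (0, 8), (1, 0), (1, 2), (1, 3), (1, 4), (1, 5), (1, 6), (1, 7), (1, 8), (2, 0), (2, 3), (2, 4), (2, 5), (2, 6), (2, 7), (2, 8), (3, 1), (3, 3), (3, 4), (3, 5), (3, 6), (3, 7), (3, 8), (4, 1), (4, 4), (4, 6), (4, 7), (4, 8), (5, 0), (5, 2), (5, 5), (5, 6), (5, 7), (6, 0), (6, 1), (6, 3), (6, 6), (6, 7), (6, 8), (7, 1), (7, 2), (7, 7), (7, 8), (8, 2), (8, 3), (8, 8), (9, 1), (9, 2), (9, 3), (9, 4), (9, 5), (9, 6), (9, 7), (9, 8), (10, 0), (10, 3), (10, 4), (10, 5), (10, 6), (10, 7), (10, 8), (11, 3), (11, 4), (11, 5), (11, 6), (11, 7), (11, 8), (12, 1), (12, 4), (12, 5), (12, 6), (12, 7), (12, 8), (13, 0), (13, 2), (13, 5), (13, 6), (13, 7), (14, 0), (14, 1), (14,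 3), (14, 6), (14, 7), (14, 8), (15, 1), (15, 2), (15, 7), (15, 8), (16, 2), (16, 3), (16, 8), (17, 3), (17, 4), (17, 5), (17, 6), (17, 7), (17, 8), (18, 1), (18, 3), (18, 4), (18, 5), (18, 7), (18, 8), (19, 1), (19, 4)],
  [(0, 0), (0, 2), (0, 3), (0, 4), (0, 5), (0, 6), (0, 7), (0, 8), (1, 0), (1, 2), (1, 3), (1, 4), (1, 5), (1, 6), (1, 7), (1, 8), (2, 0), (2, 3), (2, 4), (2, 5), (2, 6), (2, 7), (2, 8), (3, 1), (3, 3), (3, 4), (3, 5), (3, 6), (3, 7), (3, 8), (4, 1), (4, 4), (4, 6), (4, 7), (4, 8), (5, 0), (5, 2), (5, 5), (5, 6), (5, 7), (6, 0), (6, 1), (6, 3), (6, 6), (6, 7), (6, 8), (7, 1), (7, 2), (7, 7), (7, 8), (8, 2), (8, 3), (8, 8), (9, 1), (9, 2), (9, 3), (9, 4), (9, 5), (9, 6), (9, 7), (9, 8), (10, 0), (10, 3), (10, 4), (10, 5), (10, 6), (10, 7), (10, 8), (11, 1), (11, 3), (11, 4), (11, 5), (11, 6), (11, 7), (11, 8), (12, 1), (12, 4), (12, 5), (12, 6), (12,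 7), (12, 8), (13, 0), (13, 2), (13, 5), (13, 6), (13, 7), (14, 0), (14, 1), (14, 3), (14, 6), (14, 7), (14, 8), (15, 1), (15, 2), (15, 7), (15, 8), (16, 2), (16, 3), (16, 8), (17, 3), (17, 5), (17, 6), (17, 7), (17, 8), (18, 1), (18, 3), (18, 4), (18, 6), (18, 7), (18, 8), (19, 1), (19, 4)],
  [(0, 0), (0, 1), (0, 2), (0, 5), (0, 6), (0, 7), (0, 8), (1, 0), (1, 1), (1, 2), (1, 4), (1, 6), (1, 7), (1, 8), (2, 2), (2, 3), (2, 4), (2, 5), (2, 6), (2, 7), (2, 8), (3, 0), (3, 2), (3, 5), (3, 6), (3, 7), (3, 8), (4, 0), (4, 2), (4, 6), (4, 7), (5, 0), (5, 1), (5, 3), (5, 6), (5, 8), (6, 1), (6, 2), (6, 7), (6, 8), (7, 2), (7, 3), (7, 8), (8, 1), (8, 2), (8, 4), (8, 5), (8, 6), (8, 7), (8, 8), (9, 2), (9, 3), (9, 4), (9, 5), (9, 7), (9, 8), (10, 0), (10, 2), (10, 4), (10, 5), (10, 6), (10, 7), (10, 8), (11, 1), (11, 6), (11, 8), (12, 0), (12, 1), (12, 3), (12, 6), (12,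 8), (13, 1), (13, 2), (13, 7), (13, 8), (14, 2), (14, 8), (15, 0), (15, 3), (15, 4), (15, 5), (15, 6), (15, 7), (15, 8), (16, 3), (16, 4), (16, 5), (16, 6), (16, 7), (16, 8), (17, 4), (17, 6), (17, 7), (17, 8), (18, 0), (18, 2), (18, 5), (18, 6), (18, 7), (19, 0), (19, 1), (19, 3), (19, 6), (19, 7), (20, 1), (20, 2), (20, 7), (20, 8), (21, 2), (21, 3), (21, 8), (22, 3)],
  [(0, 0), (0, 2), (0, 3), (0, 4), (0, 5), (0, 6), (0, 7), (0, 8), (1, 0), (1, 2), (1, 3), (1, 4), (1, 5), (1, 6), (1, 7), (1, 8), (2, 0), (2, 3), (2, 4), (2, 5), (2, 6), (2, 7), (2, 8), (3, 1), (3, 3), (3, 4), (3, 5), (3, 6), (3, 7), (3, 8), (4, 1), (4, 4), (4, 6), (4, 7), (4, 8), (5, 0), (5, 2), (5, 5), (5, 6), (5, 7), (6, 0), (6, 1), (6, 3), (6, 6), (6, 7), (6, 8), (7, 1), (7, 2), (7, 7), (7, 8), (8, 2), (8, 3), (8, 8), (9, 1), (9, 2), (9, 3), (9, 4), (9, 5), (9, 6), (9, 7), (9, 8), (10, 0), (10,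 3), (10, 4), (10, 5), (10, 6), (10, 7), (10, 8), (11, 1), (11, 3), (11, 4), (11, 5), (11, 6), (11, 7), (11, 8), (12, 1), (12, 4), (12, 5), (12, 6), (12, 7), (12, 8), (13, 0), (13, 2), (13, 5), (13, 6), (13, 7), (14, 0), (14, 1), (14, 3), (14, 6), (14, 7), (14, 8), (15, 1), (15, 2), (15, 7), (15, 8), (16, 2), (16, 3), (16, 8), (17, 3), (17, 5), (17, 6), (17, 7), (17, 8), (18, 1), (18, 3), (18, 4), (18, 5), (18, 6), (18, 7), (18, 8), (19, 1)]]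

end CfsgLib.Chev.U43U6
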