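import Cfsg.Agent.Lib.Chev.U43InU6.Code

/-!
Orbits of the monomial subgroup on points.
-/

set_option autoImplicit false

namespace CfsgLib.Chev.U43U6

/-- The representatives. -/
def ptReps : List ℕ := [0, 3, 75]

/-- For each point its representative and a word. -/
def ptWords : List (ℕ × List ℕ) := [
  (0, []),
  (0, [3, 2]),
  (0, [3]),
  (1, []),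
  (1, [6, 3, 6]),
  (1, [6, 3, 3]),
  (1, [6, 6, 3]),
  (1, [6]),
  (1, [7]),
  (1, [6, 3]),
  (1, [7, 7]),
  (1, [6, 6]),
  (0, [3, 1, 0]),
  (1, [2]),
  (1, [2, 5, 7]),
  (1, [2, 7, 8]),
  (1, [2, 7, 7]),
  (1, [2, 5]),
  (1, [2, 8]),
  (1, [2, 7]),
  (1, [7, 2]),
  (1, [2, 6]),
  (1, [2, 2]),
  (1, [2, 2, 8, 8]),
  (1, [2, 2, 8]),
  (1, [2, 2, 3]),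
  (1, [2, 2, 3, 8]),
  (1, [2, 5, 2, 3]),
  (1, [2, 2, 7]),
  (1, [2, 2, 5]),
  (1, [2, 2, 6]),
  (1, [2, 2, 3, 6, 8]),
  (1, [2, 2, 3, 5]),
  (1, [2, 2, 3, 6]),
  (1, [2, 5, 2]),
  (1, [2, 8, 2]),
  (1, [2, 6, 3]),
  (1, [2, 2, 8, 3]),
  (1, [2, 2, 6, 3]),
  (1, [2, 6, 3, 3]),
  (0, [3, 1]),
  (1, [1]),
  (1, [1, 4, 7]),
  (1, [1, 7, 8]),
  (1, [1, 7, 7]),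
  (1, [1, 4]),
  (1, [1, 8]),
  (1, [1, 7]),
  (1, [1, 8, 8]),
  (1, [1, 5]),
  (1, [1, 3]),
  (1, [1, 3, 4, 6]),
  (1, [1, 3, 8]),
  (1, [1, 3, 3]),
  (1, [1, 3, 3, 8]),
  (1, [1, 3, 6, 3]),
  (1, [1, 3, 7]),
  (1, [1, 3, 4]),
  (1, [1, 2, 5, 2]),
  (1, [1, 2, 6, 3, 2]),
  (1, [1, 3, 3, 4]),
  (1, [1, 3, 3, 7]),
  (1, [1, 3, 6]),
  (1, [1, 8, 3]),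
  (1, [1, 3, 5]),
  (1, [1, 3, 3, 6]),
  (1, [1, 2, 5, 2, 3]),
  (1, [1, 3, 3, 5]),
  (1, [1, 2]),
  (1, [1, 2, 8, 8]),
  (1, [1, 2, 8]),
  (1, [1, 2, 3, 3]),
  (1, [1, 2, 3, 3, 8]),
  (1, [1, 2, 3, 3, 7]),
  (1, [1, 2, 3]),
  (2, []),
  (2, [4, 6, 1, 7]),
  (2, [4, 8, 2, 5]),
  (2, [4, 8, 2, 6]),
  (2, [5, 2, 5]),
  (2, [8]),
  (2, [7, 1, 4]),
  (2, [8, 8]),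
  (2, [5, 2, 6]),
  (1, [1, 2, 3, 7]),
  (2, [4, 4, 1, 1]),
  (2, [7, 1, 5]),
  (2, [7, 8]),
  (2, [7, 1, 3, 5]),
  (2, [4, 1, 4]),
  (2, [5, 7, 1]),
  (2, [7]),
  (2, [4, 7, 2]),
  (2, [4, 4, 6]),
  (1, [1, 2, 8, 3]),
  (2, [4, 1, 1]),
  (2, [8, 3]),
  (2, [7, 2, 5]),
  (2, [7, 7]),
  (2, [4, 6, 1]),
  (2, [4, 1, 1, 8]),
  (2, [4, 6, 1, 8]),
  (2, [4, 4, 8, 2]),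
  (2, [4, 1, 5]),
  (1, [1, 2, 6]),
  (1, [1, 2, 4]),
  (1, [1, 2, 5]),
  (1, [1, 2, 3, 3, 6]),
  (1, [1, 2, 3, 3, 4]),
  (1, [1, 2, 3, 3, 5]),
  (1, [1, 2, 6, 3]),
  (2, [4, 4, 1]),
  (2, [6, 1, 7]),
  (2, [8, 2]),
  (2, [4, 7, 2, 5]),
  (2, [8, 2, 8]),
  (2, [5, 7]),
  (2, [6, 3]),
  (2, [4, 7, 7]),
  (2, [4, 4, 6, 6]),
  (1, [1, 2, 3, 4]),
  (2, [4, 1, 1, 6]),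
  (2, [8, 3, 6]),
  (2, [4, 8, 8]),
  (2, [6, 3, 7]),
  (2, [4]),
  (2, [8, 3, 1]),
  (2, [4, 8]),
  (2, [6, 1, 2]),
  (2, [6, 8, 2]),
  (1, [1, 2, 3, 5]),
  (2, [6]),
  (2, [4, 7]),
  (2, [4, 1, 8, 2]),
  (2, [4, 7, 8]),
  (2, [6, 1]),
  (2, [6, 8]),
  (2, [6, 1, 8]),
  (2, [6, 8, 3]),
  (2, [5]),
  (1, [1, 7, 2]),
  (1, [1, 2, 4, 6]),
  (1, [1, 5, 2]),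
  (1, [1, 3, 3, 4, 1]),
  (1, [1, 3, 3, 7, 1]),
  (1, [1, 3, 3, 5, 2]),
  (1, [1, 7, 2, 3]),
  (2, [4, 1]),
  (2, [7, 2, 3]),
  (2, [7, 1, 7]),
  (2, [7, 2]),
  (2, [4, 6]),
  (2, [4, 1, 8]),
  (2, [4, 6, 8]),
  (2, [4, 1, 8, 8]),
  (2, [6, 1, 4]),
  (1, [1, 2, 3, 5, 5]),
  (2, [6, 6]),
  (2, [4, 6, 3]),
  (2, [4, 1, 7, 8]),
  (2, [4, 8, 2]),
  (2, [5, 5]),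
  (2, [6, 6, 8]),
  (2, [4, 1, 7]),
  (2, [6, 6, 8, 8]),
  (2, [5, 2]),
  (1, [1, 5, 2, 3]),
  (2, [4, 1, 4, 1]),
  (2, [4, 4, 8]),
  (2, [8, 2, 6]),
  (2, [4, 1, 7, 2]),
  (2, [4, 4, 6, 1]),
  (2, [7, 1]),
  (2, [6, 3, 6]),
  (2, [7, 1, 3]),
  (2, [4, 4]),
  (0, [3, 1, 0, 0]),
  (1, [2, 0]),
  (1, [2, 0, 4, 8]),
  (1, [2, 0, 7, 8]),
  (1, [2, 0, 7, 7]),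
  (1, [2, 5, 0]),
  (1, [2, 0, 8]),
  (1, [2, 0, 7]),
  (1, [7, 2, 0]),
  (1, [2, 0, 4]),
  (1, [2, 0, 3]),
  (1, [2, 0, 3, 8, 8]),
  (1, [2, 0, 3, 8]),
  (1, [2, 0, 3, 3]),
  (1, [2, 0, 3, 3, 8]),
  (1, [2, 0, 3, 6, 3]),
  (1, [2, 0, 3, 7]),
  (1, [2, 2, 5, 0]),
  (1, [2, 2, 6, 0]),
  (1, [1, 2, 0, 6, 3, 2]),
  (1, [2, 2, 3, 5, 0]),
  (1, [2, 0, 3, 3, 7]),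
  (1, [2, 0, 3, 6]),
  (1, [2, 0, 8, 3]),
  (1, [2, 0, 3, 4]),
  (1, [2, 0, 3, 3, 6]),
  (1, [2, 2, 6, 0, 3]),
  (1, [2, 0, 3, 3, 4]),
  (1, [1, 2, 0]),
  (1, [1, 2, 0, 8, 8]),
  (1, [1, 2, 0, 8]),
  (1, [1, 2, 0, 3, 3]),
  (1, [1, 2, 0, 3, 3, 8]),
  (1, [1, 2, 0, 3, 3, 7]),
  (1, [1, 2, 0, 3]),
  (2, [0]),
  (2, [6, 0, 6, 8]),
  (2, [0, 8, 2, 5]),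
  (2, [7, 2, 0, 4]),
  (2, [5, 0, 6]),
  (2, [0, 8]),
  (2, [0, 5, 2, 2]),
  (2, [0, 8, 8]),
  (2, [6, 0, 6]),
  (1, [1, 2, 0, 3, 7]),
  (2, [0, 5, 5, 2]),
  (2, [0, 4, 6, 8]),
  (2, [0, 7, 8]),
  (2, [0, 4, 6, 8, 3]),
  (2, [0, 4, 4, 5]),
  (2, [5, 7, 1, 0]),
  (2, [0, 7]),
  (2, [4, 7, 2, 0]),
  (2, [0, 4, 6]),
  (1, [1, 2, 0, 8, 3]),
  (2, [0, 5, 2]),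
  (2, [0, 8, 3]),
  (2, [6, 0, 6, 3]),
  (2, [0, 7, 7]),
  (2, [4, 6, 1, 0]),
  (2, [0, 4, 6, 3]),
  (2, [0, 5, 2, 5, 2]),
  (2, [0, 4, 8, 2]),
  (2, [0, 4, 5, 5]),
  (1, [1, 2, 0, 6]),
  (1, [1, 7, 2, 0]),
  (1, [2, 0, 8, 2]),
  (1, [1, 2, 0, 3, 3, 6]),
  (1, [1, 3, 3, 4, 1, 0]),
  (1, [1, 2, 0, 3, 6, 3]),
  (1, [1, 2, 0, 6, 3]),
  (2, [0, 5, 5]),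
  (2, [5, 0, 2, 7]),
  (2, [0, 8, 2]),
  (2, [0, 7, 2, 5]),
  (2, [6, 0, 4]),
  (2, [0, 4, 5, 7]),
  (2, [0, 6, 3]),
  (2, [0, 4, 4, 7, 7]),
  (2, [0, 4, 6, 6]),
  (1, [1, 7, 2, 0, 3]),
  (2, [0, 5, 2, 6]),
  (2, [0, 8, 3, 6]),
  (2, [0, 4, 4, 8, 8]),
  (2, [0, 6, 3, 7]),
  (2, [0, 4, 4]),
  (2, [7, 2, 0, 3]),
  (2, [0, 4, 4, 8]),
  (2, [7, 2, 0]),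
  (2, [4, 6, 0]),
  (1, [1, 2, 0, 3, 6]),
  (2, [0, 6]),
  (2, [0, 4, 4, 7]),
  (2, [0, 4, 7, 2]),
  (2, [0, 4, 4, 7, 8]),
  (2, [5, 0, 2]),
  (2, [0, 6, 8]),
  (2, [5, 0, 2, 8]),
  (2, [0, 6, 8, 3]),
  (2, [0, 4, 5]),
  (1, [1, 2, 0, 5]),
  (1, [1, 2, 5, 0]),
  (1, [1, 2, 0, 4]),
  (1, [1, 2, 0, 3, 3, 5]),
  (1, [1, 2, 3, 3, 5, 0]),
  (1, [1, 2, 0, 3, 3, 4]),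
  (1, [1, 2, 0, 3, 5]),
  (2, [0, 5]),
  (2, [0, 7, 2, 3]),
  (2, [6, 0, 2, 7]),
  (2, [0, 7, 2]),
  (2, [0, 4, 4, 6]),
  (2, [0, 4, 7]),
  (2, [8, 3, 6, 0]),
  (2, [0, 4, 7, 8]),
  (2, [0, 7, 2, 8]),
  (1, [1, 2, 3, 5, 0]),
  (2, [0, 6, 6]),
  (2, [6, 0, 8]),
  (2, [0, 4, 7, 7]),
  (2, [6, 0, 8, 3]),
  (2, [5, 0]),
  (2, [0, 6, 6, 8]),
  (2, [0, 5, 7]),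
  (2, [0, 6, 6, 8, 8]),
  (2, [6, 0]),
  (1, [1, 2, 0, 3, 4]),
  (2, [0, 5, 2, 5]),
  (2, [0, 4, 8]),
  (2, [0, 8, 2, 6]),
  (2, [0, 4, 8, 8]),
  (2, [6, 0, 4, 6]),
  (2, [6, 0, 2]),
  (2, [0, 6, 3, 6]),
  (2, [8, 2, 0]),
  (2, [0, 4]),
  (1, [1, 2, 0, 0]),
  (1, [1, 2, 0, 0, 8, 8]),
  (1, [1, 2, 0, 0, 8]),
  (1, [2, 0, 3, 3, 1]),
  (1, [2, 0, 3, 3, 1, 8]),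
  (1, [2, 0, 3, 3, 1, 7]),
  (1, [1, 2, 0, 0, 3]),
  (2, [0, 0]),
  (2, [0, 6, 1, 4, 8]),
  (2, [0, 0, 6, 3, 3]),
  (2, [0, 0, 6, 6, 3]),
  (2, [0, 6, 0, 4]),
  (2, [0, 0, 8]),
  (2, [0, 0, 6, 3]),
  (2, [0, 0, 8, 8]),
  (2, [0, 6, 1, 4]),
  (1, [1, 2, 0, 0, 3, 7]),
  (2, [0, 0, 6, 6]),
  (2, [0, 0, 8, 3, 6]),
  (2, [0, 0, 7, 8]),
  (2, [0, 0, 6, 3, 7]),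
  (2, [0, 4, 1, 4]),
  (2, [0, 0, 6, 6, 8]),
  (2, [0, 0, 7]),
  (2, [4, 7, 2, 0, 0]),
  (2, [0, 4, 6, 0]),
  (1, [1, 2, 0, 0, 3, 6]),
  (2, [0, 0, 6]),
  (2, [0, 0, 8, 3]),
  (2, [0, 6, 1, 3, 4]),
  (2, [0, 0, 7, 7]),
  (2, [0, 4, 4, 6, 1]),
  (2, [0, 0, 6, 8]),
  (2, [0, 0, 6, 3, 6]),
  (2, [0, 0, 6, 8, 3]),
  (2, [0, 4, 1, 5]),
  (1, [1, 2, 0, 0, 3, 1]),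
  (2, [0, 0, 1]),
  (2, [0, 0, 4, 1, 4, 7]),
  (2, [0, 0, 1, 7, 8]),
  (2, [0, 0, 1, 7, 7]),
  (2, [0, 0, 4, 1, 4]),
  (2, [0, 0, 1, 8]),
  (2, [0, 0, 1, 7]),
  (2, [0, 0, 1, 8, 8]),
  (2, [0, 0, 4, 1, 5]),
  (2, [0, 0, 1, 2]),
  (2, [0, 0, 1, 2, 8, 8]),
  (2, [0, 0, 1, 2, 8]),
  (2, [0, 0, 1, 2, 3]),
  (2, [0, 0, 1, 2, 3, 8]),
  (2, [0, 0, 1, 2, 3, 8, 8]),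
  (2, [0, 0, 1, 2, 7]),
  (2, [0, 0, 4, 1, 3, 4]),
  (2, [0, 0, 8, 2, 2]),
  (2, [0, 0, 1, 2, 3, 7, 8]),
  (2, [0, 0, 4, 1, 3, 3, 4]),
  (2, [0, 0, 1, 2, 3, 7]),
  (2, [0, 0, 1, 2, 7, 7]),
  (2, [0, 0, 1, 8, 3]),
  (2, [0, 0, 4, 1, 3, 5]),
  (2, [0, 0, 1, 2, 8, 3]),
  (2, [0, 0, 8, 2, 2, 3]),
  (2, [0, 0, 4, 1, 3, 3, 5]),
  (1, [1, 2, 0, 0, 3, 1, 6]),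
  (2, [0, 0, 1, 6]),
  (2, [0, 6, 0, 2, 4]),
  (2, [0, 0, 8, 2]),
  (2, [0, 7, 1, 1, 7]),
  (2, [0, 0, 8, 2, 8]),
  (2, [0, 0, 1, 6, 8]),
  (2, [0, 7, 1, 1]),
  (2, [0, 0, 1, 6, 8, 8]),
  (2, [0, 0, 6, 8, 2]),
  (2, [0, 0, 1, 6, 3]),
  (2, [0, 0, 1, 8, 2, 8]),
  (2, [0, 0, 1, 8, 2]),
  (2, [0, 0, 1, 6, 3, 3]),
  (2, [0, 0, 1, 6, 3, 3, 8]),
  (2, [0, 0, 1, 2, 6, 3]),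
  (2, [0, 0, 1, 6, 3, 7]),
  (2, [0, 0, 1, 8, 3, 6]),
  (2, [0, 0, 1, 6, 8, 2]),
  (2, [0, 0, 1, 2, 8, 3, 6]),
  (2, [0, 0, 1, 2, 6, 3, 7]),
  (2, [0, 0, 1, 6, 3, 3, 7]),
  (2, [0, 0, 1, 2, 6]),
  (2, [0, 0, 1, 6, 8, 3]),
  (2, [0, 0, 1, 2, 6, 8]),
  (2, [0, 0, 1, 2, 3, 6]),
  (2, [0, 0, 1, 2, 3, 6, 8]),
  (2, [0, 0, 1, 2, 6, 8, 3]),
  (1, [1, 2, 0, 8, 3, 1, 1]),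
  (2, [0, 0, 1, 6, 6]),
  (2, [0, 0, 8, 8, 2]),
  (2, [0, 0, 8, 2, 6]),
  (2, [0, 0, 7, 2]),
  (2, [4, 6, 0, 0, 1]),
  (2, [0, 4, 1, 7, 1]),
  (2, [0, 7, 1, 1, 6]),
  (2, [0, 0, 6, 8, 3, 2]),
  (2, [0, 0, 6, 1, 4]),
  (2, [0, 0, 1, 7, 2]),
  (2, [0, 0, 7, 2, 3]),
  (2, [0, 0, 1, 7, 2, 8]),
  (2, [0, 0, 1, 7, 2, 3]),
  (2, [0, 7, 1, 1, 2, 3]),
  (2, [0, 0, 1, 6, 3, 6, 3]),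
  (2, [0, 7, 1, 1, 2]),
  (2, [0, 0, 7, 2, 3, 7]),
  (2, [0, 0, 6, 8, 2, 2]),
  (2, [0, 0, 7, 2, 3, 3]),
  (2, [0, 0, 7, 2, 3, 3, 8]),
  (2, [0, 0, 1, 7, 2, 3, 7]),
  (2, [0, 0, 1, 6, 3, 6]),
  (2, [0, 4, 1, 7, 1, 3]),
  (2, [0, 0, 1, 8, 2, 6]),
  (2, [0, 0, 1, 6, 3, 3, 6]),
  (2, [0, 0, 6, 8, 2, 2, 3]),
  (2, [0, 0, 1, 2, 6, 3, 6]),
  (1, [1, 2, 0, 0, 5]),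
  (1, [1, 2, 0, 5, 0]),
  (1, [1, 2, 0, 0, 4]),
  (1, [2, 0, 3, 3, 1, 5]),
  (1, [2, 2, 3, 5, 0, 1]),
  (1, [2, 0, 3, 3, 1, 4]),
  (1, [1, 2, 0, 0, 3, 5]),
  (2, [0, 0, 5]),
  (2, [5, 0, 1, 7]),
  (2, [0, 7, 1, 3]),
  (2, [0, 5, 7, 1, 7]),
  (2, [0, 5, 0, 6]),
  (2, [0, 0, 4, 7]),
  (2, [0, 7, 1]),
  (2, [0, 0, 4, 7, 8]),
  (2, [0, 4, 6, 1]),
  (1, [1, 2, 0, 3, 5, 0]),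
  (2, [6, 0, 0, 6]),
  (2, [0, 0, 4, 6, 8]),
  (2, [0, 0, 4, 7, 7]),
  (2, [0, 7, 1, 7]),
  (2, [0, 5, 0]),
  (2, [0, 4, 6, 1, 7]),
  (2, [0, 0, 5, 7]),
  (2, [0, 7, 2, 0]),
  (2, [0, 0, 4, 6]),
  (1, [1, 2, 0, 0, 3, 4]),
  (2, [6, 0, 0]),
  (2, [0, 0, 4, 8]),
  (2, [0, 4, 6, 1, 3]),
  (2, [0, 0, 4, 8, 8]),
  (2, [5, 0, 1]),
  (2, [6, 0, 0, 8]),
  (2, [0, 5, 7, 1]),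
  (2, [6, 0, 0, 8, 3]),
  (2, [0, 0, 4]),
  (1, [1, 2, 0, 0, 3, 7, 1]),
  (2, [0, 0, 5, 2]),
  (2, [5, 0, 1, 7, 2]),
  (2, [0, 0, 7, 1, 8]),
  (2, [0, 0, 7, 1, 7]),
  (2, [0, 4, 1, 4, 1]),
  (2, [0, 0, 5, 2, 8]),
  (2, [0, 0, 7, 1]),
  (2, [0, 0, 4, 8, 2]),
  (2, [0, 0, 1, 4, 6]),
  (2, [0, 0, 5, 2, 2]),
  (2, [0, 0, 7, 1, 3, 8]),
  (2, [0, 0, 7, 1, 3]),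
  (2, [0, 0, 5, 2, 2, 3]),
  (2, [0, 0, 5, 2, 2, 3, 8]),
  (2, [0, 0, 1, 5, 2, 3]),
  (2, [0, 0, 5, 2, 2, 7]),
  (2, [0, 4, 1, 4, 1, 3]),
  (2, [0, 0, 1, 2, 4, 6]),
  (2, [0, 0, 7, 1, 3, 8, 3]),
  (2, [0, 0, 1, 5, 2, 3, 7]),
  (2, [0, 0, 1, 2, 3, 4, 6]),
  (2, [0, 0, 1, 5, 2]),
  (2, [0, 0, 1, 4, 8, 2]),
  (2, [0, 0, 1, 4, 6, 3]),
  (2, [0, 0, 7, 1, 3, 3]),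
  (2, [0, 0, 1, 2, 4, 6, 3]),
  (2, [0, 0, 1, 4, 6, 3, 3]),
  (1, [1, 2, 0, 3, 5, 0, 1]),
  (2, [0, 0, 5, 2, 6]),
  (2, [0, 5, 0, 1, 7]),
  (2, [0, 0, 4, 7, 2]),
  (2, [0, 0, 7, 2, 5]),
  (2, [0, 5, 0, 1]),
  (2, [0, 0, 4, 6, 1, 7]),
  (2, [0, 0, 5, 7, 1]),
  (2, [5, 0, 1, 2]),
  (2, [0, 0, 4, 6, 1]),
  (2, [0, 0, 1, 7, 2, 5]),
  (2, [0, 0, 7, 2, 3, 5]),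
  (2, [0, 0, 5, 2, 8, 2]),
  (2, [0, 0, 1, 7, 2, 3, 5]),
  (2, [0, 0, 1, 5, 2, 6, 3]),
  (2, [0, 0, 4, 7, 2, 3, 3]),
  (2, [0, 0, 1, 5, 2, 6]),
  (2, [0, 5, 0, 1, 2]),
  (2, [5, 0, 1, 2, 3]),
  (2, [0, 0, 7, 1, 3, 3, 6]),
  (2, [0, 5, 0, 1, 2, 3]),
  (2, [0, 0, 1, 5, 0, 2, 3]),
  (2, [0, 0, 4, 7, 2, 3]),
  (2, [0, 0, 1, 5, 0, 2]),
  (2, [0, 0, 1, 4, 7, 2]),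
  (2, [0, 0, 5, 2, 2, 3, 6]),
  (2, [5, 0, 1, 2, 3, 3]),
  (2, [0, 0, 1, 4, 7, 2, 3]),
  (1, [1, 2, 0, 0, 3, 1, 4]),
  (2, [0, 0, 1, 5]),
  (2, [0, 0, 1, 4, 8]),
  (2, [0, 4, 6, 1, 2]),
  (2, [0, 0, 5, 7, 2]),
  (2, [0, 0, 1, 5, 0]),
  (2, [0, 0, 1, 4, 7]),
  (2, [0, 0, 1, 5, 7]),
  (2, [5, 0, 1, 2, 6]),
  (2, [0, 0, 1, 4]),
  (2, [0, 0, 1, 2, 5]),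
  (2, [0, 0, 4, 8, 2, 2]),
  (2, [0, 0, 1, 2, 4, 7]),
  (2, [0, 0, 1, 2, 3, 5]),
  (2, [0, 0, 1, 2, 3, 4, 7]),
  (2, [0, 0, 1, 5, 7, 2, 3]),
  (2, [0, 0, 1, 2, 5, 7]),
  (2, [5, 0, 1, 2, 2]),
  (2, [0, 0, 4, 6, 1, 2]),
  (2, [0, 0, 4, 8, 2, 2, 3]),
  (2, [5, 0, 1, 2, 2, 3]),
  (2, [0, 0, 1, 2, 3, 5, 7]),
  (2, [0, 0, 1, 5, 7, 2]),
  (2, [0, 0, 1, 2, 4, 8]),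
  (2, [0, 0, 1, 2, 4]),
  (2, [0, 0, 1, 2, 3, 4, 8]),
  (2, [0, 0, 4, 6, 1, 2, 3]),
  (2, [0, 0, 1, 2, 3, 4]),
  (1, [1, 7, 2, 0, 0]),
  (1, [2, 0, 8, 2, 0]),
  (1, [1, 2, 0, 6, 0]),
  (1, [2, 0, 3, 3, 6, 1]),
  (1, [2, 2, 6, 0, 3, 1]),
  (1, [2, 0, 3, 3, 4, 1]),
  (1, [1, 2, 0, 8, 3, 1]),
  (2, [0, 0, 5, 5]),
  (2, [0, 8, 3, 1]),
  (2, [0, 6, 0, 3, 7]),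
  (2, [0, 6, 1, 3]),
  (2, [4, 6, 0, 0]),
  (2, [0, 4, 1, 7]),
  (2, [0, 7, 1, 5]),
  (2, [0, 4, 1, 7, 8]),
  (2, [0, 6, 0, 6]),
  (1, [1, 2, 0, 3, 6, 0]),
  (2, [0, 6, 1]),
  (2, [0, 6, 0, 8]),
  (2, [0, 4, 1, 7, 7]),
  (2, [0, 6, 0, 8, 3]),
  (2, [0, 0, 4, 4]),
  (2, [0, 6, 1, 8]),
  (2, [0, 0, 4, 4, 8]),
  (2, [0, 4, 7, 2, 0]),
  (2, [0, 6, 0]),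
  (1, [1, 2, 0, 3, 4, 1]),
  (2, [6, 0, 0, 5]),
  (2, [0, 4, 1, 8]),
  (2, [0, 6, 0, 6, 3]),
  (2, [0, 4, 1, 8, 8]),
  (2, [5, 0, 1, 5]),
  (2, [0, 6, 0, 3]),
  (2, [0, 6, 1, 7]),
  (2, [0, 8, 2, 0]),
  (2, [0, 4, 1]),
  (1, [1, 2, 0, 0, 3, 6, 1]),
  (2, [0, 0, 6, 1]),
  (2, [0, 0, 8, 3, 1]),
  (2, [0, 0, 4, 7, 2, 5]),
  (2, [0, 6, 1, 2]),
  (2, [0, 5, 0, 1, 5]),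
  (2, [0, 0, 6, 1, 8]),
  (2, [0, 0, 6, 1, 7]),
  (2, [0, 4, 1, 8, 2]),
  (2, [0, 4, 1, 1, 6]),
  (2, [0, 0, 6, 1, 2]),
  (2, [0, 6, 1, 2, 3]),
  (2, [0, 0, 4, 1, 2, 6]),
  (2, [0, 0, 6, 1, 2, 3]),
  (2, [6, 0, 0, 1, 2, 3]),
  (2, [0, 0, 5, 2, 5, 2, 3]),
  (2, [6, 0, 0, 1, 2]),
  (2, [0, 0, 4, 1, 8, 2]),
  (2, [0, 4, 1, 1, 2, 6]),
  (2, [0, 6, 1, 2, 3, 3]),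
  (2, [0, 0, 4, 1, 2, 3, 6]),
  (2, [0, 0, 6, 1, 2, 3, 7]),
  (2, [0, 0, 5, 2, 5, 2]),
  (2, [0, 0, 6, 1, 8, 3]),
  (2, [0, 4, 1, 1, 6, 3]),
  (2, [0, 0, 4, 1, 2, 6, 3]),
  (2, [0, 4, 1, 1, 2, 6, 3]),
  (2, [0, 4, 1, 1, 6, 3, 3]),
  (1, [1, 2, 0, 0, 3, 4, 1]),
  (2, [6, 0, 0, 1]),
  (2, [0, 0, 4, 1, 8]),
  (2, [0, 4, 1, 7, 2]),
  (2, [0, 6, 1, 2, 6]),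
  (2, [5, 0, 1, 1]),
  (2, [0, 0, 4, 1, 7]),
  (2, [0, 5, 7, 1, 1]),
  (2, [5, 0, 1, 5, 2]),
  (2, [0, 0, 4, 1]),
  (2, [0, 6, 1, 2, 2]),
  (2, [0, 5, 0, 1, 5, 2]),
  (2, [0, 0, 4, 1, 3, 7]),
  (2, [0, 6, 1, 2, 2, 3]),
  (2, [0, 0, 4, 1, 3, 3, 7]),
  (2, [0, 0, 6, 1, 2, 6, 3]),
  (2, [0, 0, 4, 1, 8, 3]),
  (2, [5, 0, 1, 1, 2]),
  (2, [0, 0, 4, 1, 7, 2]),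
  (2, [0, 5, 0, 1, 5, 2, 3]),
  (2, [5, 0, 1, 1, 2, 3]),
  (2, [0, 0, 4, 1, 3, 8, 3]),
  (2, [0, 0, 6, 1, 2, 6]),
  (2, [0, 0, 4, 1, 3, 8]),
  (2, [0, 0, 4, 1, 3]),
  (2, [0, 0, 4, 1, 3, 3, 8]),
  (2, [0, 0, 4, 1, 7, 2, 3]),
  (2, [0, 0, 4, 1, 3, 3]),
  (1, [1, 2, 0, 3, 4, 1, 1]),
  (2, [0, 0, 5, 2, 5]),
  (2, [0, 4, 1, 1, 8]),
  (2, [0, 6, 0, 2, 7]),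
  (2, [0, 0, 4, 4, 8, 2]),
  (2, [5, 0, 1, 1, 6]),
  (2, [0, 6, 0, 2]),
  (2, [0, 0, 7, 1, 5]),
  (2, [0, 0, 8, 2, 0]),
  (2, [0, 4, 1, 1]),
  (2, [0, 0, 5, 2, 2, 5]),
  (2, [0, 4, 1, 8, 2, 2]),
  (2, [0, 0, 7, 1, 3, 5]),
  (2, [0, 0, 4, 1, 2, 3, 7]),
  (2, [0, 4, 1, 1, 2, 3, 7]),
  (2, [0, 0, 1, 5, 2, 3, 5]),
  (2, [0, 4, 1, 1, 8, 3]),
  (2, [0, 0, 4, 1, 2, 8]),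
  (2, [0, 0, 4, 1, 2]),
  (2, [0, 4, 1, 8, 2, 2, 3]),
  (2, [0, 0, 4, 1, 2, 8, 3]),
  (2, [0, 6, 0, 2, 3, 3]),
  (2, [0, 0, 1, 5, 2, 5]),
  (2, [0, 6, 0, 2, 3]),
  (2, [0, 4, 1, 1, 2]),
  (2, [0, 0, 7, 1, 3, 3, 5]),
  (2, [0, 0, 4, 1, 2, 3]),
  (2, [0, 4, 1, 1, 2, 3])]

end CfsgLib.Chev.U43U6
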