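import Cfsg.Agent.Lib.Chev.U43InU6.Data
import Cfsg.Agent.Lib.Chev.U43InU6.OrbitData
import Cfsg.Agent.Lib.Chev.U43InU6.PointData

/-!
Boolean checks on points, generators and orbits of frames.
-/

set_option autoImplicit false
set_option maxRecDepth 100000

namespace CfsgLib.Chev.U43U6

/-- The code of a point. -/
def ptC (i : ℕ) : ℕ := Nat.shiftRight ptTab (12 * i) % 4096

/-- The number plus one of the line of a vector code. -/
def posC (c : ℕ) : ℕ := Nat.shiftRight posTab (10 * c) % 1024

/-- The image of a point under a matrix code. -/
def imgP (m : List ℕ) (i : ℕ) : ℕ := posC (mulV m (ptC i)) - 1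

/-- Every anisotropic code lies on one of the points. -/
def codeOK (c : ℕ) : Bool :=
  Nat.beq (herm c c) 0 || (Nat.ble 1 (posC c) && Nat.ble (posC c) 672 &&
    [1, 2, 3].any fun a => Nat.beq (sclV a (ptC (posC c - 1))) c)

/-- A point is anisotropic and its multiples are recorded. -/
def pointOK (i : ℕ) : Bool :=
  Nat.beq (herm (ptC i) (ptC i)) 1 && [1, 2, 3].all fun a => Nat.beq (posC (sclV a (ptC i))) (i + 1)

theorem codes_ok : ((List.range 4096).all codeOK) = true := by decide +kernel

theorem points_ok : ((List.range 672).all pointOK) = true := by decide +kernel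

/-- Orthogonality of two points. -/
def orth (i j : ℕ) : Bool := Nat.beq (herm (ptC i) (ptC j)) 0

/-- The image of a point under a generator, from the table. -/
def monImg (g i : ℕ) : ℕ := Nat.shiftRight (monPerm.getD g 0) (10 * i) % 1024

theorem monGens_ok : (monGens.all isSU && Nat.beq monGens.length 9 &&
    (List.range 9).all fun g => (List.range 672).all fun i =>
      Nat.beq (monImg g i) (imgP (monGens.getD g []) i) && Nat.blt (monImg g i) 672) = true := by
  decide +kernel

/-- The mask of a list of points. -/
def mask (L : List ℕ) : ℕ := L.foldr (fun i m => Nat.lor (2 ^ i) m) 0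

/-- A word of generators applied to a list of points. -/
def wordImg : List ℕ → List ℕ → List ℕ
  | [], L => L
  | g :: w, L => wordImg w (L.map (monImg g))

/-- A short orbit contains its representative, has the stated size and is stable. -/
def shortOK (O : List (List ℕ)) (rep : List ℕ) : Bool :=
  (O.map mask).any (Nat.beq (mask rep)) &&
    (List.range 9).all fun g => O.all fun f => (O.map mask).any (Nat.beq (mask (f.map (monImg g))))

theorem short_ok : ((List.range 8).all fun j => shortOK (shortOrbs.getD j []) (reps.getD j [])) = true := by
  decide +kernel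

/-- Each member of a short orbit is the image of the representative under a word. -/
def shortWordOK (O W : List (List ℕ)) (rep : List ℕ) : Bool :=
  Nat.beq O.length W.length && (O.zip W).all fun p =>
    (p.2.all fun g => Nat.blt g 9) && Nat.beq (mask (wordImg p.2 rep)) (mask p.1)

theorem shortWords_ok : ((List.range 8).all fun j =>
    shortWordOK (shortOrbs.getD j []) (shortWords.getD j []) (reps.getD j [])) = true := by decide +kernel

theorem short_sizes : shortOrbs.map List.length = [1, 60, 30, 30, 30, 81, 81, 81] := by decide +kernel

/-- The frames of a tree. -/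
def treeFr (rep : List ℕ) : List (ℕ × ℕ) → List (List ℕ) → List (List ℕ)
  | [], acc => acc
  | (p, g) :: t, acc => treeFr rep t (acc ++ [(acc.getD p rep).map (monImg g)])

/-- The masks are different. -/
def distinct : List ℕ → Bool
  | [] => true
  | a :: L => !L.any (Nat.beq a) && distinct L

/-- A long orbit has at least 113 different frames. -/
def longOK (t : List (ℕ × ℕ)) (rep : List ℕ) : Bool :=
  let L := treeFr rep t [rep]
  Nat.beq L.length 113 && distinct (L.map mask) && t.all fun p => Nat.blt p.2 9

theorem long_ok : ((List.range (reps.length - 8)).all fun j =>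
    longOK (longTrees.getD j []) (reps.getD (j + 8) [])) = true := by
  decide +kernel

theorem reps_ok : (Nat.beq reps.length 42 && reps.all fun f => Nat.beq f.length 6 && f.all fun i => Nat.blt i 672) = true := by
  decide +kernel

/-- A point is the image of its representative. -/
def ptWordOK (i : ℕ) : Bool :=
  let e := ptWords.getD i (9, [])
  Nat.blt e.1 3 && (e.2.all fun g => Nat.blt g 9) &&
    Nat.beq (mask (wordImg e.2 [ptReps.getD e.1 0])) (mask [i])

theorem ptWords_ok : ((List.range 672).all ptWordOK) = true := by decide +kernel

/-- An entry of a frame list is a frame in the orbit of its representative. -/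
def entryOK (r : ℕ) (e : List ℕ × ℕ × List ℕ) : Bool :=
  Nat.blt e.2.1 42 && (e.2.2.all fun g => Nat.blt g 9) &&
    Nat.beq (mask (wordImg e.2.2 (reps.getD e.2.1 []))) (mask (r :: e.1))

/-- Try each element of a list as the next one. -/
def choices (next : List ℕ → ℕ → Bool) (acc : ℕ) : List ℕ → Bool
  | [] => true
  | a :: rest => choices next acc rest && next (rest.filter (orth a)) (Nat.lor (2 ^ a) acc)

/-- Complete subsets of the given size are listed. -/
def visit (tgt : List ℕ) : ℕ → List ℕ → ℕ → Bool
  | 0 => fun _ acc => tgt.any (Nat.beq acc)
  | k + 1 => fun cand acc => choices (visit tgt k) acc cand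

/-- The points orthogonal to a point, other than itself. -/
def perp (r : ℕ) : List ℕ := (List.range 672).filter (orth r)

/-- All frames through `r` with first other point in `cand` are listed. -/
def completeFrom (r : ℕ) : List ℕ → List (List (List ℕ × ℕ × List ℕ)) → Bool
  | [], _ => true
  | _ :: _, [] => false
  | a :: rest, E :: Es =>
    E.all (entryOK r) &&
      visit (E.map fun e => mask (r :: e.1)) 4 (rest.filter (orth a)) (Nat.lor (2 ^ a) (mask [r])) &&
      completeFrom r rest Es

end CfsgLib.Chev.U43U6
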