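import Mathlib

/-!
Codes for vectors and matrices of size six over the field with four elements: an element is a
number below `4`, a vector a number below `4096`, a matrix the list of its six columns.
-/

set_option autoImplicit false

namespace CfsgLib.Chev.U43U6

/-- The product of two element codes. -/
def mulE (a b : ℕ) : ℕ :=
  Nat.land (Nat.shiftRight 0x9c78e400 (2 * (4 * (a % 4) + b % 4))) 3

/-- The conjugate of an element code. -/
def cjE (a : ℕ) : ℕ := mulE a a

/-- The coordinate `i` of a vector code. -/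
def crd (c i : ℕ) : ℕ := Nat.shiftRight c (2 * i) % 4

/-- The code with the given six coordinates. -/
def vec6 (f : ℕ → ℕ) : ℕ :=
  f 0 + 4 * f 1 + 16 * f 2 + 64 * f 3 + 256 * f 4 + 1024 * f 5

/-- The multiple of a vector code. -/
def sclV (a c : ℕ) : ℕ := vec6 fun i => mulE a (crd c i)

/-- The Hermitian product of two vector codes. -/
def herm (u v : ℕ) : ℕ :=
  let p := fun i => mulE (crd u i) (cjE (crd v i))
  Nat.xor (Nat.xor (Nat.xor (Nat.xor (Nat.xor (p 0) (p 1)) (p 2)) (p 3)) (p 4)) (p 5)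

/-- A column of a matrix code. -/
def colM (m : List ℕ) (i : ℕ) : ℕ := m.getD i 0

/-- The image of a vector code. -/
def mulV (m : List ℕ) (c : ℕ) : ℕ :=
  let t := fun i => sclV (crd c i) (colM m i)
  Nat.xor (Nat.xor (Nat.xor (Nat.xor (Nat.xor (t 0) (t 1)) (t 2)) (t 3)) (t 4)) (t 5)

/-- The determinant of a table of element codes, along the first row. -/
def detE : (n : ℕ) → (Fin n → Fin n → ℕ) → ℕ
  | 0, _ => 1
  | n + 1, M => ((List.finRange (n + 1)).map fun j =>
      mulE (M 0 j) (detE n fun a b => M a.succ (j.succAbove b))).foldr Nat.xor 0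

/-- The table of a matrix code. -/
def tabM (m : List ℕ) (r c : Fin 6) : ℕ := crd (colM m c) r

/-- A matrix code of a unitary matrix of determinant one. -/
def isSU (m : List ℕ) : Bool :=
  ((List.range 6).all fun i => (List.range 6).all fun j =>
    Nat.beq (herm (colM m i) (colM m j)) (if i = j then 1 else 0)) && Nat.beq (detE 6 (tabM m)) 1

section

variable {F : Type*} [Field F] {ω : F}

/-- The standing hypothesis on `ω`. -/
def IsOmega (ω : F) : Prop := ω ^ 2 + ω + 1 = 0 ∧ (2 : F) = 0

/-- The element of a code. -/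
def dec (ω : F) (a : ℕ) : F :=
  (if a.testBit 0 then 1 else 0) + (if a.testBit 1 then ω else 0)

/-- The vector of a code. -/
def vdec (ω : F) (c : ℕ) : Fin 6 → F := fun i => dec ω (crd c i)

/-- The matrix of a code. -/
def mdec (ω : F) (m : List ℕ) : Matrix (Fin 6) (Fin 6) F := fun r c => dec ω (crd (colM m c) r)

variable (hω : IsOmega ω)
include hω

theorem dec_xor (a b : ℕ) : dec ω (Nat.xor a b) = dec ω a + dec ω b := by
  have h2 : (1 : F) + 1 = 0 := by rw [one_add_one_eq_two]; exact hω.2
  have h3 : ω + ω = 0 := by rw [← two_mul, hω.2, zero_mul]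
  show dec ω (a ^^^ b) = _
  simp only [dec, Nat.testBit_xor]
  have h2' := hω.2
  cases a.testBit 0 <;> cases b.testBit 0 <;> cases a.testBit 1 <;> cases b.testBit 1 <;>
    simp <;> grind

omit hω in
theorem dec_mod (a : ℕ) : dec ω (a % 4) = dec ω a := by
  have h : a % 4 = a % 2 ^ 2 := rfl
  simp [dec, h, Nat.testBit_mod_two_pow]

theorem omega_sq : ω * ω = 1 + ω := by
  have h := hω.1
  have h2 := hω.2
  linear_combination h - (1 + ω) * h2

theorem dec_mul (a b : ℕ) : dec ω (mulE a b) = dec ω a * dec ω b := by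
  rw [← dec_mod (ω := ω) a, ← dec_mod (ω := ω) b]
  have e : mulE a b = mulE (a % 4) (b % 4) := by simp [mulE]
  rw [e]
  have h2 := hω.2
  have hsq := omega_sq hω
  have ha : a % 4 < 4 := Nat.mod_lt _ (by norm_num)
  have hb : b % 4 < 4 := Nat.mod_lt _ (by norm_num)
  generalize a % 4 = x at ha ⊢
  generalize b % 4 = y at hb ⊢
  interval_cases x <;> interval_cases y <;> simp [dec, mulE, Nat.testBit, Nat.shiftRight_eq_div_pow] <;>
    grind

theorem dec_cj (a : ℕ) : dec ω (cjE a) = dec ω a ^ 2 := by rw [cjE, dec_mul hω, sq]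

omit hω in
theorem dec_zero : dec ω 0 = 0 := by simp [dec]

omit hω in
theorem dec_one : dec ω 1 = 1 := by simp [dec, Nat.testBit, Nat.shiftRight_eq_div_pow]

theorem dec_eq_zero {a : ℕ} (h : dec ω a = 0) : a % 4 = 0 := by
  rw [← dec_mod] at h
  have ha : a % 4 < 4 := Nat.mod_lt _ (by norm_num)
  have hne : ω ≠ 0 := fun e => one_ne_zero (α := F) (by have := hω.1; rw [e] at this; simpa using this)
  have hne1 : (1 : F) + ω ≠ 0 := fun e => hne (by
    have := omega_sq hω; rw [e] at this; exact mul_self_eq_zero.1 this)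
  generalize a % 4 = x at ha h ⊢
  interval_cases x <;> simp [dec, Nat.testBit, Nat.shiftRight_eq_div_pow] at h ⊢
  · exact hne h
  · exact hne1 h

theorem dec_foldr (L : List ℕ) : dec ω (L.foldr Nat.xor 0) = (L.map (dec ω)).sum := by
  induction L with
  | nil => simp [dec_zero]
  | cons a L ih => rw [List.foldr_cons, dec_xor hω, ih, List.map_cons, List.sum_cons]

theorem dec_det : ∀ (n : ℕ) (M : Fin n → Fin n → ℕ),
    dec ω (detE n M) = (Matrix.of fun i j => dec ω (M i j)).det := by
  intro n
  induction n with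
  | zero => intro M; simp [detE, dec_one]
  | succ n ih =>
    intro M
    have hsign : ∀ k : ℕ, (-1 : F) ^ k = 1 := fun k => by
      have : (-1 : F) = 1 := by linear_combination -hω.2
      rw [this, one_pow]
    rw [detE, dec_foldr hω, List.map_map, Matrix.det_succ_row_zero, Fin.sum_univ_def]
    refine congrArg List.sum (List.map_congr_left fun j _ => ?_)
    rw [Function.comp_apply, dec_mul hω, ih, hsign, one_mul]
    rfl

omit hω in
theorem crd_lt (c i : ℕ) : crd c i < 4 := Nat.mod_lt _ (by norm_num)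

omit hω in
theorem mulE_lt (a b : ℕ) : mulE a b < 4 :=
  lt_of_le_of_lt (Nat.and_le_right) (by norm_num)

omit hω in
theorem crd_vec6 (f : ℕ → ℕ) (hf : ∀ i, f i < 4) {i : ℕ} (hi : i < 6) : crd (vec6 f) i = f i := by
  have := hf 0; have := hf 1; have := hf 2; have := hf 3; have := hf 4; have := hf 5
  simp only [crd, vec6, Nat.shiftRight_eq, Nat.shiftRight_eq_div_pow]
  interval_cases i <;> norm_num <;> omega

theorem vdec_scl (a c : ℕ) : vdec ω (sclV a c) = dec ω a • vdec ω c := by
  funext i
  show dec ω (crd (sclV a c) i) = dec ω a * dec ω (crd c i)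
  rw [sclV, crd_vec6 _ (fun _ => mulE_lt _ _) i.2, dec_mul hω]

theorem vdec_xor (u v : ℕ) : vdec ω (Nat.xor u v) = vdec ω u + vdec ω v := by
  funext i
  show dec ω (crd (u ^^^ v) i) = dec ω (crd u i) + dec ω (crd v i)
  rw [← dec_xor hω]
  show _ = dec ω (crd u i ^^^ crd v i)
  simp only [crd, Nat.shiftRight_eq, Nat.shiftRight_xor_distrib]
  rw [show (4 : ℕ) = 2 ^ 2 from rfl, Nat.xor_mod_two_pow]

theorem vdec_mulV (m : List ℕ) (c : ℕ) : vdec ω (mulV m c) = (mdec ω m).mulVec (vdec ω c) := by
  simp only [mulV, vdec_xor hω, vdec_scl hω]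
  funext r
  simp only [Pi.add_apply, Pi.smul_apply, smul_eq_mul, Matrix.mulVec, dotProduct, Fin.sum_univ_six]
  simp only [vdec, mdec, Fin.val_zero, Fin.val_one, Fin.val_two]
  simp only [show ((3 : Fin 6) : ℕ) = 3 from rfl, show ((4 : Fin 6) : ℕ) = 4 from rfl,
    show ((5 : Fin 6) : ℕ) = 5 from rfl]
  ring

theorem dec_herm (u v : ℕ) : dec ω (herm u v) = ∑ i, vdec ω u i * vdec ω v i ^ 2 := by
  simp only [herm, dec_xor hω, dec_mul hω, dec_cj hω, Fin.sum_univ_six]
  rfl

theorem vdec_inj {c d : ℕ} (hc : c < 4096) (hd : d < 4096) (h : vdec ω c = vdec ω d) : c = d := by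
  have key : ∀ i, i < 6 → crd c i = crd d i := by
    intro i hi
    have h1 : dec ω (crd c i) = dec ω (crd d i) := congrFun h ⟨i, hi⟩
    have h2 : dec ω (Nat.xor (crd c i) (crd d i)) = 0 := by
      rw [dec_xor hω, h1, ← two_mul, hω.2, zero_mul]
    have h3 := dec_eq_zero hω h2
    have h4 : Nat.xor (crd c i) (crd d i) < 2 ^ 2 := Nat.xor_lt_two_pow (crd_lt c i) (crd_lt d i)
    rw [show (4 : ℕ) = 2 ^ 2 from rfl, Nat.mod_eq_of_lt h4] at h3
    exact Nat.xor_eq_zero_iff.1 h3
  have e : ∀ x, x < 4096 → x = vec6 (crd x) := fun x hx => by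
    simp only [vec6, crd, Nat.shiftRight_eq, Nat.shiftRight_eq_div_pow]
    omega
  rw [e c hc, e d hd]
  simp only [vec6]
  rw [key 0 (by norm_num), key 1 (by norm_num), key 2 (by norm_num), key 3 (by norm_num), key 4 (by norm_num),
    key 5 (by norm_num)]

end

end CfsgLib.Chev.U43U6
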