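import Cfsg.Agent.Lib.Chev.U43InU6.Checks
import Cfsg.Agent.Lib.Chev.U43InU6.FrameData0

/-!
The frames through representative point number 0 are listed.
-/

set_option autoImplicit false
set_option maxRecDepth 100000

namespace CfsgLib.Chev.U43U6

/-- The listed frames. -/
def frames0 : List (List (List ℕ × ℕ × List ℕ)) :=
  frames0Part0 ++ frames0Part1 ++ frames0Part2 ++ frames0Part3 ++ frames0Part4 ++ frames0Part5

theorem complete0 : completeFrom (ptReps.getD 0 0) (perp (ptReps.getD 0 0)) frames0 = true := by
  decide +kernel

end CfsgLib.Chev.U43U6
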