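import Cfsg.Agent.Lib.Chev.U43InU6.Checks
import Cfsg.Agent.Lib.Chev.U43InU6.FrameData1

/-!
The frames through representative point number 1 are listed.
-/

set_option autoImplicit false
set_option maxRecDepth 100000

namespace CfsgLib.Chev.U43U6

/-- The listed frames. -/
def frames1 : List (List (List ℕ × ℕ × List ℕ)) :=
  frames1Part0 ++ frames1Part1 ++ frames1Part2 ++ frames1Part3 ++ frames1Part4 ++ frames1Part5

theorem complete1 : completeFrom (ptReps.getD 1 0) (perp (ptReps.getD 1 0)) frames1 = true := by
  decide +kernel

end CfsgLib.Chev.U43U6
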