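import Cfsg.Agent.Lib.Chev.U43InU6.Checks
import Cfsg.Agent.Lib.Chev.U43InU6.FrameData2

/-!
The frames through representative point number 2 are listed.
-/

set_option autoImplicit false
set_option maxRecDepth 100000

namespace CfsgLib.Chev.U43U6

/-- The listed frames. -/
def frames2 : List (List (List ℕ × ℕ × List ℕ)) :=
  frames2Part0 ++ frames2Part1 ++ frames2Part2 ++ frames2Part3 ++ frames2Part4 ++ frames2Part5

theorem complete2 : completeFrom (ptReps.getD 2 0) (perp (ptReps.getD 2 0)) frames2 = true := by
  decide +kernel

end CfsgLib.Chev.U43U6
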