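import Cfsg.Agent.Lib.Chev.U43InU6.Action
import Cfsg.Agent.Lib.Chev.U43InU6.Complete0
import Cfsg.Agent.Lib.Chev.U43InU6.Complete1
import Cfsg.Agent.Lib.Chev.U43InU6.Complete2

/-!
The orbits of the monomial subgroup of even permutations on orthogonal frames of points.
-/

set_option autoImplicit false
set_option maxRecDepth 100000
set_option linter.unusedSectionVars false

namespace CfsgLib.Chev.U43U6

open Matrix

variable {F : Type*} [Field F] [Fintype F] {ω : F} (hω : IsOmega ω) (hF : Fintype.card F = 4)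

/-- The standard frame. -/
def E0 : Finset (Fin 672) := lst baseFr

/-- Six pairwise orthogonal points. -/
def IsFr (S : Finset (Fin 672)) : Prop :=
  S.card = 6 ∧ ∀ i ∈ S, ∀ j ∈ S, i ≠ j → orth i j = true

theorem baseFr_ok : (Nat.beq (mask baseFr) (mask ((List.range 6).map fun k => posC (4 ^ k) - 1)) &&
    (List.range 6).all (fun k => Nat.beq (ptC (posC (4 ^ k) - 1)) (4 ^ k) && Nat.blt (posC (4 ^ k) - 1) 672) &&
    baseFr.all fun i => baseFr.all fun j => Nat.beq i j || orth i j) = true := by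
  decide +kernel

theorem baseFr_lt : ∀ i ∈ baseFr, i < 672 := by decide +kernel

theorem E0_card : E0.card = 6 := by decide +kernel

theorem isFr_E0 : IsFr E0 := by
  refine ⟨E0_card, fun i hi j hj hij => ?_⟩
  have h := baseFr_ok
  simp only [Bool.and_eq_true, List.all_eq_true, Bool.or_eq_true] at h
  rcases h.2 i (mem_lst.1 hi) j (mem_lst.1 hj) with e | e
  · exact absurd (Fin.ext (Nat.eq_of_beq_eq_true e)) hij
  · exact e

include hω in
theorem orth_iff (i j : Fin 672) : orth i j = true ↔ Cfsg.hermForm 6 F 2 (vec ω i) (vec ω j) = 0 := by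
  rw [vec, vec, hermForm_dec hω, orth]
  constructor
  · intro h; rw [Nat.eq_of_beq_eq_true h, dec_zero]
  · intro h
    rw [dec_inj hω (herm_lt _ _) (by norm_num) (h.trans dec_zero.symm)]
    rfl

theorem orth_act {g : GS F} {i j : Fin 672} (h : orth i j = true) :
    orth (act hω hF g i) (act hω hF g j) = true := by
  obtain ⟨a, ha, ea⟩ := (exists_act hω hF g i).choose_spec
  obtain ⟨b, hb, eb⟩ := (exists_act hω hF g j).choose_spec
  rw [orth_iff hω] at h ⊢
  rw [← herm_mat g, ea, eb] at h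
  have e : Cfsg.hermForm 6 F 2 (a • vec ω (act hω hF g i)) (b • vec ω (act hω hF g j)) =
      a * b ^ 2 * Cfsg.hermForm 6 F 2 (vec ω (act hω hF g i)) (vec ω (act hω hF g j)) := by
    simp only [Cfsg.hermForm, Pi.smul_apply, smul_eq_mul, Finset.mul_sum]
    exact Finset.sum_congr rfl fun k _ => by ring
  rcases mul_eq_zero.1 (e.symm.trans h) with e' | e'
  · exact absurd e' (mul_ne_zero ha (pow_ne_zero 2 hb))
  · exact e'

theorem IsFr.mv {S : Finset (Fin 672)} (h : IsFr S) (g : GS F) : IsFr (mv hω hF g S) := by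
  refine ⟨by rw [U43U6.mv, Finset.card_map]; exact h.1, fun i hi j hj hij => ?_⟩
  obtain ⟨i', hi', rfl⟩ := (mem_mv hω hF).1 hi
  obtain ⟨j', hj', rfl⟩ := (mem_mv hω hF).1 hj
  exact orth_act hω hF (h.2 i' hi' j' hj' fun e => hij (by rw [e]))

/-- The generators of the monomial subgroup as elements. -/
noncomputable def monEl (g : ℕ) : GS F :=
  if h : isSU (monGens.getD g []) = true then (exists_el hω hF h).choose else 1

theorem monEl_mat {g : ℕ} (hg : g < 9) : mat (monEl hω hF g) = mdec ω (monGens.getD g []) := by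
  have h := monGens_ok
  simp only [Bool.and_eq_true, List.all_eq_true] at h
  have hlen : monGens.length = 9 := Nat.eq_of_beq_eq_true h.1.2
  have hs : isSU (monGens.getD g []) = true := by
    rw [List.getD_eq_getElem _ _ (by omega)]
    exact h.1.1 _ (List.getElem_mem _)
  rw [monEl, dif_pos hs]
  exact (exists_el hω hF hs).choose_spec

theorem act_monEl {g : ℕ} (hg : g < 9) (i : Fin 672) :
    (act hω hF (monEl hω hF g) i : ℕ) = monImg g i := by
  have h := monGens_ok
  simp only [Bool.and_eq_true] at h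
  have h2 := of_range (of_range h.2 hg) i.2
  simp only [Bool.and_eq_true] at h2
  rw [act_code hω hF (monEl_mat hω hF hg), Nat.eq_of_beq_eq_true h2.1]

/-- The monomial subgroup of even permutations. -/
noncomputable def M0 : Subgroup (GS F) := Subgroup.closure {x | ∃ g < 9, x = monEl hω hF g}

theorem monEl_mem {g : ℕ} (hg : g < 9) : monEl hω hF g ∈ M0 hω hF := Subgroup.subset_closure ⟨g, hg, rfl⟩

theorem monImg_lt {g i : ℕ} (hg : g < 9) (hi : i < 672) : monImg g i < 672 := by
  have h := monGens_ok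
  simp only [Bool.and_eq_true] at h
  have h2 := of_range (of_range h.2 hg) hi
  simp only [Bool.and_eq_true] at h2
  simpa [Nat.blt] using h2.2

theorem mv_monEl {g : ℕ} (hg : g < 9) {L : List ℕ} (hL : ∀ x ∈ L, x < 672) :
    mv hω hF (monEl hω hF g) (lst L) = lst (L.map (monImg g)) := by
  ext j
  rw [mem_mv, mem_lst, List.mem_map]
  constructor
  · rintro ⟨i, hi, rfl⟩
    exact ⟨i, mem_lst.1 hi, (act_monEl hω hF hg i).symm⟩
  · rintro ⟨x, hx, e⟩
    exact ⟨⟨x, hL x hx⟩, mem_lst.2 hx, Fin.ext ((act_monEl hω hF hg _).trans e)⟩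

theorem word_spec : ∀ (w : List ℕ), (∀ g ∈ w, g < 9) → ∃ h ∈ M0 hω hF, ∀ L : List ℕ, (∀ x ∈ L, x < 672) →
    lst (wordImg w L) = mv hω hF h (lst L) ∧ ∀ x ∈ wordImg w L, x < 672
  | [], _ => ⟨1, one_mem _, fun L hL => ⟨(mv_one hω hF _).symm, hL⟩⟩
  | g :: w, hw => by
    obtain ⟨hg, hw'⟩ := List.forall_mem_cons.1 hw
    obtain ⟨h, hh, hspec⟩ := word_spec w hw'
    refine ⟨h * monEl hω hF g, mul_mem hh (monEl_mem hω hF hg), fun L hL => ?_⟩
    have hL' : ∀ x ∈ L.map (monImg g), x < 672 := fun x hx => by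
      obtain ⟨y, hy, rfl⟩ := List.mem_map.1 hx
      exact monImg_lt hg (hL y hy)
    obtain ⟨e1, e2⟩ := hspec _ hL'
    exact ⟨by rw [mv_mul, mv_monEl hω hF hg hL]; exact e1, e2⟩

/-! Completeness of the lists of frames through the representative points. -/

theorem visit_spec (tgt : List ℕ) : ∀ (k : ℕ) (cand : List ℕ) (acc : ℕ), visit tgt k cand acc = true →
    ∀ T : Finset ℕ, T.card = k → (∀ x ∈ T, x ∈ cand) →
      (∀ x ∈ T, ∀ y ∈ T, x ≠ y → orth x y = true) →
      ∃ m ∈ tgt, ∀ i, m.testBit i = true ↔ (acc.testBit i = true ∨ i ∈ T) := by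
  intro k
  induction k with
  | zero =>
    intro cand acc h T hT _ _
    simp only [visit, List.any_eq_true] at h
    obtain ⟨m, hm, e⟩ := h
    rw [← Nat.eq_of_beq_eq_true e] at hm
    exact ⟨acc, hm, fun i => by simp [Finset.card_eq_zero.1 hT]⟩
  | succ k ih =>
    intro cand
    induction cand with
    | nil =>
      intro acc _ T hT hsub _
      obtain ⟨x, hx⟩ := Finset.card_pos.1 (by omega : 0 < T.card)
      exact absurd (hsub x hx) List.not_mem_nil
    | cons a rest ihc =>
      intro acc h T hT hsub horth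
      have h' : (choices (visit tgt k) acc rest &&
          visit tgt k (rest.filter (orth a)) (Nat.lor (2 ^ a) acc)) = true := h
      rw [Bool.and_eq_true] at h'
      by_cases ha : a ∈ T
      · have hc : (T.erase a).card = k := by rw [Finset.card_erase_of_mem ha, hT]; omega
        obtain ⟨m, hm, hspec⟩ := ih _ _ h'.2 (T.erase a) hc (fun x hx => by
            obtain ⟨hxa, hxT⟩ := Finset.mem_erase.1 hx
            exact List.mem_filter.2 ⟨(List.mem_cons.1 (hsub x hxT)).resolve_left hxa,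
              horth a ha x hxT (Ne.symm hxa)⟩)
          (fun x hx y hy => horth x (Finset.mem_of_mem_erase hx) y (Finset.mem_of_mem_erase hy))
        refine ⟨m, hm, fun i => ?_⟩
        rw [hspec i, Finset.mem_erase]
        show ((2 ^ a ||| acc).testBit i = true ∨ _) ↔ _
        rw [Nat.testBit_or, Nat.testBit_two_pow, Bool.or_eq_true, decide_eq_true_iff]
        by_cases hia : i = a
        · subst hia; simp [ha]
        · simp [hia, Ne.symm hia]
      · exact ihc acc h'.1 T hT (fun x hx =>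
          (List.mem_cons.1 (hsub x hx)).resolve_left fun e => ha (e ▸ hx)) horth

theorem completeFrom_spec (r : ℕ) : ∀ (cand : List ℕ) (Es : List (List (List ℕ × ℕ × List ℕ))),
    completeFrom r cand Es = true → ∀ T : Finset ℕ, T.card = 5 → (∀ x ∈ T, x ∈ cand) →
      (∀ x ∈ T, ∀ y ∈ T, x ≠ y → orth x y = true) →
      ∃ e : List ℕ × ℕ × List ℕ, entryOK r e = true ∧ ∀ i, i ∈ r :: e.1 ↔ (i = r ∨ i ∈ T) := by
  intro cand
  induction cand with
  | nil =>
    intro Es _ T hT hsub _
    obtain ⟨x, hx⟩ := Finset.card_pos.1 (by omega : 0 < T.card)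
    exact absurd (hsub x hx) List.not_mem_nil
  | cons a rest ih =>
    intro Es h T hT hsub horth
    cases Es with
    | nil => exact absurd h Bool.false_ne_true
    | cons E Es =>
      simp only [completeFrom, Bool.and_eq_true, List.all_eq_true] at h
      obtain ⟨⟨hE, hv⟩, hrest⟩ := h
      by_cases ha : a ∈ T
      · obtain ⟨m, hm, hspec⟩ := visit_spec _ 4 _ _ hv (T.erase a)
          (by rw [Finset.card_erase_of_mem ha, hT]) (fun x hx => by
            obtain ⟨hxa, hxT⟩ := Finset.mem_erase.1 hx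
            exact List.mem_filter.2 ⟨(List.mem_cons.1 (hsub x hxT)).resolve_left hxa,
              horth a ha x hxT (Ne.symm hxa)⟩)
          (fun x hx y hy => horth x (Finset.mem_of_mem_erase hx) y (Finset.mem_of_mem_erase hy))
        obtain ⟨e, he, rfl⟩ := List.mem_map.1 hm
        refine ⟨e, hE e he, fun i => ?_⟩
        rw [← testBit_mask, hspec i, Finset.mem_erase]
        show ((2 ^ a ||| mask [r]).testBit i = true ∨ _) ↔ _
        rw [Nat.testBit_or, Nat.testBit_two_pow, Bool.or_eq_true, decide_eq_true_iff, testBit_mask,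
          List.mem_singleton]
        by_cases hia : i = a
        · subst hia; simp [ha]
        · simp [hia, Ne.symm hia]
      · exact ih Es hrest T hT (fun x hx =>
          (List.mem_cons.1 (hsub x hx)).resolve_left fun e => ha (e ▸ hx)) horth

/-- The representative frame. -/
def repFr (j : ℕ) : Finset (Fin 672) := lst (reps.getD j [])

theorem rep_lt {j : ℕ} (hj : j < 42) : ∀ x ∈ reps.getD j [], x < 672 := by
  have h := reps_ok
  simp only [Bool.and_eq_true, List.all_eq_true] at h
  have hlen : reps.length = 42 := Nat.eq_of_beq_eq_true h.1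
  intro x hx
  rw [List.getD_eq_getElem _ _ (by omega)] at hx
  simpa [Nat.blt] using (h.2 _ (List.getElem_mem _)).2 x hx

theorem ptReps_lt : ∀ r < 3, ptReps.getD r 0 < 672 := by decide +kernel

include hω hF in
theorem frame_cases {S : Finset (Fin 672)} (hS : IsFr S) :
    ∃ h ∈ M0 hω hF, ∃ j < 42, S = mv hω hF h (repFr j) := by
  obtain ⟨p, hp⟩ := Finset.card_pos.1 (by rw [hS.1]; norm_num : 0 < S.card)
  have hw := of_range ptWords_ok p.2
  simp only [ptWordOK, Bool.and_eq_true, List.all_eq_true] at hw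
  obtain ⟨⟨hr, hwlt⟩, hmask⟩ := hw
  set e := ptWords.getD (p : ℕ) (9, [])
  have hr' : e.1 < 3 := by simpa [Nat.blt] using hr
  set r := ptReps.getD e.1 0 with hrdef
  have hrlt : r < 672 := ptReps_lt _ hr'
  obtain ⟨h, hh, hspec⟩ := word_spec hω hF e.2 fun g hg => by simpa [Nat.blt] using hwlt g hg
  obtain ⟨e1, -⟩ := hspec [r] (by simpa using hrlt)
  rw [lst_congr (Nat.eq_of_beq_eq_true hmask)] at e1
  have hpr : p = act hω hF h ⟨r, hrlt⟩ := by
    have hm : p ∈ mv hω hF h (lst [r]) := e1 ▸ mem_lst.2 (List.mem_singleton_self _)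
    obtain ⟨i, hi, rfl⟩ := (mem_mv hω hF).1 hm
    rw [mem_lst, List.mem_singleton] at hi
    exact congrArg _ (Fin.ext hi)
  set S' := mv hω hF h⁻¹ S with hS'def
  have hS' : IsFr S' := hS.mv hω hF _
  have hrS : (⟨r, hrlt⟩ : Fin 672) ∈ S' :=
    (mem_mv hω hF).2 ⟨p, hp, by rw [hpr, ← act_mul, inv_mul_cancel, act_one]⟩
  have hcomp : ∃ Es, completeFrom r (perp r) Es = true := by
    have hc : e.1 = 0 ∨ e.1 = 1 ∨ e.1 = 2 := by omega
    rcases hc with hc | hc | hc <;> rw [hrdef, hc]
    · exact ⟨_, complete0⟩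
    · exact ⟨_, complete1⟩
    · exact ⟨_, complete2⟩
  obtain ⟨Es, hEs⟩ := hcomp
  let T : Finset ℕ := (S'.erase ⟨r, hrlt⟩).map Fin.valEmbedding
  have hT : T.card = 5 := by rw [Finset.card_map, Finset.card_erase_of_mem hrS, hS'.1]
  have hmemT : ∀ x : ℕ, x ∈ T ↔ ∃ i : Fin 672, (i ≠ ⟨r, hrlt⟩ ∧ i ∈ S') ∧ (i : ℕ) = x := fun x => by
    refine Finset.mem_map.trans ⟨?_, ?_⟩
    · rintro ⟨i, hi, rfl⟩
      exact ⟨i, Finset.mem_erase.1 hi, rfl⟩
    · rintro ⟨i, hi, rfl⟩
      exact ⟨i, Finset.mem_erase.2 hi, rfl⟩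
  obtain ⟨en, hen, hmem⟩ := completeFrom_spec r _ Es hEs T hT
    (fun x hx => by
      obtain ⟨i, ⟨hir, hiS⟩, rfl⟩ := (hmemT x).1 hx
      exact List.mem_filter.2 ⟨List.mem_range.2 i.2, hS'.2 _ hrS _ hiS (Ne.symm hir)⟩)
    (fun x hx y hy hxy => by
      obtain ⟨i, ⟨-, hiS⟩, rfl⟩ := (hmemT x).1 hx
      obtain ⟨j, ⟨-, hjS⟩, rfl⟩ := (hmemT y).1 hy
      exact hS'.2 _ hiS _ hjS fun e => hxy (by rw [e]))
  simp only [entryOK, Bool.and_eq_true, List.all_eq_true] at hen
  obtain ⟨⟨hj, hwj⟩, hmj⟩ := hen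
  have hj' : en.2.1 < 42 := by simpa [Nat.blt] using hj
  obtain ⟨k, hk, hkspec⟩ := word_spec hω hF en.2.2 fun g hg => by simpa [Nat.blt] using hwj g hg
  obtain ⟨e2, -⟩ := hkspec _ (rep_lt hj')
  rw [lst_congr (Nat.eq_of_beq_eq_true hmj)] at e2
  have hSl : S' = lst (r :: en.1) := by
    ext i
    rw [mem_lst, hmem, hmemT]
    constructor
    · intro hi
      by_cases hir : i = ⟨r, hrlt⟩
      · exact Or.inl (by rw [hir])
      · exact Or.inr ⟨i, ⟨hir, hi⟩, rfl⟩
    · rintro (hi | ⟨j, ⟨-, hj⟩, e⟩)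
      · rwa [show i = ⟨r, hrlt⟩ from Fin.ext hi]
      · rwa [← Fin.ext e]
  refine ⟨h * k, mul_mem hh hk, en.2.1, hj', ?_⟩
  rw [mv_mul, repFr, ← e2, ← hSl, hS'def, ← mv_mul, mul_inv_cancel, mv_one]

/-! Short and long orbits. -/

/-- A short orbit. -/
def short (j : Fin 8) : Finset (Finset (Fin 672)) := ((shortOrbs.getD j []).map lst).toFinset

theorem short_masks : (distinct (shortOrbs.flatten.map mask) && shortOrbs.all fun O => O.all fun f => f.all fun i => Nat.blt i 672) = true := by
  decide +kernel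

theorem distinct_nodup : ∀ {L : List ℕ}, distinct L = true → L.Nodup
  | [], _ => List.nodup_nil
  | a :: L, h => by
    simp only [distinct, Bool.and_eq_true, Bool.not_eq_true', List.any_eq_false] at h
    exact List.nodup_cons.2 ⟨fun hm => h.1 a hm (Nat.beq_refl a), distinct_nodup h.2⟩

theorem short_nodup : (shortOrbs.flatten.map lst).Nodup := by
  have h := short_masks
  simp only [Bool.and_eq_true, List.all_eq_true] at h
  have h1 := distinct_nodup h.1
  refine List.Nodup.map_on (fun x hx y hy e => ?_) (List.Nodup.of_map _ h1)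
  refine List.inj_on_of_nodup_map h1 hx hy (mask_congr ?_ ?_ e)
  · obtain ⟨O, hO, hxO⟩ := List.mem_flatten.1 hx
    exact fun i hi => by simpa [Nat.blt] using h.2 O hO x hxO i hi
  · obtain ⟨O, hO, hyO⟩ := List.mem_flatten.1 hy
    exact fun i hi => by simpa [Nat.blt] using h.2 O hO y hyO i hi

theorem short_length : shortOrbs.length = 8 := by rw [← List.length_map (f := List.length), short_sizes]; rfl

theorem short_card (j : Fin 8) :
    (short j).card = [1, 60, 30, 30, 30, 81, 81, 81].getD (j : ℕ) 0 := by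
  have hlt : (j : ℕ) < shortOrbs.length := by rw [short_length]; exact j.2
  have hnd := short_nodup
  rw [List.map_flatten, List.nodup_flatten] at hnd
  rw [short, List.toFinset_card_of_nodup, List.length_map, List.getD_eq_getElem _ _ hlt, ← short_sizes,
    List.getD_eq_getElem _ _ (by simpa using hlt), List.getElem_map]
  exact hnd.1 _ (List.mem_map.2 ⟨_, by rw [List.getD_eq_getElem _ _ hlt]; exact List.getElem_mem _, rfl⟩)

theorem short_disjoint {i j : Fin 8} (hij : i ≠ j) : Disjoint (short i) (short j) := by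
  have hi : (i : ℕ) < shortOrbs.length := by rw [short_length]; exact i.2
  have hj : (j : ℕ) < shortOrbs.length := by rw [short_length]; exact j.2
  have hnd := short_nodup
  rw [List.map_flatten, List.nodup_flatten] at hnd
  have hpw := List.pairwise_iff_getElem.1 hnd.2
  rw [Finset.disjoint_left]
  intro S hSi hSj
  simp only [short, List.mem_toFinset, List.getD_eq_getElem _ _ hi, List.getD_eq_getElem _ _ hj] at hSi hSj
  rcases lt_or_gt_of_ne (fun e => hij (Fin.ext e)) with h | h
  · exact hpw i j (by simpa using hi) (by simpa using hj) h (a := S) (by simpa using hSi) (by simpa using hSj)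
  · exact hpw j i (by simpa using hj) (by simpa using hi) h (a := S) (by simpa using hSj) (by simpa using hSi)

theorem short_mem_list {j : Fin 8} {f : List ℕ} (hf : f ∈ shortOrbs.getD j []) : ∀ x ∈ f, x < 672 := by
  have h := short_masks
  simp only [Bool.and_eq_true, List.all_eq_true] at h
  have hlt : (j : ℕ) < shortOrbs.length := by rw [short_length]; exact j.2
  rw [List.getD_eq_getElem _ _ hlt] at hf
  exact fun x hx => by simpa [Nat.blt] using h.2 _ (List.getElem_mem _) f hf x hx

include hω hF in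
theorem short_stable (j : Fin 8) {h : GS F} (hh : h ∈ M0 hω hF) :
    ∀ S ∈ short j, mv hω hF h S ∈ short j := by
  have hok := of_range short_ok j.2
  simp only [shortOK, Bool.and_eq_true, List.all_eq_true, List.mem_range, List.any_eq_true] at hok
  induction hh using Subgroup.closure_induction with
  | mem x hx =>
    obtain ⟨g, hg, rfl⟩ := hx
    intro S hS
    obtain ⟨f, hf, rfl⟩ := List.mem_map.1 (List.mem_toFinset.1 hS)
    obtain ⟨m, hm, e⟩ := hok.2 g hg f hf
    obtain ⟨f', hf', rfl⟩ := List.mem_map.1 hm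
    rw [mv_monEl hω hF hg (short_mem_list hf), lst_congr (Nat.eq_of_beq_eq_true e)]
    exact List.mem_toFinset.2 (List.mem_map.2 ⟨f', hf', rfl⟩)
  | one => intro S hS; rwa [mv_one]
  | mul x y _ _ hx hy => intro S hS; rw [mv_mul]; exact hx _ (hy _ hS)
  | inv x _ hx =>
    intro S hS
    obtain ⟨T, hT, e⟩ := Finset.surj_on_of_inj_on_of_card_le (s := short j) (t := short j)
      (fun T _ => mv hω hF x T) (fun T hT => hx T hT)
      (fun a b _ _ e => by simpa [← mv_mul, mv_one] using congrArg (mv hω hF x⁻¹) e) le_rfl S hS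
    rw [e, ← mv_mul, inv_mul_cancel, mv_one]
    exact hT

theorem short_rep (j : Fin 8) : repFr j ∈ short j := by
  have hok := of_range short_ok j.2
  simp only [shortOK, Bool.and_eq_true, List.any_eq_true] at hok
  obtain ⟨m, hm, e⟩ := hok.1
  obtain ⟨f, hf, rfl⟩ := List.mem_map.1 hm
  rw [repFr, lst_congr (Nat.eq_of_beq_eq_true e)]
  exact List.mem_toFinset.2 (List.mem_map.2 ⟨f, hf, rfl⟩)

include hω hF in
theorem short_orbit (O : Finset (Finset (Fin 672))) (hst : ∀ h ∈ M0 hω hF, ∀ S ∈ O, mv hω hF h S ∈ O)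
    (j : Fin 8) {k : GS F} (hk : k ∈ M0 hω hF) (hmem : mv hω hF k (repFr j) ∈ O)
    {T : Finset (Fin 672)} (hT : T ∈ short j) : T ∈ O := by
  have hok := of_range shortWords_ok j.2
  simp only [shortWordOK, Bool.and_eq_true, List.all_eq_true] at hok
  obtain ⟨f, hf, rfl⟩ := List.mem_map.1 (List.mem_toFinset.1 hT)
  obtain ⟨i, hi, rfl⟩ := List.mem_iff_getElem.1 hf
  have hlen := Nat.eq_of_beq_eq_true hok.1
  obtain ⟨hw, hm⟩ := hok.2 ((shortOrbs.getD j [])[i], (shortWords.getD j [])[i]'(hlen ▸ hi))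
    (List.mem_iff_getElem.2 ⟨i, by rw [List.length_zip, ← hlen, min_self]; exact hi, List.getElem_zip⟩)
  obtain ⟨h, hh, hspec⟩ := word_spec hω hF _ fun g hg => by simpa [Nat.blt] using hw g hg
  obtain ⟨e, -⟩ := hspec _ (rep_lt (show (j : ℕ) < 42 by omega))
  rw [lst_congr (Nat.eq_of_beq_eq_true hm)] at e
  have := hst (h * k⁻¹) (mul_mem hh (inv_mem hk)) _ hmem
  rwa [← mv_mul, mul_assoc, inv_mul_cancel, mul_one, repFr, ← e] at this

theorem short_zero : short 0 = {E0} := by
  have h : (shortOrbs.getD 0 []).map mask = [mask baseFr] := by decide +kernel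
  obtain ⟨f, hf, e⟩ := List.map_eq_singleton_iff.1 h
  show ((shortOrbs.getD 0 []).map lst).toFinset = _
  rw [hf, List.map_singleton, lst_congr e]
  rfl

include hω hF in
theorem tree_mem {rep : List ℕ} (hrep : ∀ x ∈ rep, x < 672) :
    ∀ (t : List (ℕ × ℕ)) (acc : List (List ℕ)), (∀ p ∈ t, p.2 < 9) →
      (∀ f ∈ acc, (∀ x ∈ f, x < 672) ∧ ∃ h ∈ M0 hω hF, lst f = mv hω hF h (lst rep)) →
      ∀ f ∈ treeFr rep t acc, (∀ x ∈ f, x < 672) ∧ ∃ h ∈ M0 hω hF, lst f = mv hω hF h (lst rep) := by
  intro t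
  induction t with
  | nil => intro acc _ h f hf; exact h f hf
  | cons p t ih =>
    intro acc hp h f hf
    obtain ⟨hg, hp'⟩ := List.forall_mem_cons.1 hp
    refine ih _ hp' (fun f' hf' => ?_) f hf
    rcases List.mem_append.1 hf' with hf' | hf'
    · exact h f' hf'
    · rw [List.mem_singleton] at hf'
      subst hf'
      have hsrc : (∀ x ∈ acc.getD p.1 rep, x < 672) ∧
          ∃ k ∈ M0 hω hF, lst (acc.getD p.1 rep) = mv hω hF k (lst rep) := by
        by_cases hlt : p.1 < acc.length
        · rw [List.getD_eq_getElem _ _ hlt]; exact h _ (List.getElem_mem _)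
        · rw [List.getD_eq_default _ _ (by omega)]
          exact ⟨hrep, 1, one_mem _, (mv_one hω hF _).symm⟩
      obtain ⟨h1, k, hk, ek⟩ := hsrc
      refine ⟨fun x hx => ?_, monEl hω hF p.2 * k, mul_mem (monEl_mem hω hF hg) hk, ?_⟩
      · obtain ⟨y, hy, rfl⟩ := List.mem_map.1 hx
        exact monImg_lt hg (h1 y hy)
      · rw [← mv_monEl hω hF hg h1, ek, mv_mul]

theorem combos : ∀ J : Finset (Fin 8),
    ((∑ j ∈ J, [1, 60, 30, 30, 30, 81, 81, 81].getD (j : ℕ) 0) = 112 →
      (0 : Fin 8) ∈ J ∧ ((5 : Fin 8) ∈ J ∨ (6 : Fin 8) ∈ J ∨ (7 : Fin 8) ∈ J)) ∧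
    (∑ j ∈ J, [1, 60, 30, 30, 30, 81, 81, 81].getD (j : ℕ) 0) ≠ 56 := by
  decide +kernel

include hω hF in
/-- A set of 112 frames stable under the monomial subgroup contains the standard frame and one of
the three orbits of length 81. -/
theorem stable_set (O : Finset (Finset (Fin 672))) (hfr : ∀ S ∈ O, IsFr S) (hcard : O.card = 112 ∨ O.card = 56)
    (hst : ∀ h ∈ M0 hω hF, ∀ S ∈ O, mv hω hF h S ∈ O) :
    O.card = 112 ∧ E0 ∈ O ∧ (short 5 ⊆ O ∨ short 6 ⊆ O ∨ short 7 ⊆ O) := by
  classical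
  have hnolong : ∀ S ∈ O, ∀ h ∈ M0 hω hF, ∀ j, 8 ≤ j → j < 42 → S ≠ mv hω hF h (repFr j) := by
    intro S hS h hh j hj8 hj e
    have hlen : reps.length = 42 := by
      have h' := reps_ok
      simp only [Bool.and_eq_true] at h'
      exact Nat.eq_of_beq_eq_true h'.1
    have hl := of_range long_ok (i := j - 8) (by omega)
    rw [show j - 8 + 8 = j by omega] at hl
    simp only [longOK, Bool.and_eq_true, List.all_eq_true] at hl
    set L := treeFr (reps.getD j []) (longTrees.getD (j - 8) []) [reps.getD j []]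
    have hsp := tree_mem hω hF (rep_lt hj) (longTrees.getD (j - 8) []) [reps.getD j []]
      (fun p hp => by simpa [Nat.blt] using hl.2 p hp)
      (fun f hf => by
        rw [List.mem_singleton] at hf; subst hf
        exact ⟨rep_lt hj, 1, one_mem _, (mv_one hω hF _).symm⟩)
    have hnd : (L.map lst).Nodup := by
      have h1 := distinct_nodup hl.1.2
      exact List.Nodup.map_on (fun x hx y hy e' =>
        List.inj_on_of_nodup_map h1 hx hy (mask_congr (hsp x hx).1 (hsp y hy).1 e')) (List.Nodup.of_map _ h1)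
    have hsub : (L.map lst).toFinset ⊆ O := fun T hT => by
      obtain ⟨f, hf, rfl⟩ := List.mem_map.1 (List.mem_toFinset.1 hT)
      obtain ⟨-, k, hk, ek⟩ := hsp f hf
      have := hst (k * h⁻¹) (mul_mem hk (inv_mem hh)) S hS
      rwa [e, ← mv_mul, mul_assoc, inv_mul_cancel, mul_one, repFr, ← ek] at this
    have := Finset.card_le_card hsub
    rw [List.toFinset_card_of_nodup hnd, List.length_map, Nat.eq_of_beq_eq_true hl.1.1] at this
    omega
  have hshort : ∀ S ∈ O, ∃ j : Fin 8, S ∈ short j ∧ short j ⊆ O := by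
    intro S hS
    obtain ⟨h, hh, j, hj, e⟩ := frame_cases hω hF (hfr S hS)
    have hj8 : j < 8 := by
      by_contra hc
      exact hnolong S hS h hh j (by omega) hj e
    refine ⟨⟨j, hj8⟩, e ▸ short_stable hω hF _ hh _ (short_rep ⟨j, hj8⟩), fun T hT => ?_⟩
    exact short_orbit hω hF O hst ⟨j, hj8⟩ (k := h) hh (e ▸ hS) hT
  let J := Finset.univ.filter fun j : Fin 8 => short j ⊆ O
  have hO : O = J.biUnion short := by
    ext S
    simp only [Finset.mem_biUnion, J, Finset.mem_filter, Finset.mem_univ, true_and]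
    exact ⟨fun hS => let ⟨j, h1, h2⟩ := hshort S hS; ⟨j, h2, h1⟩, fun ⟨j, h1, h2⟩ => h1 h2⟩
  have hsum : (∑ j ∈ J, [1, 60, 30, 30, 30, 81, 81, 81].getD (j : ℕ) 0) = O.card := by
    rw [hO, Finset.card_biUnion fun i _ j _ hij => short_disjoint hij]
    exact Finset.sum_congr rfl fun j _ => (short_card j).symm
  have h112 : O.card = 112 := hcard.resolve_right fun e => (combos J).2 (hsum.trans e)
  obtain ⟨h0, h5⟩ := (combos J).1 (hsum.trans h112)
  simp only [J, Finset.mem_filter, Finset.mem_univ, true_and] at h0 h5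
  rw [short_zero, Finset.singleton_subset_iff] at h0
  exact ⟨h112, h0, h5⟩

end CfsgLib.Chev.U43U6
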