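import Cfsg.Agent.Lib.Chev.U43InU6.Code

/-!
Words for all permutations of the coordinates.
-/

set_option autoImplicit false

namespace CfsgLib.Chev.U43U6

/-- Each permutation of the coordinates, whether the first transposition is applied, and a word. -/
def permWords : List (List ℕ × ℕ × List ℕ) := [
  ([0, 1, 2, 3, 4, 5], 0, []),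
  ([1, 2, 0, 3, 4, 5], 0, [0]),
  ([0, 2, 3, 1, 4, 5], 0, [1]),
  ([0, 1, 3, 4, 2, 5], 0, [2]),
  ([0, 1, 2, 4, 5, 3], 0, [3]),
  ([2, 0, 1, 3, 4, 5], 0, [0, 0]),
  ([2, 3, 0, 1, 4, 5], 0, [1, 0]),
  ([1, 3, 0, 4, 2, 5], 0, [2, 0]),
  ([1, 2, 0, 4, 5, 3], 0, [3, 0]),
  ([1, 0, 3, 2, 4, 5], 0, [0, 1]),
  ([0, 3, 1, 2, 4, 5], 0, [1, 1]),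
  ([0, 3, 4, 1, 2, 5], 0, [2, 1]),
  ([0, 2, 4, 1, 5, 3], 0, [3, 1]),
  ([1, 2, 3, 4, 0, 5], 0, [0, 2]),
  ([0, 2, 1, 4, 3, 5], 0, [1, 2]),
  ([0, 1, 4, 2, 3, 5], 0, [2, 2]),
  ([0, 1, 4, 5, 2, 3], 0, [3, 2]),
  ([0, 2, 3, 4, 5, 1], 0, [1, 3]),
  ([0, 1, 3, 2, 5, 4], 0, [2, 3]),
  ([0, 1, 2, 5, 3, 4], 0, [3, 3]),
  ([3, 0, 2, 1, 4, 5], 0, [1, 0, 0]),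
  ([3, 0, 1, 4, 2, 5], 0, [2, 0, 0]),
  ([2, 0, 1, 4, 5, 3], 0, [3, 0, 0]),
  ([3, 1, 0, 2, 4, 5], 0, [1, 1, 0]),
  ([3, 4, 0, 1, 2, 5], 0, [2, 1, 0]),
  ([2, 4, 0, 1, 5, 3], 0, [3, 1, 0]),
  ([2, 3, 1, 4, 0, 5], 0, [0, 2, 0]),
  ([2, 1, 0, 4, 3, 5], 0, [1, 2, 0]),
  ([1, 4, 0, 2, 3, 5], 0, [2, 2, 0]),
  ([1, 4, 0, 5, 2, 3], 0, [3, 2, 0]),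
  ([2, 3, 0, 4, 5, 1], 0, [1, 3, 0]),
  ([1, 3, 0, 2, 5, 4], 0, [2, 3, 0]),
  ([1, 2, 0, 5, 3, 4], 0, [3, 3, 0]),
  ([2, 1, 3, 0, 4, 5], 0, [0, 0, 1]),
  ([1, 0, 4, 3, 2, 5], 0, [2, 0, 1]),
  ([1, 0, 4, 2, 5, 3], 0, [3, 0, 1]),
  ([1, 3, 2, 0, 4, 5], 0, [0, 1, 1]),
  ([0, 4, 1, 3, 2, 5], 0, [2, 1, 1]),
  ([0, 4, 1, 2, 5, 3], 0, [3, 1, 1]),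
  ([1, 3, 4, 2, 0, 5], 0, [0, 2, 1]),
  ([0, 4, 2, 1, 3, 5], 0, [2, 2, 1]),
  ([0, 4, 5, 1, 2, 3], 0, [3, 2, 1]),
  ([0, 3, 4, 2, 5, 1], 0, [1, 3, 1]),
  ([0, 3, 2, 1, 5, 4], 0, [2, 3, 1]),
  ([0, 2, 5, 1, 3, 4], 0, [3, 3, 1]),
  ([2, 0, 3, 4, 1, 5], 0, [0, 0, 2]),
  ([1, 2, 4, 5, 0, 3], 0, [3, 0, 2]),
  ([1, 0, 2, 4, 3, 5], 0, [0, 1, 2]),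
  ([0, 3, 2, 4, 1, 5], 0, [1, 1, 2]),
  ([0, 2, 1, 5, 4, 3], 0, [3, 1, 2]),
  ([1, 2, 4, 0, 3, 5], 0, [0, 2, 2]),
  ([0, 2, 4, 3, 1, 5], 0, [1, 2, 2]),
  ([0, 1, 5, 2, 4, 3], 0, [3, 2, 2]),
  ([0, 2, 4, 5, 3, 1], 0, [1, 3, 2]),
  ([0, 1, 5, 3, 2, 4], 0, [3, 3, 2]),
  ([1, 0, 3, 4, 5, 2], 0, [0, 1, 3]),
  ([0, 3, 1, 4, 5, 2], 0, [1, 1, 3]),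
  ([1, 2, 3, 0, 5, 4], 0, [0, 2, 3]),
  ([0, 2, 1, 3, 5, 4], 0, [1, 2, 3]),
  ([0, 1, 4, 3, 5, 2], 0, [2, 2, 3]),
  ([0, 2, 3, 5, 1, 4], 0, [1, 3, 3]),
  ([0, 1, 3, 5, 4, 2], 0, [2, 3, 3]),
  ([4, 0, 3, 1, 2, 5], 0, [2, 1, 0, 0]),
  ([4, 0, 2, 1, 5, 3], 0, [3, 1, 0, 0]),
  ([3, 1, 2, 4, 0, 5], 0, [0, 2, 0, 0]),
  ([4, 0, 1, 2, 3, 5], 0, [2, 2, 0, 0]),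
  ([4, 0, 1, 5, 2, 3], 0, [3, 2, 0, 0]),
  ([3, 0, 2, 4, 5, 1], 0, [1, 3, 0, 0]),
  ([3, 0, 1, 2, 5, 4], 0, [2, 3, 0, 0]),
  ([2, 0, 1, 5, 3, 4], 0, [3, 3, 0, 0]),
  ([3, 2, 1, 0, 4, 5], 0, [0, 1, 1, 0]),
  ([4, 1, 0, 3, 2, 5], 0, [2, 1, 1, 0]),
  ([4, 1, 0, 2, 5, 3], 0, [3, 1, 1, 0]),
  ([3, 4, 1, 2, 0, 5], 0, [0, 2, 1, 0]),
  ([4, 2, 0, 1, 3, 5], 0, [2, 2, 1, 0]),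
  ([4, 5, 0, 1, 2, 3], 0, [3, 2, 1, 0]),
  ([3, 4, 0, 2, 5, 1], 0, [1, 3, 1, 0]),
  ([3, 2, 0, 1, 5, 4], 0, [2, 3, 1, 0]),
  ([2, 5, 0, 1, 3, 4], 0, [3, 3, 1, 0]),
  ([2, 4, 1, 5, 0, 3], 0, [3, 0, 2, 0]),
  ([3, 2, 0, 4, 1, 5], 0, [1, 1, 2, 0]),
  ([2, 1, 0, 5, 4, 3], 0, [3, 1, 2, 0]),
  ([2, 4, 1, 0, 3, 5], 0, [0, 2, 2, 0]),
  ([2, 4, 0, 3, 1, 5], 0, [1, 2, 2, 0]),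
  ([1, 5, 0, 2, 4, 3], 0, [3, 2, 2, 0]),
  ([2, 4, 0, 5, 3, 1], 0, [1, 3, 2, 0]),
  ([1, 5, 0, 3, 2, 4], 0, [3, 3, 2, 0]),
  ([3, 1, 0, 4, 5, 2], 0, [1, 1, 3, 0]),
  ([2, 3, 1, 0, 5, 4], 0, [0, 2, 3, 0]),
  ([2, 1, 0, 3, 5, 4], 0, [1, 2, 3, 0]),
  ([1, 4, 0, 3, 5, 2], 0, [2, 2, 3, 0]),
  ([2, 3, 0, 5, 1, 4], 0, [1, 3, 3, 0]),
  ([1, 3, 0, 5, 4, 2], 0, [2, 3, 3, 0]),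
  ([3, 1, 4, 0, 2, 5], 0, [2, 0, 0, 1]),
  ([2, 1, 4, 0, 5, 3], 0, [3, 0, 0, 1]),
  ([2, 1, 4, 3, 0, 5], 0, [0, 2, 0, 1]),
  ([2, 0, 4, 1, 3, 5], 0, [1, 2, 0, 1]),
  ([1, 0, 5, 4, 2, 3], 0, [3, 2, 0, 1]),
  ([2, 0, 4, 3, 5, 1], 0, [1, 3, 0, 1]),
  ([1, 0, 2, 3, 5, 4], 0, [2, 3, 0, 1]),
  ([1, 0, 5, 2, 3, 4], 0, [3, 3, 0, 1]),
  ([1, 4, 3, 0, 2, 5], 0, [2, 0, 1, 1]),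
  ([1, 4, 2, 0, 5, 3], 0, [3, 0, 1, 1]),
  ([1, 4, 2, 3, 0, 5], 0, [0, 2, 1, 1]),
  ([0, 5, 1, 4, 2, 3], 0, [3, 2, 1, 1]),
  ([0, 4, 2, 3, 5, 1], 0, [1, 3, 1, 1]),
  ([0, 5, 1, 2, 3, 4], 0, [3, 3, 1, 1]),
  ([2, 3, 4, 0, 1, 5], 0, [0, 0, 2, 1]),
  ([1, 4, 5, 2, 0, 3], 0, [3, 0, 2, 1]),
  ([0, 4, 3, 2, 1, 5], 0, [1, 2, 2, 1]),
  ([0, 5, 2, 1, 4, 3], 0, [3, 2, 2, 1]),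
  ([0, 4, 5, 2, 3, 1], 0, [1, 3, 2, 1]),
  ([0, 5, 3, 1, 2, 4], 0, [3, 3, 2, 1]),
  ([1, 3, 4, 0, 5, 2], 0, [0, 1, 3, 1]),
  ([0, 4, 3, 1, 5, 2], 0, [2, 2, 3, 1]),
  ([0, 3, 5, 2, 1, 4], 0, [1, 3, 3, 1]),
  ([0, 3, 5, 1, 4, 2], 0, [2, 3, 3, 1]),
  ([3, 0, 4, 2, 1, 5], 0, [2, 0, 0, 2]),
  ([2, 0, 4, 5, 1, 3], 0, [3, 0, 0, 2]),
  ([2, 3, 4, 5, 0, 1], 0, [1, 3, 0, 2]),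
  ([1, 3, 2, 5, 0, 4], 0, [2, 3, 0, 2]),
  ([1, 2, 5, 3, 0, 4], 0, [3, 3, 0, 2]),
  ([1, 0, 2, 5, 4, 3], 0, [3, 0, 1, 2]),
  ([0, 4, 2, 5, 1, 3], 0, [3, 1, 1, 2]),
  ([0, 3, 2, 5, 4, 1], 0, [1, 3, 1, 2]),
  ([0, 3, 1, 5, 2, 4], 0, [2, 3, 1, 2]),
  ([1, 2, 5, 0, 4, 3], 0, [3, 0, 2, 2]),
  ([0, 2, 5, 4, 1, 3], 0, [3, 1, 2, 2]),
  ([0, 2, 5, 3, 4, 1], 0, [1, 3, 2, 2]),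
  ([1, 0, 4, 5, 3, 2], 0, [0, 1, 3, 2]),
  ([0, 3, 4, 5, 1, 2], 0, [1, 1, 3, 2]),
  ([0, 1, 5, 4, 3, 2], 0, [2, 3, 3, 2]),
  ([2, 1, 3, 4, 5, 0], 0, [0, 0, 1, 3]),
  ([1, 3, 2, 4, 5, 0], 0, [0, 1, 1, 3]),
  ([0, 4, 1, 5, 3, 2], 0, [3, 1, 1, 3]),
  ([2, 0, 3, 1, 5, 4], 0, [0, 0, 2, 3]),
  ([1, 2, 4, 3, 5, 0], 0, [0, 2, 2, 3]),
  ([1, 0, 3, 5, 2, 4], 0, [0, 1, 3, 3]),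
  ([1, 2, 3, 5, 4, 0], 0, [0, 2, 3, 3]),
  ([4, 1, 3, 2, 0, 5], 0, [0, 2, 1, 0, 0]),
  ([5, 0, 4, 1, 2, 3], 0, [3, 2, 1, 0, 0]),
  ([4, 0, 3, 2, 5, 1], 0, [1, 3, 1, 0, 0]),
  ([5, 0, 2, 1, 3, 4], 0, [3, 3, 1, 0, 0]),
  ([4, 1, 2, 5, 0, 3], 0, [3, 0, 2, 0, 0]),
  ([4, 1, 2, 0, 3, 5], 0, [0, 2, 2, 0, 0]),
  ([4, 0, 2, 3, 1, 5], 0, [1, 2, 2, 0, 0]),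
  ([5, 0, 1, 2, 4, 3], 0, [3, 2, 2, 0, 0]),
  ([4, 0, 2, 5, 3, 1], 0, [1, 3, 2, 0, 0]),
  ([5, 0, 1, 3, 2, 4], 0, [3, 3, 2, 0, 0]),
  ([3, 1, 2, 0, 5, 4], 0, [0, 2, 3, 0, 0]),
  ([4, 0, 1, 3, 5, 2], 0, [2, 2, 3, 0, 0]),
  ([3, 0, 2, 5, 1, 4], 0, [1, 3, 3, 0, 0]),
  ([3, 0, 1, 5, 4, 2], 0, [2, 3, 3, 0, 0]),
  ([4, 3, 1, 0, 2, 5], 0, [2, 0, 1, 1, 0]),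
  ([4, 2, 1, 0, 5, 3], 0, [3, 0, 1, 1, 0]),
  ([4, 2, 1, 3, 0, 5], 0, [0, 2, 1, 1, 0]),
  ([5, 1, 0, 4, 2, 3], 0, [3, 2, 1, 1, 0]),
  ([4, 2, 0, 3, 5, 1], 0, [1, 3, 1, 1, 0]),
  ([5, 1, 0, 2, 3, 4], 0, [3, 3, 1, 1, 0]),
  ([3, 4, 2, 0, 1, 5], 0, [0, 0, 2, 1, 0]),
  ([4, 5, 1, 2, 0, 3], 0, [3, 0, 2, 1, 0]),
  ([4, 3, 0, 2, 1, 5], 0, [1, 2, 2, 1, 0]),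
  ([5, 2, 0, 1, 4, 3], 0, [3, 2, 2, 1, 0]),
  ([4, 5, 0, 2, 3, 1], 0, [1, 3, 2, 1, 0]),
  ([5, 3, 0, 1, 2, 4], 0, [3, 3, 2, 1, 0]),
  ([3, 4, 1, 0, 5, 2], 0, [0, 1, 3, 1, 0]),
  ([4, 3, 0, 1, 5, 2], 0, [2, 2, 3, 1, 0]),
  ([3, 5, 0, 2, 1, 4], 0, [1, 3, 3, 1, 0]),
  ([3, 5, 0, 1, 4, 2], 0, [2, 3, 3, 1, 0]),
  ([3, 4, 2, 5, 0, 1], 0, [1, 3, 0, 2, 0]),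
  ([3, 2, 1, 5, 0, 4], 0, [2, 3, 0, 2, 0]),
  ([2, 5, 1, 3, 0, 4], 0, [3, 3, 0, 2, 0]),
  ([4, 2, 0, 5, 1, 3], 0, [3, 1, 1, 2, 0]),
  ([3, 2, 0, 5, 4, 1], 0, [1, 3, 1, 2, 0]),
  ([3, 1, 0, 5, 2, 4], 0, [2, 3, 1, 2, 0]),
  ([2, 5, 1, 0, 4, 3], 0, [3, 0, 2, 2, 0]),
  ([2, 5, 0, 4, 1, 3], 0, [3, 1, 2, 2, 0]),
  ([2, 5, 0, 3, 4, 1], 0, [1, 3, 2, 2, 0]),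
  ([3, 4, 0, 5, 1, 2], 0, [1, 1, 3, 2, 0]),
  ([1, 5, 0, 4, 3, 2], 0, [2, 3, 3, 2, 0]),
  ([3, 2, 1, 4, 5, 0], 0, [0, 1, 1, 3, 0]),
  ([4, 1, 0, 5, 3, 2], 0, [3, 1, 1, 3, 0]),
  ([2, 4, 1, 3, 5, 0], 0, [0, 2, 2, 3, 0]),
  ([2, 3, 1, 5, 4, 0], 0, [0, 2, 3, 3, 0]),
  ([3, 2, 4, 1, 0, 5], 0, [0, 2, 0, 0, 1]),
  ([4, 1, 5, 0, 2, 3], 0, [3, 2, 0, 0, 1]),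
  ([3, 2, 4, 0, 5, 1], 0, [1, 3, 0, 0, 1]),
  ([2, 1, 5, 0, 3, 4], 0, [3, 3, 0, 0, 1]),
  ([2, 1, 5, 4, 0, 3], 0, [3, 0, 2, 0, 1]),
  ([2, 0, 5, 1, 4, 3], 0, [3, 1, 2, 0, 1]),
  ([2, 0, 5, 4, 3, 1], 0, [1, 3, 2, 0, 1]),
  ([3, 0, 4, 1, 5, 2], 0, [1, 1, 3, 0, 1]),
  ([2, 0, 5, 3, 1, 4], 0, [1, 3, 3, 0, 1]),
  ([1, 0, 5, 3, 4, 2], 0, [2, 3, 3, 0, 1]),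
  ([2, 4, 3, 1, 0, 5], 0, [0, 2, 0, 1, 1]),
  ([1, 5, 4, 0, 2, 3], 0, [3, 2, 0, 1, 1]),
  ([2, 4, 3, 0, 5, 1], 0, [1, 3, 0, 1, 1]),
  ([1, 5, 2, 0, 3, 4], 0, [3, 3, 0, 1, 1]),
  ([1, 5, 2, 4, 0, 3], 0, [3, 0, 2, 1, 1]),
  ([0, 5, 2, 4, 3, 1], 0, [1, 3, 2, 1, 1]),
  ([0, 5, 2, 3, 1, 4], 0, [1, 3, 3, 1, 1]),
  ([0, 5, 1, 3, 4, 2], 0, [2, 3, 3, 1, 1]),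
  ([2, 4, 5, 0, 1, 3], 0, [3, 0, 0, 2, 1]),
  ([2, 4, 5, 3, 0, 1], 0, [1, 3, 0, 2, 1]),
  ([1, 5, 3, 2, 0, 4], 0, [3, 3, 0, 2, 1]),
  ([0, 5, 4, 2, 1, 3], 0, [3, 1, 2, 2, 1]),
  ([0, 5, 3, 2, 4, 1], 0, [1, 3, 2, 2, 1]),
  ([1, 4, 5, 0, 3, 2], 0, [0, 1, 3, 2, 1]),
  ([0, 4, 5, 3, 1, 2], 0, [1, 1, 3, 2, 1]),
  ([0, 5, 4, 1, 3, 2], 0, [2, 3, 3, 2, 1]),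
  ([2, 3, 4, 1, 5, 0], 0, [0, 0, 1, 3, 1]),
  ([1, 4, 3, 2, 5, 0], 0, [0, 2, 2, 3, 1]),
  ([1, 3, 5, 0, 2, 4], 0, [0, 1, 3, 3, 1]),
  ([1, 3, 5, 2, 4, 0], 0, [0, 2, 3, 3, 1]),
  ([4, 0, 5, 2, 1, 3], 0, [3, 2, 0, 0, 2]),
  ([3, 0, 4, 5, 2, 1], 0, [1, 3, 0, 0, 2]),
  ([3, 1, 4, 5, 0, 2], 0, [1, 1, 3, 0, 2]),
  ([2, 1, 3, 5, 0, 4], 0, [1, 2, 3, 0, 2]),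
  ([1, 4, 3, 5, 0, 2], 0, [2, 2, 3, 0, 2]),
  ([2, 3, 5, 1, 0, 4], 0, [1, 3, 3, 0, 2]),
  ([1, 3, 5, 4, 0, 2], 0, [2, 3, 3, 0, 2]),
  ([2, 0, 3, 5, 4, 1], 0, [1, 3, 0, 1, 2]),
  ([0, 4, 3, 5, 2, 1], 0, [1, 3, 1, 1, 2]),
  ([2, 3, 5, 0, 4, 1], 0, [1, 3, 0, 2, 2]),
  ([0, 3, 5, 4, 2, 1], 0, [1, 3, 1, 2, 2]),
  ([2, 1, 4, 5, 3, 0], 0, [0, 0, 1, 3, 2]),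
  ([1, 3, 4, 5, 2, 0], 0, [0, 1, 1, 3, 2]),
  ([1, 2, 5, 4, 3, 0], 0, [0, 2, 3, 3, 2]),
  ([3, 1, 4, 2, 5, 0], 0, [2, 0, 0, 1, 3]),
  ([1, 4, 2, 5, 3, 0], 0, [3, 0, 1, 1, 3]),
  ([4, 2, 3, 0, 1, 5], 0, [0, 0, 2, 1, 0, 0]),
  ([5, 1, 4, 2, 0, 3], 0, [3, 0, 2, 1, 0, 0]),
  ([5, 0, 4, 2, 3, 1], 0, [1, 3, 2, 1, 0, 0]),
  ([3, 0, 5, 1, 2, 4], 0, [3, 3, 2, 1, 0, 0]),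
  ([4, 1, 3, 0, 5, 2], 0, [0, 1, 3, 1, 0, 0]),
  ([5, 0, 3, 2, 1, 4], 0, [1, 3, 3, 1, 0, 0]),
  ([5, 0, 3, 1, 4, 2], 0, [2, 3, 3, 1, 0, 0]),
  ([4, 2, 3, 5, 0, 1], 0, [1, 3, 0, 2, 0, 0]),
  ([5, 1, 2, 3, 0, 4], 0, [3, 3, 0, 2, 0, 0]),
  ([5, 1, 2, 0, 4, 3], 0, [3, 0, 2, 2, 0, 0]),
  ([5, 0, 2, 4, 1, 3], 0, [3, 1, 2, 2, 0, 0]),
  ([5, 0, 2, 3, 4, 1], 0, [1, 3, 2, 2, 0, 0]),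
  ([4, 0, 3, 5, 1, 2], 0, [1, 1, 3, 2, 0, 0]),
  ([5, 0, 1, 4, 3, 2], 0, [2, 3, 3, 2, 0, 0]),
  ([4, 1, 2, 3, 5, 0], 0, [0, 2, 2, 3, 0, 0]),
  ([3, 1, 2, 5, 4, 0], 0, [0, 2, 3, 3, 0, 0]),
  ([4, 3, 2, 1, 0, 5], 0, [0, 2, 0, 1, 1, 0]),
  ([5, 4, 1, 0, 2, 3], 0, [3, 2, 0, 1, 1, 0]),
  ([4, 3, 2, 0, 5, 1], 0, [1, 3, 0, 1, 1, 0]),
  ([5, 2, 1, 0, 3, 4], 0, [3, 3, 0, 1, 1, 0]),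
  ([5, 2, 1, 4, 0, 3], 0, [3, 0, 2, 1, 1, 0]),
  ([5, 2, 0, 4, 3, 1], 0, [1, 3, 2, 1, 1, 0]),
  ([5, 2, 0, 3, 1, 4], 0, [1, 3, 3, 1, 1, 0]),
  ([5, 1, 0, 3, 4, 2], 0, [2, 3, 3, 1, 1, 0]),
  ([4, 5, 2, 0, 1, 3], 0, [3, 0, 0, 2, 1, 0]),
  ([4, 5, 2, 3, 0, 1], 0, [1, 3, 0, 2, 1, 0]),
  ([5, 3, 1, 2, 0, 4], 0, [3, 3, 0, 2, 1, 0]),
  ([5, 4, 0, 2, 1, 3], 0, [3, 1, 2, 2, 1, 0]),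
  ([5, 3, 0, 2, 4, 1], 0, [1, 3, 2, 2, 1, 0]),
  ([4, 5, 1, 0, 3, 2], 0, [0, 1, 3, 2, 1, 0]),
  ([4, 5, 0, 3, 1, 2], 0, [1, 1, 3, 2, 1, 0]),
  ([5, 4, 0, 1, 3, 2], 0, [2, 3, 3, 2, 1, 0]),
  ([3, 4, 2, 1, 5, 0], 0, [0, 0, 1, 3, 1, 0]),
  ([4, 3, 1, 2, 5, 0], 0, [0, 2, 2, 3, 1, 0]),
  ([3, 5, 1, 0, 2, 4], 0, [0, 1, 3, 3, 1, 0]),
  ([3, 5, 1, 2, 4, 0], 0, [0, 2, 3, 3, 1, 0]),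
  ([4, 3, 1, 5, 0, 2], 0, [2, 2, 3, 0, 2, 0]),
  ([3, 5, 2, 1, 0, 4], 0, [1, 3, 3, 0, 2, 0]),
  ([3, 5, 1, 4, 0, 2], 0, [2, 3, 3, 0, 2, 0]),
  ([4, 3, 0, 5, 2, 1], 0, [1, 3, 1, 1, 2, 0]),
  ([3, 5, 2, 0, 4, 1], 0, [1, 3, 0, 2, 2, 0]),
  ([3, 5, 0, 4, 2, 1], 0, [1, 3, 1, 2, 2, 0]),
  ([3, 4, 1, 5, 2, 0], 0, [0, 1, 1, 3, 2, 0]),
  ([2, 5, 1, 4, 3, 0], 0, [0, 2, 3, 3, 2, 0]),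
  ([4, 2, 1, 5, 3, 0], 0, [3, 0, 1, 1, 3, 0]),
  ([4, 2, 5, 1, 0, 3], 0, [3, 0, 2, 0, 0, 1]),
  ([4, 2, 5, 0, 3, 1], 0, [1, 3, 2, 0, 0, 1]),
  ([5, 1, 3, 0, 2, 4], 0, [3, 3, 2, 0, 0, 1]),
  ([3, 2, 5, 0, 1, 4], 0, [1, 3, 3, 0, 0, 1]),
  ([3, 1, 5, 0, 4, 2], 0, [2, 3, 3, 0, 0, 1]),
  ([3, 2, 5, 4, 0, 1], 0, [1, 3, 0, 2, 0, 1]),
  ([3, 1, 5, 2, 0, 4], 0, [2, 3, 0, 2, 0, 1]),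
  ([3, 0, 5, 2, 4, 1], 0, [1, 3, 1, 2, 0, 1]),
  ([3, 0, 5, 4, 1, 2], 0, [1, 1, 3, 2, 0, 1]),
  ([4, 0, 5, 1, 3, 2], 0, [3, 1, 1, 3, 0, 1]),
  ([2, 1, 5, 3, 4, 0], 0, [0, 2, 3, 3, 0, 1]),
  ([2, 5, 4, 1, 0, 3], 0, [3, 0, 2, 0, 1, 1]),
  ([2, 5, 4, 0, 3, 1], 0, [1, 3, 2, 0, 1, 1]),
  ([2, 5, 3, 0, 1, 4], 0, [1, 3, 3, 0, 1, 1]),
  ([1, 5, 3, 0, 4, 2], 0, [2, 3, 3, 0, 1, 1]),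
  ([2, 5, 3, 4, 0, 1], 0, [1, 3, 0, 2, 1, 1]),
  ([0, 5, 3, 4, 1, 2], 0, [1, 1, 3, 2, 1, 1]),
  ([1, 5, 2, 3, 4, 0], 0, [0, 2, 3, 3, 1, 1]),
  ([3, 4, 5, 0, 2, 1], 0, [1, 3, 0, 0, 2, 1]),
  ([3, 4, 5, 1, 0, 2], 0, [1, 1, 3, 0, 2, 1]),
  ([1, 5, 4, 3, 0, 2], 0, [2, 3, 3, 0, 2, 1]),
  ([0, 5, 4, 3, 2, 1], 0, [1, 3, 1, 2, 2, 1]),
  ([2, 4, 5, 1, 3, 0], 0, [0, 0, 1, 3, 2, 1]),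
  ([1, 4, 5, 3, 2, 0], 0, [0, 1, 1, 3, 2, 1]),
  ([1, 5, 4, 2, 3, 0], 0, [0, 2, 3, 3, 2, 1]),
  ([4, 0, 5, 3, 2, 1], 0, [1, 3, 2, 0, 0, 2]),
  ([3, 2, 4, 5, 1, 0], 0, [0, 1, 1, 3, 0, 2]),
  ([4, 1, 5, 3, 0, 2], 0, [3, 1, 1, 3, 0, 2]),
  ([2, 4, 3, 5, 1, 0], 0, [0, 2, 2, 3, 0, 2]),
  ([2, 3, 5, 4, 1, 0], 0, [0, 2, 3, 3, 0, 2]),
  ([4, 1, 5, 2, 3, 0], 0, [3, 2, 0, 0, 1, 3]),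
  ([5, 2, 4, 0, 1, 3], 0, [3, 0, 0, 2, 1, 0, 0]),
  ([5, 2, 4, 3, 0, 1], 0, [1, 3, 0, 2, 1, 0, 0]),
  ([5, 1, 4, 0, 3, 2], 0, [0, 1, 3, 2, 1, 0, 0]),
  ([5, 0, 4, 3, 1, 2], 0, [1, 1, 3, 2, 1, 0, 0]),
  ([4, 2, 3, 1, 5, 0], 0, [0, 0, 1, 3, 1, 0, 0]),
  ([5, 1, 3, 2, 4, 0], 0, [0, 2, 3, 3, 1, 0, 0]),
  ([5, 2, 3, 1, 0, 4], 0, [1, 3, 3, 0, 2, 0, 0]),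
  ([5, 1, 3, 4, 0, 2], 0, [2, 3, 3, 0, 2, 0, 0]),
  ([5, 2, 3, 0, 4, 1], 0, [1, 3, 0, 2, 2, 0, 0]),
  ([5, 0, 3, 4, 2, 1], 0, [1, 3, 1, 2, 2, 0, 0]),
  ([4, 1, 3, 5, 2, 0], 0, [0, 1, 1, 3, 2, 0, 0]),
  ([5, 1, 2, 4, 3, 0], 0, [0, 2, 3, 3, 2, 0, 0]),
  ([5, 4, 2, 1, 0, 3], 0, [3, 0, 2, 0, 1, 1, 0]),
  ([5, 4, 2, 0, 3, 1], 0, [1, 3, 2, 0, 1, 1, 0]),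
  ([5, 3, 2, 0, 1, 4], 0, [1, 3, 3, 0, 1, 1, 0]),
  ([5, 3, 1, 0, 4, 2], 0, [2, 3, 3, 0, 1, 1, 0]),
  ([5, 3, 2, 4, 0, 1], 0, [1, 3, 0, 2, 1, 1, 0]),
  ([5, 3, 0, 4, 1, 2], 0, [1, 1, 3, 2, 1, 1, 0]),
  ([5, 2, 1, 3, 4, 0], 0, [0, 2, 3, 3, 1, 1, 0]),
  ([4, 5, 3, 0, 2, 1], 0, [1, 3, 0, 0, 2, 1, 0]),
  ([4, 5, 3, 1, 0, 2], 0, [1, 1, 3, 0, 2, 1, 0]),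
  ([5, 4, 1, 3, 0, 2], 0, [2, 3, 3, 0, 2, 1, 0]),
  ([5, 4, 0, 3, 2, 1], 0, [1, 3, 1, 2, 2, 1, 0]),
  ([4, 5, 2, 1, 3, 0], 0, [0, 0, 1, 3, 2, 1, 0]),
  ([4, 5, 1, 3, 2, 0], 0, [0, 1, 1, 3, 2, 1, 0]),
  ([5, 4, 1, 2, 3, 0], 0, [0, 2, 3, 3, 2, 1, 0]),
  ([4, 3, 2, 5, 1, 0], 0, [0, 2, 2, 3, 0, 2, 0]),
  ([3, 5, 2, 4, 1, 0], 0, [0, 2, 3, 3, 0, 2, 0]),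
  ([4, 3, 5, 2, 0, 1], 0, [1, 3, 0, 2, 0, 0, 1]),
  ([4, 3, 5, 0, 1, 2], 0, [1, 1, 3, 2, 0, 0, 1]),
  ([3, 2, 5, 1, 4, 0], 0, [0, 2, 3, 3, 0, 0, 1]),
  ([3, 1, 5, 4, 2, 0], 0, [0, 1, 1, 3, 2, 0, 1]),
  ([3, 5, 4, 2, 0, 1], 0, [1, 3, 0, 2, 0, 1, 1]),
  ([3, 5, 4, 0, 1, 2], 0, [1, 1, 3, 2, 0, 1, 1]),
  ([2, 5, 3, 1, 4, 0], 0, [0, 2, 3, 3, 0, 1, 1]),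
  ([1, 5, 3, 4, 2, 0], 0, [0, 1, 1, 3, 2, 1, 1]),
  ([3, 4, 5, 2, 1, 0], 0, [0, 1, 1, 3, 0, 2, 1]),
  ([2, 5, 4, 3, 1, 0], 0, [0, 2, 3, 3, 0, 2, 1]),
  ([4, 2, 5, 3, 1, 0], 0, [3, 0, 1, 1, 3, 0, 2]),
  ([5, 3, 4, 0, 2, 1], 0, [1, 3, 0, 0, 2, 1, 0, 0]),
  ([5, 3, 4, 1, 0, 2], 0, [1, 1, 3, 0, 2, 1, 0, 0]),
  ([5, 2, 4, 1, 3, 0], 0, [0, 0, 1, 3, 2, 1, 0, 0]),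
  ([5, 1, 4, 3, 2, 0], 0, [0, 1, 1, 3, 2, 1, 0, 0]),
  ([5, 2, 3, 4, 1, 0], 0, [0, 2, 3, 3, 0, 2, 0, 0]),
  ([5, 4, 3, 2, 0, 1], 0, [1, 3, 0, 2, 0, 1, 1, 0]),
  ([5, 4, 3, 0, 1, 2], 0, [1, 1, 3, 2, 0, 1, 1, 0]),
  ([5, 3, 2, 1, 4, 0], 0, [0, 2, 3, 3, 0, 1, 1, 0]),
  ([5, 3, 1, 4, 2, 0], 0, [0, 1, 1, 3, 2, 1, 1, 0]),
  ([4, 5, 3, 2, 1, 0], 0, [0, 1, 1, 3, 0, 2, 1, 0]),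
  ([5, 4, 2, 3, 1, 0], 0, [0, 2, 3, 3, 0, 2, 1, 0]),
  ([4, 3, 5, 1, 2, 0], 0, [0, 1, 1, 3, 2, 0, 0, 1]),
  ([3, 5, 4, 1, 2, 0], 0, [0, 1, 1, 3, 2, 0, 1, 1]),
  ([5, 3, 4, 2, 1, 0], 0, [0, 1, 1, 3, 0, 2, 1, 0, 0]),
  ([5, 4, 3, 1, 2, 0], 0, [0, 1, 1, 3, 2, 0, 1, 1, 0]),
  ([1, 0, 2, 3, 4, 5], 1, []),
  ([0, 2, 1, 3, 4, 5], 1, [0]),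
  ([1, 2, 3, 0, 4, 5], 1, [1]),
  ([1, 0, 3, 4, 2, 5], 1, [2]),
  ([1, 0, 2, 4, 5, 3], 1, [3]),
  ([2, 1, 0, 3, 4, 5], 1, [0, 0]),
  ([2, 3, 1, 0, 4, 5], 1, [1, 0]),
  ([0, 3, 1, 4, 2, 5], 1, [2, 0]),
  ([0, 2, 1, 4, 5, 3], 1, [3, 0]),
  ([0, 1, 3, 2, 4, 5], 1, [0, 1]),
  ([1, 3, 0, 2, 4, 5], 1, [1, 1]),
  ([1, 3, 4, 0, 2, 5], 1, [2, 1]),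
  ([1, 2, 4, 0, 5, 3], 1, [3, 1]),
  ([0, 2, 3, 4, 1, 5], 1, [0, 2]),
  ([1, 2, 0, 4, 3, 5], 1, [1, 2]),
  ([1, 0, 4, 2, 3, 5], 1, [2, 2]),
  ([1, 0, 4, 5, 2, 3], 1, [3, 2]),
  ([1, 2, 3, 4, 5, 0], 1, [1, 3]),
  ([1, 0, 3, 2, 5, 4], 1, [2, 3]),
  ([1, 0, 2, 5, 3, 4], 1, [3, 3]),
  ([3, 1, 2, 0, 4, 5], 1, [1, 0, 0]),
  ([3, 1, 0, 4, 2, 5], 1, [2, 0, 0]),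
  ([2, 1, 0, 4, 5, 3], 1, [3, 0, 0]),
  ([3, 0, 1, 2, 4, 5], 1, [1, 1, 0]),
  ([3, 4, 1, 0, 2, 5], 1, [2, 1, 0]),
  ([2, 4, 1, 0, 5, 3], 1, [3, 1, 0]),
  ([2, 3, 0, 4, 1, 5], 1, [0, 2, 0]),
  ([2, 0, 1, 4, 3, 5], 1, [1, 2, 0]),
  ([0, 4, 1, 2, 3, 5], 1, [2, 2, 0]),
  ([0, 4, 1, 5, 2, 3], 1, [3, 2, 0]),
  ([2, 3, 1, 4, 5, 0], 1, [1, 3, 0]),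
  ([0, 3, 1, 2, 5, 4], 1, [2, 3, 0]),
  ([0, 2, 1, 5, 3, 4], 1, [3, 3, 0]),
  ([2, 0, 3, 1, 4, 5], 1, [0, 0, 1]),
  ([0, 1, 4, 3, 2, 5], 1, [2, 0, 1]),
  ([0, 1, 4, 2, 5, 3], 1, [3, 0, 1]),
  ([0, 3, 2, 1, 4, 5], 1, [0, 1, 1]),
  ([1, 4, 0, 3, 2, 5], 1, [2, 1, 1]),
  ([1, 4, 0, 2, 5, 3], 1, [3, 1, 1]),
  ([0, 3, 4, 2, 1, 5], 1, [0, 2, 1]),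
  ([1, 4, 2, 0, 3, 5], 1, [2, 2, 1]),
  ([1, 4, 5, 0, 2, 3], 1, [3, 2, 1]),
  ([1, 3, 4, 2, 5, 0], 1, [1, 3, 1]),
  ([1, 3, 2, 0, 5, 4], 1, [2, 3, 1]),
  ([1, 2, 5, 0, 3, 4], 1, [3, 3, 1]),
  ([2, 1, 3, 4, 0, 5], 1, [0, 0, 2]),
  ([0, 2, 4, 5, 1, 3], 1, [3, 0, 2]),
  ([0, 1, 2, 4, 3, 5], 1, [0, 1, 2]),
  ([1, 3, 2, 4, 0, 5], 1, [1, 1, 2]),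
  ([1, 2, 0, 5, 4, 3], 1, [3, 1, 2]),
  ([0, 2, 4, 1, 3, 5], 1, [0, 2, 2]),
  ([1, 2, 4, 3, 0, 5], 1, [1, 2, 2]),
  ([1, 0, 5, 2, 4, 3], 1, [3, 2, 2]),
  ([1, 2, 4, 5, 3, 0], 1, [1, 3, 2]),
  ([1, 0, 5, 3, 2, 4], 1, [3, 3, 2]),
  ([0, 1, 3, 4, 5, 2], 1, [0, 1, 3]),
  ([1, 3, 0, 4, 5, 2], 1, [1, 1, 3]),
  ([0, 2, 3, 1, 5, 4], 1, [0, 2, 3]),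
  ([1, 2, 0, 3, 5, 4], 1, [1, 2, 3]),
  ([1, 0, 4, 3, 5, 2], 1, [2, 2, 3]),
  ([1, 2, 3, 5, 0, 4], 1, [1, 3, 3]),
  ([1, 0, 3, 5, 4, 2], 1, [2, 3, 3]),
  ([4, 1, 3, 0, 2, 5], 1, [2, 1, 0, 0]),
  ([4, 1, 2, 0, 5, 3], 1, [3, 1, 0, 0]),
  ([3, 0, 2, 4, 1, 5], 1, [0, 2, 0, 0]),
  ([4, 1, 0, 2, 3, 5], 1, [2, 2, 0, 0]),
  ([4, 1, 0, 5, 2, 3], 1, [3, 2, 0, 0]),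
  ([3, 1, 2, 4, 5, 0], 1, [1, 3, 0, 0]),
  ([3, 1, 0, 2, 5, 4], 1, [2, 3, 0, 0]),
  ([2, 1, 0, 5, 3, 4], 1, [3, 3, 0, 0]),
  ([3, 2, 0, 1, 4, 5], 1, [0, 1, 1, 0]),
  ([4, 0, 1, 3, 2, 5], 1, [2, 1, 1, 0]),
  ([4, 0, 1, 2, 5, 3], 1, [3, 1, 1, 0]),
  ([3, 4, 0, 2, 1, 5], 1, [0, 2, 1, 0]),
  ([4, 2, 1, 0, 3, 5], 1, [2, 2, 1, 0]),
  ([4, 5, 1, 0, 2, 3], 1, [3, 2, 1, 0]),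
  ([3, 4, 1, 2, 5, 0], 1, [1, 3, 1, 0]),
  ([3, 2, 1, 0, 5, 4], 1, [2, 3, 1, 0]),
  ([2, 5, 1, 0, 3, 4], 1, [3, 3, 1, 0]),
  ([2, 4, 0, 5, 1, 3], 1, [3, 0, 2, 0]),
  ([3, 2, 1, 4, 0, 5], 1, [1, 1, 2, 0]),
  ([2, 0, 1, 5, 4, 3], 1, [3, 1, 2, 0]),
  ([2, 4, 0, 1, 3, 5], 1, [0, 2, 2, 0]),
  ([2, 4, 1, 3, 0, 5], 1, [1, 2, 2, 0]),
  ([0, 5, 1, 2, 4, 3], 1, [3, 2, 2, 0]),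
  ([2, 4, 1, 5, 3, 0], 1, [1, 3, 2, 0]),
  ([0, 5, 1, 3, 2, 4], 1, [3, 3, 2, 0]),
  ([3, 0, 1, 4, 5, 2], 1, [1, 1, 3, 0]),
  ([2, 3, 0, 1, 5, 4], 1, [0, 2, 3, 0]),
  ([2, 0, 1, 3, 5, 4], 1, [1, 2, 3, 0]),
  ([0, 4, 1, 3, 5, 2], 1, [2, 2, 3, 0]),
  ([2, 3, 1, 5, 0, 4], 1, [1, 3, 3, 0]),
  ([0, 3, 1, 5, 4, 2], 1, [2, 3, 3, 0]),
  ([3, 0, 4, 1, 2, 5], 1, [2, 0, 0, 1]),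
  ([2, 0, 4, 1, 5, 3], 1, [3, 0, 0, 1]),
  ([2, 0, 4, 3, 1, 5], 1, [0, 2, 0, 1]),
  ([2, 1, 4, 0, 3, 5], 1, [1, 2, 0, 1]),
  ([0, 1, 5, 4, 2, 3], 1, [3, 2, 0, 1]),
  ([2, 1, 4, 3, 5, 0], 1, [1, 3, 0, 1]),
  ([0, 1, 2, 3, 5, 4], 1, [2, 3, 0, 1]),
  ([0, 1, 5, 2, 3, 4], 1, [3, 3, 0, 1]),
  ([0, 4, 3, 1, 2, 5], 1, [2, 0, 1, 1]),
  ([0, 4, 2, 1, 5, 3], 1, [3, 0, 1, 1]),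
  ([0, 4, 2, 3, 1, 5], 1, [0, 2, 1, 1]),
  ([1, 5, 0, 4, 2, 3], 1, [3, 2, 1, 1]),
  ([1, 4, 2, 3, 5, 0], 1, [1, 3, 1, 1]),
  ([1, 5, 0, 2, 3, 4], 1, [3, 3, 1, 1]),
  ([2, 3, 4, 1, 0, 5], 1, [0, 0, 2, 1]),
  ([0, 4, 5, 2, 1, 3], 1, [3, 0, 2, 1]),
  ([1, 4, 3, 2, 0, 5], 1, [1, 2, 2, 1]),
  ([1, 5, 2, 0, 4, 3], 1, [3, 2, 2, 1]),
  ([1, 4, 5, 2, 3, 0], 1, [1, 3, 2, 1]),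
  ([1, 5, 3, 0, 2, 4], 1, [3, 3, 2, 1]),
  ([0, 3, 4, 1, 5, 2], 1, [0, 1, 3, 1]),
  ([1, 4, 3, 0, 5, 2], 1, [2, 2, 3, 1]),
  ([1, 3, 5, 2, 0, 4], 1, [1, 3, 3, 1]),
  ([1, 3, 5, 0, 4, 2], 1, [2, 3, 3, 1]),
  ([3, 1, 4, 2, 0, 5], 1, [2, 0, 0, 2]),
  ([2, 1, 4, 5, 0, 3], 1, [3, 0, 0, 2]),
  ([2, 3, 4, 5, 1, 0], 1, [1, 3, 0, 2]),
  ([0, 3, 2, 5, 1, 4], 1, [2, 3, 0, 2]),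
  ([0, 2, 5, 3, 1, 4], 1, [3, 3, 0, 2]),
  ([0, 1, 2, 5, 4, 3], 1, [3, 0, 1, 2]),
  ([1, 4, 2, 5, 0, 3], 1, [3, 1, 1, 2]),
  ([1, 3, 2, 5, 4, 0], 1, [1, 3, 1, 2]),
  ([1, 3, 0, 5, 2, 4], 1, [2, 3, 1, 2]),
  ([0, 2, 5, 1, 4, 3], 1, [3, 0, 2, 2]),
  ([1, 2, 5, 4, 0, 3], 1, [3, 1, 2, 2]),
  ([1, 2, 5, 3, 4, 0], 1, [1, 3, 2, 2]),
  ([0, 1, 4, 5, 3, 2], 1, [0, 1, 3, 2]),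
  ([1, 3, 4, 5, 0, 2], 1, [1, 1, 3, 2]),
  ([1, 0, 5, 4, 3, 2], 1, [2, 3, 3, 2]),
  ([2, 0, 3, 4, 5, 1], 1, [0, 0, 1, 3]),
  ([0, 3, 2, 4, 5, 1], 1, [0, 1, 1, 3]),
  ([1, 4, 0, 5, 3, 2], 1, [3, 1, 1, 3]),
  ([2, 1, 3, 0, 5, 4], 1, [0, 0, 2, 3]),
  ([0, 2, 4, 3, 5, 1], 1, [0, 2, 2, 3]),
  ([0, 1, 3, 5, 2, 4], 1, [0, 1, 3, 3]),
  ([0, 2, 3, 5, 4, 1], 1, [0, 2, 3, 3]),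
  ([4, 0, 3, 2, 1, 5], 1, [0, 2, 1, 0, 0]),
  ([5, 1, 4, 0, 2, 3], 1, [3, 2, 1, 0, 0]),
  ([4, 1, 3, 2, 5, 0], 1, [1, 3, 1, 0, 0]),
  ([5, 1, 2, 0, 3, 4], 1, [3, 3, 1, 0, 0]),
  ([4, 0, 2, 5, 1, 3], 1, [3, 0, 2, 0, 0]),
  ([4, 0, 2, 1, 3, 5], 1, [0, 2, 2, 0, 0]),
  ([4, 1, 2, 3, 0, 5], 1, [1, 2, 2, 0, 0]),
  ([5, 1, 0, 2, 4, 3], 1, [3, 2, 2, 0, 0]),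
  ([4, 1, 2, 5, 3, 0], 1, [1, 3, 2, 0, 0]),
  ([5, 1, 0, 3, 2, 4], 1, [3, 3, 2, 0, 0]),
  ([3, 0, 2, 1, 5, 4], 1, [0, 2, 3, 0, 0]),
  ([4, 1, 0, 3, 5, 2], 1, [2, 2, 3, 0, 0]),
  ([3, 1, 2, 5, 0, 4], 1, [1, 3, 3, 0, 0]),
  ([3, 1, 0, 5, 4, 2], 1, [2, 3, 3, 0, 0]),
  ([4, 3, 0, 1, 2, 5], 1, [2, 0, 1, 1, 0]),
  ([4, 2, 0, 1, 5, 3], 1, [3, 0, 1, 1, 0]),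
  ([4, 2, 0, 3, 1, 5], 1, [0, 2, 1, 1, 0]),
  ([5, 0, 1, 4, 2, 3], 1, [3, 2, 1, 1, 0]),
  ([4, 2, 1, 3, 5, 0], 1, [1, 3, 1, 1, 0]),
  ([5, 0, 1, 2, 3, 4], 1, [3, 3, 1, 1, 0]),
  ([3, 4, 2, 1, 0, 5], 1, [0, 0, 2, 1, 0]),
  ([4, 5, 0, 2, 1, 3], 1, [3, 0, 2, 1, 0]),
  ([4, 3, 1, 2, 0, 5], 1, [1, 2, 2, 1, 0]),
  ([5, 2, 1, 0, 4, 3], 1, [3, 2, 2, 1, 0]),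
  ([4, 5, 1, 2, 3, 0], 1, [1, 3, 2, 1, 0]),
  ([5, 3, 1, 0, 2, 4], 1, [3, 3, 2, 1, 0]),
  ([3, 4, 0, 1, 5, 2], 1, [0, 1, 3, 1, 0]),
  ([4, 3, 1, 0, 5, 2], 1, [2, 2, 3, 1, 0]),
  ([3, 5, 1, 2, 0, 4], 1, [1, 3, 3, 1, 0]),
  ([3, 5, 1, 0, 4, 2], 1, [2, 3, 3, 1, 0]),
  ([3, 4, 2, 5, 1, 0], 1, [1, 3, 0, 2, 0]),
  ([3, 2, 0, 5, 1, 4], 1, [2, 3, 0, 2, 0]),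
  ([2, 5, 0, 3, 1, 4], 1, [3, 3, 0, 2, 0]),
  ([4, 2, 1, 5, 0, 3], 1, [3, 1, 1, 2, 0]),
  ([3, 2, 1, 5, 4, 0], 1, [1, 3, 1, 2, 0]),
  ([3, 0, 1, 5, 2, 4], 1, [2, 3, 1, 2, 0]),
  ([2, 5, 0, 1, 4, 3], 1, [3, 0, 2, 2, 0]),
  ([2, 5, 1, 4, 0, 3], 1, [3, 1, 2, 2, 0]),
  ([2, 5, 1, 3, 4, 0], 1, [1, 3, 2, 2, 0]),
  ([3, 4, 1, 5, 0, 2], 1, [1, 1, 3, 2, 0]),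
  ([0, 5, 1, 4, 3, 2], 1, [2, 3, 3, 2, 0]),
  ([3, 2, 0, 4, 5, 1], 1, [0, 1, 1, 3, 0]),
  ([4, 0, 1, 5, 3, 2], 1, [3, 1, 1, 3, 0]),
  ([2, 4, 0, 3, 5, 1], 1, [0, 2, 2, 3, 0]),
  ([2, 3, 0, 5, 4, 1], 1, [0, 2, 3, 3, 0]),
  ([3, 2, 4, 0, 1, 5], 1, [0, 2, 0, 0, 1]),
  ([4, 0, 5, 1, 2, 3], 1, [3, 2, 0, 0, 1]),
  ([3, 2, 4, 1, 5, 0], 1, [1, 3, 0, 0, 1]),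
  ([2, 0, 5, 1, 3, 4], 1, [3, 3, 0, 0, 1]),
  ([2, 0, 5, 4, 1, 3], 1, [3, 0, 2, 0, 1]),
  ([2, 1, 5, 0, 4, 3], 1, [3, 1, 2, 0, 1]),
  ([2, 1, 5, 4, 3, 0], 1, [1, 3, 2, 0, 1]),
  ([3, 1, 4, 0, 5, 2], 1, [1, 1, 3, 0, 1]),
  ([2, 1, 5, 3, 0, 4], 1, [1, 3, 3, 0, 1]),
  ([0, 1, 5, 3, 4, 2], 1, [2, 3, 3, 0, 1]),
  ([2, 4, 3, 0, 1, 5], 1, [0, 2, 0, 1, 1]),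
  ([0, 5, 4, 1, 2, 3], 1, [3, 2, 0, 1, 1]),
  ([2, 4, 3, 1, 5, 0], 1, [1, 3, 0, 1, 1]),
  ([0, 5, 2, 1, 3, 4], 1, [3, 3, 0, 1, 1]),
  ([0, 5, 2, 4, 1, 3], 1, [3, 0, 2, 1, 1]),
  ([1, 5, 2, 4, 3, 0], 1, [1, 3, 2, 1, 1]),
  ([1, 5, 2, 3, 0, 4], 1, [1, 3, 3, 1, 1]),
  ([1, 5, 0, 3, 4, 2], 1, [2, 3, 3, 1, 1]),
  ([2, 4, 5, 1, 0, 3], 1, [3, 0, 0, 2, 1]),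
  ([2, 4, 5, 3, 1, 0], 1, [1, 3, 0, 2, 1]),
  ([0, 5, 3, 2, 1, 4], 1, [3, 3, 0, 2, 1]),
  ([1, 5, 4, 2, 0, 3], 1, [3, 1, 2, 2, 1]),
  ([1, 5, 3, 2, 4, 0], 1, [1, 3, 2, 2, 1]),
  ([0, 4, 5, 1, 3, 2], 1, [0, 1, 3, 2, 1]),
  ([1, 4, 5, 3, 0, 2], 1, [1, 1, 3, 2, 1]),
  ([1, 5, 4, 0, 3, 2], 1, [2, 3, 3, 2, 1]),
  ([2, 3, 4, 0, 5, 1], 1, [0, 0, 1, 3, 1]),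
  ([0, 4, 3, 2, 5, 1], 1, [0, 2, 2, 3, 1]),
  ([0, 3, 5, 1, 2, 4], 1, [0, 1, 3, 3, 1]),
  ([0, 3, 5, 2, 4, 1], 1, [0, 2, 3, 3, 1]),
  ([4, 1, 5, 2, 0, 3], 1, [3, 2, 0, 0, 2]),
  ([3, 1, 4, 5, 2, 0], 1, [1, 3, 0, 0, 2]),
  ([3, 0, 4, 5, 1, 2], 1, [1, 1, 3, 0, 2]),
  ([2, 0, 3, 5, 1, 4], 1, [1, 2, 3, 0, 2]),
  ([0, 4, 3, 5, 1, 2], 1, [2, 2, 3, 0, 2]),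
  ([2, 3, 5, 0, 1, 4], 1, [1, 3, 3, 0, 2]),
  ([0, 3, 5, 4, 1, 2], 1, [2, 3, 3, 0, 2]),
  ([2, 1, 3, 5, 4, 0], 1, [1, 3, 0, 1, 2]),
  ([1, 4, 3, 5, 2, 0], 1, [1, 3, 1, 1, 2]),
  ([2, 3, 5, 1, 4, 0], 1, [1, 3, 0, 2, 2]),
  ([1, 3, 5, 4, 2, 0], 1, [1, 3, 1, 2, 2]),
  ([2, 0, 4, 5, 3, 1], 1, [0, 0, 1, 3, 2]),
  ([0, 3, 4, 5, 2, 1], 1, [0, 1, 1, 3, 2]),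
  ([0, 2, 5, 4, 3, 1], 1, [0, 2, 3, 3, 2]),
  ([3, 0, 4, 2, 5, 1], 1, [2, 0, 0, 1, 3]),
  ([0, 4, 2, 5, 3, 1], 1, [3, 0, 1, 1, 3]),
  ([4, 2, 3, 1, 0, 5], 1, [0, 0, 2, 1, 0, 0]),
  ([5, 0, 4, 2, 1, 3], 1, [3, 0, 2, 1, 0, 0]),
  ([5, 1, 4, 2, 3, 0], 1, [1, 3, 2, 1, 0, 0]),
  ([3, 1, 5, 0, 2, 4], 1, [3, 3, 2, 1, 0, 0]),
  ([4, 0, 3, 1, 5, 2], 1, [0, 1, 3, 1, 0, 0]),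
  ([5, 1, 3, 2, 0, 4], 1, [1, 3, 3, 1, 0, 0]),
  ([5, 1, 3, 0, 4, 2], 1, [2, 3, 3, 1, 0, 0]),
  ([4, 2, 3, 5, 1, 0], 1, [1, 3, 0, 2, 0, 0]),
  ([5, 0, 2, 3, 1, 4], 1, [3, 3, 0, 2, 0, 0]),
  ([5, 0, 2, 1, 4, 3], 1, [3, 0, 2, 2, 0, 0]),
  ([5, 1, 2, 4, 0, 3], 1, [3, 1, 2, 2, 0, 0]),
  ([5, 1, 2, 3, 4, 0], 1, [1, 3, 2, 2, 0, 0]),
  ([4, 1, 3, 5, 0, 2], 1, [1, 1, 3, 2, 0, 0]),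
  ([5, 1, 0, 4, 3, 2], 1, [2, 3, 3, 2, 0, 0]),
  ([4, 0, 2, 3, 5, 1], 1, [0, 2, 2, 3, 0, 0]),
  ([3, 0, 2, 5, 4, 1], 1, [0, 2, 3, 3, 0, 0]),
  ([4, 3, 2, 0, 1, 5], 1, [0, 2, 0, 1, 1, 0]),
  ([5, 4, 0, 1, 2, 3], 1, [3, 2, 0, 1, 1, 0]),
  ([4, 3, 2, 1, 5, 0], 1, [1, 3, 0, 1, 1, 0]),
  ([5, 2, 0, 1, 3, 4], 1, [3, 3, 0, 1, 1, 0]),
  ([5, 2, 0, 4, 1, 3], 1, [3, 0, 2, 1, 1, 0]),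
  ([5, 2, 1, 4, 3, 0], 1, [1, 3, 2, 1, 1, 0]),
  ([5, 2, 1, 3, 0, 4], 1, [1, 3, 3, 1, 1, 0]),
  ([5, 0, 1, 3, 4, 2], 1, [2, 3, 3, 1, 1, 0]),
  ([4, 5, 2, 1, 0, 3], 1, [3, 0, 0, 2, 1, 0]),
  ([4, 5, 2, 3, 1, 0], 1, [1, 3, 0, 2, 1, 0]),
  ([5, 3, 0, 2, 1, 4], 1, [3, 3, 0, 2, 1, 0]),
  ([5, 4, 1, 2, 0, 3], 1, [3, 1, 2, 2, 1, 0]),
  ([5, 3, 1, 2, 4, 0], 1, [1, 3, 2, 2, 1, 0]),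
  ([4, 5, 0, 1, 3, 2], 1, [0, 1, 3, 2, 1, 0]),
  ([4, 5, 1, 3, 0, 2], 1, [1, 1, 3, 2, 1, 0]),
  ([5, 4, 1, 0, 3, 2], 1, [2, 3, 3, 2, 1, 0]),
  ([3, 4, 2, 0, 5, 1], 1, [0, 0, 1, 3, 1, 0]),
  ([4, 3, 0, 2, 5, 1], 1, [0, 2, 2, 3, 1, 0]),
  ([3, 5, 0, 1, 2, 4], 1, [0, 1, 3, 3, 1, 0]),
  ([3, 5, 0, 2, 4, 1], 1, [0, 2, 3, 3, 1, 0]),
  ([4, 3, 0, 5, 1, 2], 1, [2, 2, 3, 0, 2, 0]),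
  ([3, 5, 2, 0, 1, 4], 1, [1, 3, 3, 0, 2, 0]),
  ([3, 5, 0, 4, 1, 2], 1, [2, 3, 3, 0, 2, 0]),
  ([4, 3, 1, 5, 2, 0], 1, [1, 3, 1, 1, 2, 0]),
  ([3, 5, 2, 1, 4, 0], 1, [1, 3, 0, 2, 2, 0]),
  ([3, 5, 1, 4, 2, 0], 1, [1, 3, 1, 2, 2, 0]),
  ([3, 4, 0, 5, 2, 1], 1, [0, 1, 1, 3, 2, 0]),
  ([2, 5, 0, 4, 3, 1], 1, [0, 2, 3, 3, 2, 0]),
  ([4, 2, 0, 5, 3, 1], 1, [3, 0, 1, 1, 3, 0]),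
  ([4, 2, 5, 0, 1, 3], 1, [3, 0, 2, 0, 0, 1]),
  ([4, 2, 5, 1, 3, 0], 1, [1, 3, 2, 0, 0, 1]),
  ([5, 0, 3, 1, 2, 4], 1, [3, 3, 2, 0, 0, 1]),
  ([3, 2, 5, 1, 0, 4], 1, [1, 3, 3, 0, 0, 1]),
  ([3, 0, 5, 1, 4, 2], 1, [2, 3, 3, 0, 0, 1]),
  ([3, 2, 5, 4, 1, 0], 1, [1, 3, 0, 2, 0, 1]),
  ([3, 0, 5, 2, 1, 4], 1, [2, 3, 0, 2, 0, 1]),
  ([3, 1, 5, 2, 4, 0], 1, [1, 3, 1, 2, 0, 1]),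
  ([3, 1, 5, 4, 0, 2], 1, [1, 1, 3, 2, 0, 1]),
  ([4, 1, 5, 0, 3, 2], 1, [3, 1, 1, 3, 0, 1]),
  ([2, 0, 5, 3, 4, 1], 1, [0, 2, 3, 3, 0, 1]),
  ([2, 5, 4, 0, 1, 3], 1, [3, 0, 2, 0, 1, 1]),
  ([2, 5, 4, 1, 3, 0], 1, [1, 3, 2, 0, 1, 1]),
  ([2, 5, 3, 1, 0, 4], 1, [1, 3, 3, 0, 1, 1]),
  ([0, 5, 3, 1, 4, 2], 1, [2, 3, 3, 0, 1, 1]),
  ([2, 5, 3, 4, 1, 0], 1, [1, 3, 0, 2, 1, 1]),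
  ([1, 5, 3, 4, 0, 2], 1, [1, 1, 3, 2, 1, 1]),
  ([0, 5, 2, 3, 4, 1], 1, [0, 2, 3, 3, 1, 1]),
  ([3, 4, 5, 1, 2, 0], 1, [1, 3, 0, 0, 2, 1]),
  ([3, 4, 5, 0, 1, 2], 1, [1, 1, 3, 0, 2, 1]),
  ([0, 5, 4, 3, 1, 2], 1, [2, 3, 3, 0, 2, 1]),
  ([1, 5, 4, 3, 2, 0], 1, [1, 3, 1, 2, 2, 1]),
  ([2, 4, 5, 0, 3, 1], 1, [0, 0, 1, 3, 2, 1]),
  ([0, 4, 5, 3, 2, 1], 1, [0, 1, 1, 3, 2, 1]),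
  ([0, 5, 4, 2, 3, 1], 1, [0, 2, 3, 3, 2, 1]),
  ([4, 1, 5, 3, 2, 0], 1, [1, 3, 2, 0, 0, 2]),
  ([3, 2, 4, 5, 0, 1], 1, [0, 1, 1, 3, 0, 2]),
  ([4, 0, 5, 3, 1, 2], 1, [3, 1, 1, 3, 0, 2]),
  ([2, 4, 3, 5, 0, 1], 1, [0, 2, 2, 3, 0, 2]),
  ([2, 3, 5, 4, 0, 1], 1, [0, 2, 3, 3, 0, 2]),
  ([4, 0, 5, 2, 3, 1], 1, [3, 2, 0, 0, 1, 3]),
  ([5, 2, 4, 1, 0, 3], 1, [3, 0, 0, 2, 1, 0, 0]),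
  ([5, 2, 4, 3, 1, 0], 1, [1, 3, 0, 2, 1, 0, 0]),
  ([5, 0, 4, 1, 3, 2], 1, [0, 1, 3, 2, 1, 0, 0]),
  ([5, 1, 4, 3, 0, 2], 1, [1, 1, 3, 2, 1, 0, 0]),
  ([4, 2, 3, 0, 5, 1], 1, [0, 0, 1, 3, 1, 0, 0]),
  ([5, 0, 3, 2, 4, 1], 1, [0, 2, 3, 3, 1, 0, 0]),
  ([5, 2, 3, 0, 1, 4], 1, [1, 3, 3, 0, 2, 0, 0]),
  ([5, 0, 3, 4, 1, 2], 1, [2, 3, 3, 0, 2, 0, 0]),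
  ([5, 2, 3, 1, 4, 0], 1, [1, 3, 0, 2, 2, 0, 0]),
  ([5, 1, 3, 4, 2, 0], 1, [1, 3, 1, 2, 2, 0, 0]),
  ([4, 0, 3, 5, 2, 1], 1, [0, 1, 1, 3, 2, 0, 0]),
  ([5, 0, 2, 4, 3, 1], 1, [0, 2, 3, 3, 2, 0, 0]),
  ([5, 4, 2, 0, 1, 3], 1, [3, 0, 2, 0, 1, 1, 0]),
  ([5, 4, 2, 1, 3, 0], 1, [1, 3, 2, 0, 1, 1, 0]),
  ([5, 3, 2, 1, 0, 4], 1, [1, 3, 3, 0, 1, 1, 0]),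
  ([5, 3, 0, 1, 4, 2], 1, [2, 3, 3, 0, 1, 1, 0]),
  ([5, 3, 2, 4, 1, 0], 1, [1, 3, 0, 2, 1, 1, 0]),
  ([5, 3, 1, 4, 0, 2], 1, [1, 1, 3, 2, 1, 1, 0]),
  ([5, 2, 0, 3, 4, 1], 1, [0, 2, 3, 3, 1, 1, 0]),
  ([4, 5, 3, 1, 2, 0], 1, [1, 3, 0, 0, 2, 1, 0]),
  ([4, 5, 3, 0, 1, 2], 1, [1, 1, 3, 0, 2, 1, 0]),
  ([5, 4, 0, 3, 1, 2], 1, [2, 3, 3, 0, 2, 1, 0]),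
  ([5, 4, 1, 3, 2, 0], 1, [1, 3, 1, 2, 2, 1, 0]),
  ([4, 5, 2, 0, 3, 1], 1, [0, 0, 1, 3, 2, 1, 0]),
  ([4, 5, 0, 3, 2, 1], 1, [0, 1, 1, 3, 2, 1, 0]),
  ([5, 4, 0, 2, 3, 1], 1, [0, 2, 3, 3, 2, 1, 0]),
  ([4, 3, 2, 5, 0, 1], 1, [0, 2, 2, 3, 0, 2, 0]),
  ([3, 5, 2, 4, 0, 1], 1, [0, 2, 3, 3, 0, 2, 0]),
  ([4, 3, 5, 2, 1, 0], 1, [1, 3, 0, 2, 0, 0, 1]),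
  ([4, 3, 5, 1, 0, 2], 1, [1, 1, 3, 2, 0, 0, 1]),
  ([3, 2, 5, 0, 4, 1], 1, [0, 2, 3, 3, 0, 0, 1]),
  ([3, 0, 5, 4, 2, 1], 1, [0, 1, 1, 3, 2, 0, 1]),
  ([3, 5, 4, 2, 1, 0], 1, [1, 3, 0, 2, 0, 1, 1]),
  ([3, 5, 4, 1, 0, 2], 1, [1, 1, 3, 2, 0, 1, 1]),
  ([2, 5, 3, 0, 4, 1], 1, [0, 2, 3, 3, 0, 1, 1]),
  ([0, 5, 3, 4, 2, 1], 1, [0, 1, 1, 3, 2, 1, 1]),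
  ([3, 4, 5, 2, 0, 1], 1, [0, 1, 1, 3, 0, 2, 1]),
  ([2, 5, 4, 3, 0, 1], 1, [0, 2, 3, 3, 0, 2, 1]),
  ([4, 2, 5, 3, 0, 1], 1, [3, 0, 1, 1, 3, 0, 2]),
  ([5, 3, 4, 1, 2, 0], 1, [1, 3, 0, 0, 2, 1, 0, 0]),
  ([5, 3, 4, 0, 1, 2], 1, [1, 1, 3, 0, 2, 1, 0, 0]),
  ([5, 2, 4, 0, 3, 1], 1, [0, 0, 1, 3, 2, 1, 0, 0]),
  ([5, 0, 4, 3, 2, 1], 1, [0, 1, 1, 3, 2, 1, 0, 0]),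
  ([5, 2, 3, 4, 0, 1], 1, [0, 2, 3, 3, 0, 2, 0, 0]),
  ([5, 4, 3, 2, 1, 0], 1, [1, 3, 0, 2, 0, 1, 1, 0]),
  ([5, 4, 3, 1, 0, 2], 1, [1, 1, 3, 2, 0, 1, 1, 0]),
  ([5, 3, 2, 0, 4, 1], 1, [0, 2, 3, 3, 0, 1, 1, 0]),
  ([5, 3, 0, 4, 2, 1], 1, [0, 1, 1, 3, 2, 1, 1, 0]),
  ([4, 5, 3, 2, 0, 1], 1, [0, 1, 1, 3, 0, 2, 1, 0]),
  ([5, 4, 2, 3, 0, 1], 1, [0, 2, 3, 3, 0, 2, 1, 0]),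
  ([4, 3, 5, 0, 2, 1], 1, [0, 1, 1, 3, 2, 0, 0, 1]),
  ([3, 5, 4, 0, 2, 1], 1, [0, 1, 1, 3, 2, 0, 1, 1]),
  ([5, 3, 4, 2, 0, 1], 1, [0, 1, 1, 3, 0, 2, 1, 0, 0]),
  ([5, 4, 3, 0, 2, 1], 1, [0, 1, 1, 3, 2, 0, 1, 1, 0])]

end CfsgLib.Chev.U43U6
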