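import Cfsg.Agent.Lib.Chev.U43InU6.MonoChecks
import Cfsg.Agent.Lib.Chev.U43InU6.PermData
import Cfsg.Agent.Lib.KnownA.U4ThreeSchur.Group
import Cfsg.Agent.Lib.KnownA.PermCert

/-!
Checks on the three sets of 112 frames.
-/

set_option autoImplicit false
set_option maxRecDepth 100000

namespace CfsgLib.Chev.U43U6

open CfsgLib.KnownA.PermCert (pimg)
open CfsgLib.KnownA.U4ThreeSchur (codeA codeB)

/-- The matrices of a subgroup. -/
def kMat (b : ℕ) : List (List ℕ) := if b = 0 then kMat0 else if b = 1 then kMat1 else kMat2

/-- The frames of a subgroup. -/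
def kFr (b : ℕ) : List (List ℕ) := if b = 0 then kFr0 else if b = 1 then kFr1 else kFr2

/-- The transposition of the first two coordinates. -/
def tauM : List ℕ := [4, 1, 16, 64, 256, 1024]

/-- The scalar matrix of a cube root of one. -/
def scalM : List ℕ := [2, 8, 32, 128, 512, 2048]

theorem scalM_ok : isSU scalM = true := by decide +kernel

theorem tauM_ok : isSU tauM = true := by decide +kernel

/-- The masks of the frames. -/
def kMasks (b : ℕ) : List ℕ := (kFr b).map mask

/-- The set is made of 112 different frames, one of them standard. -/
def setOK (b : ℕ) : Bool :=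
  Nat.beq (kFr b).length 112 && distinct (kMasks b) && (kMasks b).any (Nat.beq (mask baseFr)) &&
    (kFr b).all fun f => f.all fun i => Nat.blt i 672

theorem set_ok : ((List.range 3).all setOK) = true := by decide +kernel

/-- The two matrices act as the two codes. -/
def matOK (b : ℕ) : Bool :=
  let m := kMat b
  let F := kFr b
  isSU (m.getD 0 []) && isSU (m.getD 1 []) && (List.range 112).all fun i =>
    Nat.beq (mask ((F.getD i []).map (imgP (m.getD 0 [])))) (mask (F.getD (pimg codeA i) [])) &&
    Nat.beq (mask ((F.getD i []).map (imgP (m.getD 1 [])))) (mask (F.getD (pimg codeB i) []))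

theorem mat_ok : ((List.range 3).all matOK) = true := by decide +kernel

/-- The monomial generators keep the set. -/
def keepOK (b : ℕ) : Bool :=
  let M := kMasks b
  (kFr b).all fun f => (M.any (Nat.beq (mask (f.map (imgP tauM))))) &&
    (List.range 9).all fun g => M.any (Nat.beq (mask (f.map (monImg g))))

theorem keep_ok : ((List.range 3).all keepOK) = true := by decide +kernel

/-- The short orbit of length 81 inside the set. -/
def bigShort (b : ℕ) : ℕ := if (kMasks b).any (Nat.beq (mask (reps.getD 5 []))) then 5
  else if (kMasks b).any (Nat.beq (mask (reps.getD 6 []))) then 6 else 7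

theorem big_ok : ((List.range 3).all fun b => ((shortOrbs.getD (bigShort b) []).all fun f =>
    (kMasks b).any (Nat.beq (mask f)))) = true ∧ (List.range 3).map bigShort ∈ [5, 6, 7].permutations' := by
  decide +kernel

theorem sets_differ : ((List.range 3).all fun a => (List.range 3).all fun c =>
    Nat.beq a c || (kMasks a).any fun m => !(kMasks c).any (Nat.beq m)) = true := by decide +kernel

/-- The coordinates where a point is not zero. -/
def supp (i : ℕ) : ℕ :=
  mask ((List.range 6).filter fun k => !Nat.beq (crd (ptC i) k) 0)

/-- The support moved by a permutation. -/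
def suppMap (p : List ℕ) (i : ℕ) : ℕ :=
  mask (((List.range 6).filter fun k => !Nat.beq (crd (ptC i) k) 0).map fun k => p.getD k 0)

/-- Some frame shows that the permutation moves the set. -/
def moves (b : ℕ) (p : List ℕ) : Bool :=
  leq6 p [0, 1, 2, 3, 4, 5] || (kFr b).any fun f => f.any fun i => !f.any fun j => Nat.beq (suppMap p i) (supp j)
where
  /-- Equality of lists of length six. -/
  leq6 (p q : List ℕ) : Bool := (List.range 6).all fun k => Nat.beq (p.getD k 0) (q.getD k 0)

theorem moves_ok : ((List.range 3).all fun b => permWords.all fun e => moves b e.1) = true := by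
  decide +kernel

/-- A frame whose supports omit one coordinate each. -/
def fiveOK (b : ℕ) : Bool :=
  (kFr b).any fun f => (List.range 6).all fun k =>
    f.any fun i => Nat.beq (supp i) (63 - 2 ^ k) && f.all fun j => Nat.beq i j || !Nat.beq (supp j) (63 - 2 ^ k)

theorem five_ok : ((List.range 3).all fiveOK) = true := by decide +kernel

/-- The permutation list is complete and the words realise it. -/
def permOK (e : List ℕ × ℕ × List ℕ) : Bool :=
  Nat.beq e.1.length 6 && Nat.blt e.2.1 2 && (e.2.2.all fun g => Nat.blt g 9) &&
    hasPat (List.replicate e.2.1 tauM |>.foldl (fun m t => m.map (mulV t)) (wordMat e.2.2)) fun k => e.1.getD k 0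

theorem perms_inj : (permWords.all fun e => (List.range 6).all fun k => Nat.blt (e.1.getD k 0) 6 &&
    (List.range 6).all fun l => Nat.beq k l || !Nat.beq (e.1.getD k 0) (e.1.getD l 0)) = true := by
  decide +kernel

theorem perms_ok : (Nat.beq permWords.length 720 && permWords.all permOK &&
    distinct (permWords.map fun e => e.1.foldr (fun x a => x + 8 * a) 0)) = true := by decide +kernel

end CfsgLib.Chev.U43U6
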