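import Cfsg.Agent.Lib.Chev.U43InU6.Subgroups

/-!
Elements fixing all frames of a set are scalars; the three covers of `PSU₄(3)`.
-/

set_option autoImplicit false
set_option maxRecDepth 100000
set_option linter.unusedSectionVars false

namespace CfsgLib.Chev.U43U6

open Matrix
open CfsgLib.KnownA.U4ThreeSchur (GP card_GP)

variable {F : Type*} [Field F] [Fintype F] {ω : F} (hω : IsOmega ω) (hF : Fintype.card F = 4)

theorem beq_zero_false_iff (a : ℕ) : Nat.beq a 0 = false ↔ a ≠ 0 := by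
  cases a <;> simp [Nat.beq]

theorem testBit_supp (i r : ℕ) : (supp i).testBit r = true ↔ r < 6 ∧ crd (ptC i) r ≠ 0 := by
  simp [supp, testBit_mask, List.mem_filter, beq_zero_false_iff]

theorem testBit_suppMap (p : List ℕ) (i r : ℕ) :
    (suppMap p i).testBit r = true ↔ ∃ k < 6, crd (ptC i) k ≠ 0 ∧ p.getD k 0 = r := by
  simp [suppMap, testBit_mask, List.mem_filter, and_assoc, beq_zero_false_iff]

include hω in
theorem vec_eq_zero (i : Fin 672) (k : Fin 6) : vec ω i k = 0 ↔ crd (ptC i) k = 0 := by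
  constructor
  · intro h
    have := dec_eq_zero hω (h : dec ω (crd (ptC i) k) = 0)
    have := crd_lt (ptC i) k
    omega
  · intro h
    show dec ω (crd (ptC i) k) = 0
    rw [h, dec_zero]

theorem mono_mulVec {g : GS F} {σ : Fin 6 → Fin 6} (hinj : Function.Injective σ)
    (hσ : ∀ k, act hω hF g (uF k) = uF (σ k)) (v : Fin 6 → F) (k : Fin 6) :
    (mat g *ᵥ v) (σ k) = colScal g k * v k := by
  simp only [Matrix.mulVec, dotProduct]
  rw [Finset.sum_eq_single k]
  · rw [col_eq hω hF (hσ k), if_pos rfl]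
  · intro l _ hl
    rw [col_eq hω hF (hσ l), if_neg (fun e => hl (hinj e.symm)), zero_mul]
  · intro h; exact absurd (Finset.mem_univ k) h

theorem point_coord {g : GS F} {σ : Fin 6 → Fin 6} (hinj : Function.Injective σ)
    (hσ : ∀ k, act hω hF g (uF k) = uF (σ k)) (i : Fin 672) :
    ∃ a : F, a ≠ 0 ∧ ∀ k, colScal g k * vec ω i k = a * vec ω (act hω hF g i) (σ k) := by
  obtain ⟨a, ha, e⟩ := (exists_act hω hF g i).choose_spec
  refine ⟨a, ha, fun k => ?_⟩
  rw [← mono_mulVec hω hF hinj hσ, congrFun e (σ k)]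
  rfl

theorem supp_act {g : GS F} (hg : g ∈ Mono hω hF) {σ : Fin 6 → Fin 6} (hinj : Function.Injective σ)
    (hσ : ∀ k, act hω hF g (uF k) = uF (σ k)) {p : List ℕ} (hp : ∀ k : Fin 6, p.getD k 0 = σ k) (i : Fin 672) :
    supp (act hω hF g i) = suppMap p i := by
  obtain ⟨a, ha, hco⟩ := point_coord hω hF hinj hσ i
  have key : ∀ k : Fin 6, crd (ptC (act hω hF g i)) (σ k) = 0 ↔ crd (ptC i) k = 0 := fun k => by
    rw [← vec_eq_zero hω, ← vec_eq_zero hω]
    constructor
    · intro h
      have := hco k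
      rw [h, mul_zero] at this
      exact (mul_eq_zero.1 this).resolve_left (colScal_ne hω hF hg k)
    · intro h
      have := hco k
      rw [h, mul_zero] at this
      exact (mul_eq_zero.1 this.symm).resolve_left ha
  refine Nat.eq_of_testBit_eq fun r => Bool.eq_iff_iff.2 ?_
  rw [testBit_supp, testBit_suppMap]
  constructor
  · rintro ⟨hr, h⟩
    obtain ⟨k, hk⟩ := (Finite.injective_iff_surjective.1 hinj) ⟨r, hr⟩
    refine ⟨k, k.2, fun h' => h ?_, by rw [hp, hk]⟩
    have := (key k).2 h'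
    rwa [hk] at this
  · rintro ⟨k, hk, h, rfl⟩
    rw [hp ⟨k, hk⟩]
    exact ⟨(σ _).2, fun h' => h ((key ⟨k, hk⟩).1 h')⟩

theorem scal_of_fix (b : Fin 3) {g : Lb hω hF b} (hg : permB hω hF b g = 1) : IsScal (g : GS F) := by
  have hfix : ∀ i, mv hω hF g (frB b i) = frB b i := fun i => by
    rw [← idx_spec]
    exact congrArg (frB b) (show idx hω hF b g i = i from congrFun (congrArg DFunLike.coe hg) i)
  have hmono : (g : GS F) ∈ Mono hω hF := by
    show mv hω hF g E0 = E0
    rw [← frB_zero b]; exact hfix _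
  obtain ⟨σ, hinj, hσ⟩ := mono_sigma hω hF hmono
  obtain ⟨e, he, -, hek⟩ := perm_list σ hinj
  have hstay : ∀ f ∈ kFr b, ∀ i : Fin 672, (i : ℕ) ∈ f → (act hω hF g i : ℕ) ∈ f := by
    intro f hf i hi
    obtain ⟨n, hn, rfl⟩ := List.mem_iff_getElem.1 hf
    have h1 : i ∈ frB b ⟨n, kFr_length b ▸ hn⟩ := by
      rw [frB, mem_lst, List.getD_eq_getElem _ _ hn]; exact hi
    have h2 : act hω hF g i ∈ mv hω hF g (frB b ⟨n, kFr_length b ▸ hn⟩) := (mem_mv hω hF).2 ⟨i, h1, rfl⟩
    rw [hfix, frB, mem_lst, List.getD_eq_getElem _ _ hn] at h2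
    exact h2
  have hlt : ∀ f ∈ kFr b, ∀ x ∈ f, x < 672 := by
    intro f hf x hx
    obtain ⟨n, hn, rfl⟩ := List.mem_iff_getElem.1 hf
    have := kFr_lt b ⟨n, kFr_length b ▸ hn⟩ x
    rw [List.getD_eq_getElem _ _ hn] at this
    exact this hx
  have hid : ∀ k, σ k = k := by
    have hm := List.all_eq_true.1 (of_range moves_ok b.2) e he
    simp only [moves, moves.leq6, Bool.or_eq_true, List.any_eq_true, List.all_eq_true, List.mem_range] at hm
    rcases hm with hm | ⟨f, hf, i, hi, hm⟩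
    · intro k
      have h1 := Nat.eq_of_beq_eq_true (hm k k.2)
      rw [hek] at h1
      have h2 : ∀ k : Fin 6, [0, 1, 2, 3, 4, 5].getD (k : ℕ) 0 = (k : ℕ) := by decide
      exact Fin.ext (h1.trans (h2 k))
    · exfalso
      simp only [Bool.not_eq_true', List.any_eq_false] at hm
      refine hm _ (hstay f hf ⟨i, hlt f hf i hi⟩ hi) ?_
      rw [← supp_act hω hF hmono hinj hσ hek ⟨i, hlt f hf i hi⟩]
      exact Nat.beq_refl _
  have hσ' : ∀ k, act hω hF g (uF k) = uF k := fun k => (hσ k).trans (by rw [hid])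
  have h5 := of_range five_ok b.2
  simp only [fiveOK, List.any_eq_true, List.all_eq_true, List.mem_range, Bool.and_eq_true, Bool.or_eq_true,
    Bool.not_eq_true'] at h5
  obtain ⟨f, hf, h5⟩ := h5
  have hblock : ∀ k : Fin 6, ∃ c : F, ∀ l, l ≠ k → colScal (g : GS F) l = c := by
    intro k
    obtain ⟨i, hi, hsi, huni⟩ := h5 k k.2
    set i' : Fin 672 := ⟨i, hlt f hf i hi⟩
    obtain ⟨a, -, hco⟩ := point_coord hω hF (σ := id) Function.injective_id hσ' i'
    have hsupp : supp (act hω hF g i') = supp i := by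
      refine Nat.eq_of_testBit_eq fun r => Bool.eq_iff_iff.2 ?_
      have he' := supp_act hω hF hmono (σ := id) Function.injective_id hσ'
        (p := [0, 1, 2, 3, 4, 5]) (fun k => by revert k; decide) i'
      rw [he', testBit_suppMap, testBit_supp]
      have h2 : ∀ k < 6, [0, 1, 2, 3, 4, 5].getD k 0 = k := by decide
      constructor
      · rintro ⟨k, hk, h, rfl⟩; rw [h2 k hk]; exact ⟨hk, h⟩
      · rintro ⟨hr, h⟩; exact ⟨r, hr, h, h2 r hr⟩
    have hsame : act hω hF g i' = i' := by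
      rcases huni _ (hstay f hf i' hi) with h | h
      · exact Fin.ext (Nat.eq_of_beq_eq_true h).symm
      · rw [hsupp, Nat.eq_of_beq_eq_true hsi, Nat.beq_refl] at h
        exact Bool.noConfusion h
    refine ⟨a, fun l hl => ?_⟩
    have hne : vec ω i' l ≠ 0 := fun h => by
      rw [vec_eq_zero hω] at h
      have hb : (supp i).testBit l = true := by
        rw [Nat.eq_of_beq_eq_true hsi]
        exact (by decide : ∀ k l : Fin 6, l ≠ k → (63 - 2 ^ (k : ℕ)).testBit l = true) k l hl
      exact ((testBit_supp _ _).1 hb).2 h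
    have := hco l
    rw [id, hsame] at this
    exact mul_right_cancel₀ hne this
  have hconst : ∀ l, colScal (g : GS F) l = colScal (g : GS F) 0 := by
    intro l
    obtain ⟨k, hk1, hk2⟩ : ∃ k : Fin 6, k ≠ l ∧ k ≠ 0 := by revert l; decide
    obtain ⟨c, hc⟩ := hblock k
    rw [hc l (Ne.symm hk1), hc 0 (Ne.symm hk2)]
  refine ⟨colScal (g : GS F) 0, ?_⟩
  ext r l
  rw [col_eq hω hF (hσ' l) r, hconst]
  simp [Matrix.one_apply]

theorem IsScal.mem_Tgp {g : GS F} (hg : IsScal g) : g ∈ Tgp hω hF := by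
  intro k
  obtain ⟨a, ha⟩ := hg
  have ha0 : a ≠ 0 := by
    rintro rfl
    have := congrArg Matrix.det ha
    rw [zero_smul, Matrix.det_zero, show (mat g).det = 1 from g.1.2] at this
    exact one_ne_zero this
  rw [show act hω hF g (uF k) = uF k from act_eq hω hF ha0 (by rw [ha, Matrix.smul_mulVec, Matrix.one_mulVec])]
  rfl

/-- The scalars. -/
def Scal : Subgroup (GS F) where
  carrier := {g | IsScal g}
  one_mem' := ⟨1, by simp [mat]⟩
  mul_mem' {x y} hx hy := by
    obtain ⟨a, ha⟩ := hx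
    obtain ⟨c, hc⟩ := hy
    refine ⟨a * c, ?_⟩
    show mat x * mat y = _
    rw [ha, hc, smul_mul_smul_comm, mul_one]
  inv_mem' {x} hx := by
    obtain ⟨a, ha⟩ := hx
    refine ⟨a⁻¹, ?_⟩
    have h : mat x * mat x⁻¹ = 1 := by
      show ((x * x⁻¹ : GS F).1 : Matrix (Fin 6) (Fin 6) F) = 1
      rw [mul_inv_cancel]; rfl
    rw [ha, smul_mul_assoc, one_mul] at h
    have ha0 : a ≠ 0 := fun e => by rw [e, zero_smul] at h; exact zero_ne_one h
    rw [← h, smul_smul, inv_mul_cancel₀ ha0, one_smul]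

include hω hF in
theorem card_Scal : Nat.card (Scal (F := F)) = 3 := by
  have hne : ∀ g : Scal (F := F), mat (g : GS F) 0 0 ≠ 0 := fun g h => by
    obtain ⟨a, ha⟩ := g.2
    rw [ha] at h
    have hz : a = 0 := by simpa using h
    rw [hz] at ha
    have := congrArg Matrix.det ha
    rw [zero_smul, Matrix.det_zero, show (mat (g : GS F)).det = 1 from g.1.1.2] at this
    exact one_ne_zero this
  refine le_antisymm ?_ ?_
  · rw [← card_units_four hF]
    refine Nat.card_le_card_of_injective (fun g => Units.mk0 _ (hne g)) fun x y e => ?_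
    obtain ⟨a, ha⟩ := x.2
    obtain ⟨c, hc⟩ := y.2
    have e' : mat (x : GS F) 0 0 = mat (y : GS F) 0 0 := congrArg Units.val e
    rw [ha, hc] at e'
    have hac : a = c := by simpa using e'
    exact Subtype.ext (Subtype.ext (Subtype.ext (ha.trans (hac ▸ hc.symm))))
  · obtain ⟨z, hz⟩ := exists_el hω hF scalM_ok
    have hzs : IsScal z := by
      refine ⟨ω, ?_⟩
      rw [hz]
      have h : ∀ r k : Fin 6, crd (colM scalM k) r = if r = k then 2 else 0 := by decide +kernel
      ext r k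
      show dec ω (crd (colM scalM k) r) = _
      rw [h]
      by_cases hrk : r = k
      · subst hrk; simp [dec, Nat.testBit, Nat.shiftRight_eq_div_pow]
      · simp [hrk, dec_zero]
    have hz3 : (⟨z, hzs⟩ : Scal (F := F)) ^ 3 = 1 := by
      refine Subtype.ext ?_
      rw [SubmonoidClass.coe_pow, pow_succ, pow_two]
      exact Tgp_cube hω hF (hzs.mem_Tgp hω hF)
    have hz1 : (⟨z, hzs⟩ : Scal (F := F)) ≠ 1 := fun e => by
      have e' : mat z = 1 := congrArg (fun x : Scal (F := F) => mat (x : GS F)) e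
      rw [hz] at e'
      have := congrFun (congrFun e' 0) 0
      have h0 : dec ω (crd (colM scalM 0) 0) = 1 := by simpa [mdec] using this
      have := dec_inj hω (a := crd (colM scalM 0) 0) (b := 1) (crd_lt _ _) (by norm_num) (h0.trans dec_one.symm)
      exact absurd this (by decide +kernel)
    have := orderOf_eq_prime hz3 hz1
    exact this ▸ Nat.le_of_dvd Nat.card_pos (orderOf_dvd_natCard _)

/-- A cover of `PSU₄(3)`. -/
noncomputable def Kb (b : Fin 3) : Subgroup (GS F) := (GP.comap (permB hω hF b)).map (Lb hω hF b).subtype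

theorem Kb_le_Lb (b : Fin 3) : Kb hω hF b ≤ Lb hω hF b := by
  rintro _ ⟨g, -, rfl⟩
  exact g.2

theorem mem_Kb {b : Fin 3} {g : GS F} :
    g ∈ Kb hω hF b ↔ ∃ h : g ∈ Lb hω hF b, permB hω hF b ⟨g, h⟩ ∈ GP := by
  constructor
  · rintro ⟨x, hx, rfl⟩; exact ⟨x.2, hx⟩
  · rintro ⟨h, hx⟩; exact ⟨⟨g, h⟩, hx, rfl⟩

theorem Scal_le_Kb (b : Fin 3) : Scal ≤ Kb hω hF b := by
  intro g hg
  have hL : g ∈ Lb hω hF b := (gens_keep hω hF b).1 (Tgp_le_M0 hω hF (hg.mem_Tgp hω hF))
  refine (mem_Kb hω hF).2 ⟨hL, ?_⟩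
  have : permB hω hF b ⟨g, hL⟩ = 1 := by
    refine Equiv.ext fun i => frB_injective b ?_
    show frB b (idx hω hF b ⟨g, hL⟩ i) = frB b i
    rw [idx_spec]
    obtain ⟨a, ha⟩ := hg
    ext j
    rw [mem_mv]
    have hfix : ∀ x, act hω hF g x = x := fun x => by
      have ha0 : a ≠ 0 := by
        rintro rfl
        have := congrArg Matrix.det ha
        rw [zero_smul, Matrix.det_zero, show (mat g).det = 1 from g.1.2] at this
        exact one_ne_zero this
      exact act_eq hω hF ha0 (by rw [ha, Matrix.smul_mulVec, Matrix.one_mulVec])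
    simp [hfix]
  rw [this]; exact one_mem _

/-- The map onto the permutation group. -/
noncomputable def toGP (b : Fin 3) : Kb hω hF b →* GP :=
  ((permB hω hF b).comp (Subgroup.inclusion (Kb_le_Lb hω hF b))).codRestrict GP fun g =>
    ((mem_Kb hω hF).1 g.2).choose_spec

theorem toGP_surjective (b : Fin 3) : Function.Surjective (toGP hω hF b) := by
  rintro ⟨σ, hσ⟩
  obtain ⟨g, hg⟩ := GP_le_range hω hF b hσ
  exact ⟨⟨g, (mem_Kb hω hF).2 ⟨g.2, hg ▸ hσ⟩⟩, Subtype.ext hg⟩

theorem ker_toGP (b : Fin 3) : (toGP hω hF b).ker = Scal.subgroupOf (Kb hω hF b) := by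
  ext g
  rw [MonoidHom.mem_ker, Subgroup.mem_subgroupOf]
  constructor
  · intro h
    exact scal_of_fix hω hF b (g := ⟨g, Kb_le_Lb hω hF b g.2⟩) (congrArg Subtype.val h)
  · intro h
    have : permB hω hF b ⟨g, Kb_le_Lb hω hF b g.2⟩ = 1 := by
      refine Equiv.ext fun i => frB_injective b ?_
      show frB b (idx hω hF b _ i) = frB b i
      rw [idx_spec]
      obtain ⟨a, ha⟩ := h
      ext j
      rw [mem_mv]
      have hfix : ∀ x, act hω hF (g : GS F) x = x := fun x => by
        have ha0 : a ≠ 0 := by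
          rintro rfl
          have := congrArg Matrix.det ha
          rw [zero_smul, Matrix.det_zero, show (mat (g : GS F)).det = 1 from g.1.1.2] at this
          exact one_ne_zero this
        exact act_eq hω hF ha0 (by rw [ha, Matrix.smul_mulVec, Matrix.one_mulVec])
      simp [hfix]
    exact Subtype.ext this

theorem card_Kb (b : Fin 3) : Nat.card (Kb hω hF b) = 9797760 := by
  rw [← (toGP hω hF b).ker.card_mul_index, Subgroup.index,
    Nat.card_congr (QuotientGroup.quotientKerEquivOfSurjective _ (toGP_surjective hω hF b)).toEquiv,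
    card_GP, ker_toGP, Nat.card_congr (Subgroup.subgroupOfEquivOfLe (Scal_le_Kb hω hF b)).toEquiv,
    card_Scal hω hF]

theorem card_Lb_le (b : Fin 3) : Nat.card (Lb hω hF b) ≤ 2 * 9797760 := by
  choose r hr using fun i => permB_range_transitive hω hF b i
  let f : Lb hω hF b → Fin 112 × Mono hω hF := fun g =>
    (idx hω hF b g ⟨0, by norm_num⟩,
      ⟨((r (idx hω hF b g ⟨0, by norm_num⟩))⁻¹ * g : Lb hω hF b), by
        show mv hω hF _ E0 = E0
        rw [← frB_zero b, ← idx_spec, idx_mul]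
        congr 1
        have h := (hr (idx hω hF b g ⟨0, by norm_num⟩)).2
        generalize idx hω hF b g ⟨0, _⟩ = j at h ⊢
        conv_lhs => arg 5; rw [← h]
        rw [← idx_mul, inv_mul_cancel, idx_one]⟩)
  have hf : Function.Injective f := fun g h e => by
    simp only [f, Prod.mk.injEq] at e
    obtain ⟨e1, e2⟩ := e
    have e3 : (((r (idx hω hF b g ⟨0, by norm_num⟩))⁻¹ * g : Lb hω hF b) : GS F) =
        (((r (idx hω hF b h ⟨0, by norm_num⟩))⁻¹ * h : Lb hω hF b) : GS F) :=
      congrArg (fun z : Mono hω hF => (z : GS F)) e2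
    rw [e1] at e3
    exact Subtype.ext (mul_left_cancel (a := ((r (idx hω hF b h ⟨0, by norm_num⟩))⁻¹ : Lb hω hF b).1) (by simpa using e3))
  refine (Nat.card_le_card_of_injective f hf).trans ?_
  rw [Nat.card_prod, Nat.card_fin]
  have := card_Mono_le hω hF
  omega

theorem sq_mem_Kb (b : Fin 3) {x : GS F} (hx : x ∈ Lb hω hF b) : x * x ∈ Kb hω hF b := by
  have hmul : Nat.card (Kb hω hF b) * (Kb hω hF b).relIndex (Lb hω hF b) = Nat.card (Lb hω hF b) := by
    rw [← ((Kb hω hF b).subgroupOf (Lb hω hF b)).card_mul_index,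
      Nat.card_congr (Subgroup.subgroupOfEquivOfLe (Kb_le_Lb hω hF b)).toEquiv]
    rfl
  have hne : (Kb hω hF b).relIndex (Lb hω hF b) ≠ 0 := Subgroup.index_ne_zero_of_finite
  have hle : (Kb hω hF b).relIndex (Lb hω hF b) ≤ 2 := by
    have := card_Lb_le hω hF b
    rw [card_Kb] at hmul
    omega
  rcases (show (Kb hω hF b).relIndex (Lb hω hF b) = 1 ∨ (Kb hω hF b).relIndex (Lb hω hF b) = 2 by omega) with h | h
  · exact mul_mem (Subgroup.relIndex_eq_one.1 h hx) (Subgroup.relIndex_eq_one.1 h hx)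
  · exact Subgroup.mul_self_mem_of_index_two (H := (Kb hω hF b).subgroupOf (Lb hω hF b)) h ⟨x, hx⟩

theorem M0_le_Kb (b : Fin 3) : M0 hω hF ≤ Kb hω hF b := by
  refine (Subgroup.closure_le _).2 ?_
  rintro _ ⟨g, hg, rfl⟩
  set x := monEl hω hF g
  have hx : x ∈ Lb hω hF b := (gens_keep hω hF b).1 (monEl_mem hω hF hg)
  have h3 : x * x * x = 1 := monEl_cube hω hF hg
  have : x = (x * x) * (x * x) := by rw [← mul_assoc, h3, one_mul]
  show x ∈ Kb hω hF b
  rw [this]
  exact mul_mem (sq_mem_Kb hω hF b hx) (sq_mem_Kb hω hF b hx)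

end CfsgLib.Chev.U43U6
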