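import Cfsg.Agent.Lib.Chev.U43InU6.Kernel

/-!
The covers of `PSU₄(3)` inside `SU₆(2)` form three classes.
-/

set_option autoImplicit false
set_option maxRecDepth 10000
set_option linter.unusedSectionVars false

namespace CfsgLib.Chev.U43U6

open Matrix CfsgLib.Classical
open CfsgLib.KnownA.PermCert (pimg permOf valid genGroup genGroup_le mem_genGroup eqW eqW_iff prodW
  permOf_val card_ge_chain)
open CfsgLib.KnownA.U4ThreeSchur (GP gensH genH_le card_GP chainH_ok producedH mem_of_producedBy exists_equiv p0)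

/-- The block of three coordinates starting at `o`. -/
def blockRow (o : Fin 2) (r : Fin 3) : Fin 6 := ⟨3 * (o : ℕ) + r, by omega⟩

/-- The index of a kernel is bounded by the codomain. -/
theorem index_ker_le {G M : Type*} [Group G] [Monoid M] [Finite M] (B : G →* M) :
    B.ker.index ≤ Nat.card M := by
  refine Nat.card_le_card_of_injective (fun q : G ⧸ B.ker => B q.out) fun p q e => ?_
  rw [← QuotientGroup.out_eq' p, ← QuotientGroup.out_eq' q]
  refine QuotientGroup.eq.2 ?_
  have e' : B p.out = B q.out := e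
  rw [MonoidHom.mem_ker, map_mul, ← e', ← map_mul, inv_mul_cancel, map_one]

variable {F : Type*} [Field F] [Fintype F] {ω : F} (hω : IsOmega ω) (hF : Fintype.card F = 4)

/-- The abelian subgroup of order 81. -/
noncomputable def Ab : Subgroup (Equiv.Perm (Fin 112)) := genGroup 112 gensA

/-- The point stabiliser. -/
noncomputable def Nb : Subgroup (Equiv.Perm (Fin 112)) := genGroup 112 gensH

theorem gensH_valid {h : ℕ} (hh : h ∈ gensH) : valid 112 h = true :=
  (CfsgLib.KnownA.U4ThreeSchur.mem_needG (c := h) (by simp [CfsgLib.KnownA.U4ThreeSchur.needG, hh])).1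

theorem Ab_le_Nb : Ab ≤ Nb := genGroup_le fun c hc => (mem_of_producedBy A_in_stab c hc).2

theorem eltsA_mem {c : ℕ} (hc : c ∈ eltsA) : valid 112 c = true ∧ permOf 112 c ∈ Ab :=
  mem_of_producedBy A_produced c hc

theorem gensA_valid {a : ℕ} (ha : a ∈ gensA) : valid 112 a = true :=
  (mem_of_producedBy A_in_stab a ha).1

theorem card_Ab_ge : 81 ≤ Nat.card Ab := by
  rw [← A_chain.2]
  refine card_ge_chain Ab A_chain.1 (fun e he c hc => ?_) Ab (by simp)
  rw [List.mem_singleton] at he
  subst he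
  exact (eltsA_mem hc).2

theorem Ab_comm : ∀ x ∈ Ab, ∀ y ∈ Ab, x * y = y * x := by
  have hg : ∀ a ∈ gensA, ∀ b ∈ gensA, permOf 112 a * permOf 112 b = permOf 112 b * permOf 112 a := by
    intro a ha b hb
    have h := A_rel
    simp only [List.all_eq_true, Bool.and_eq_true] at h
    have he := (eqW_iff (by simp [gensA_valid ha, gensA_valid hb]) (by simp [gensA_valid ha, gensA_valid hb])).1
      ((h a ha).2 b hb)
    simpa [prodW] using he
  intro x hx y hy
  induction hx, hy using Subgroup.closure_induction₂ with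
  | mem x y hx hy =>
    obtain ⟨a, ha, rfl⟩ := hx
    obtain ⟨b, hb, rfl⟩ := hy
    exact hg a ha b hb
  | one_left y _ => simp
  | one_right x _ => simp
  | mul_left x y z _ _ _ h1 h2 => exact Commute.mul_left h1 h2
  | mul_right x y z _ _ _ h1 h2 => exact Commute.mul_right h1 h2
  | inv_left x y _ _ h => exact Commute.inv_left h
  | inv_right x y _ _ h => exact Commute.inv_right h

theorem Ab_cube : ∀ x ∈ Ab, x ^ 3 = 1 := by
  intro x hx
  have h := A_rel
  simp only [List.all_eq_true, Bool.and_eq_true] at h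
  induction hx using Subgroup.closure_induction with
  | mem x hx =>
    obtain ⟨a, ha, rfl⟩ := hx
    have he := (eqW_iff (by simp [gensA_valid ha]) (by simp)).1 (h a ha).1
    simpa [prodW, pow_succ, mul_assoc] using he
  | one => simp
  | mul x y hx' hy' hx hy => rw [(show Commute x y from Ab_comm x hx' y hy').mul_pow, hx, hy, one_mul]
  | inv x _ hx => rw [inv_pow, hx, inv_one]

theorem Ab_conj_gen {h : ℕ} (hh : h ∈ gensH) {a : ℕ} (ha : a ∈ gensA) :
    permOf 112 h * permOf 112 a * (permOf 112 h)⁻¹ ∈ Ab := by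
  have hA := A_conj
  simp only [List.all_eq_true, List.any_eq_true] at hA
  obtain ⟨c, hc, e⟩ := hA h hh a ha
  obtain ⟨hv, hm⟩ := eltsA_mem hc
  have he := (eqW_iff (L := [c, h]) (L' := [h, a]) (by simp [hv, gensH_valid hh])
    (by simp [gensA_valid ha, gensH_valid hh])).1 e
  simp only [prodW, List.map_cons, List.map_nil, List.prod_cons, List.prod_nil, mul_one] at he
  rw [← he, mul_inv_cancel_right]
  exact hm

theorem Ab_normal : ∀ n ∈ Nb, ∀ x ∈ Ab, n * x * n⁻¹ ∈ Ab := by
  have hg : ∀ h ∈ gensH, ∀ x ∈ Ab, permOf 112 h * x * (permOf 112 h)⁻¹ ∈ Ab := by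
    intro h hh x hx
    induction hx using Subgroup.closure_induction with
    | mem x hx =>
      obtain ⟨a, ha, rfl⟩ := hx
      exact Ab_conj_gen hh ha
    | one => simp
    | mul x y _ _ hx hy =>
      rw [show permOf 112 h * (x * y) * (permOf 112 h)⁻¹ =
        (permOf 112 h * x * (permOf 112 h)⁻¹) * (permOf 112 h * y * (permOf 112 h)⁻¹) by group]
      exact mul_mem hx hy
    | inv x _ hx =>
      rw [show permOf 112 h * x⁻¹ * (permOf 112 h)⁻¹ = (permOf 112 h * x * (permOf 112 h)⁻¹)⁻¹ by group]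
      exact inv_mem hx
  intro n hn
  induction hn using Subgroup.closure_induction with
  | mem n hn => obtain ⟨h, hh, rfl⟩ := hn; exact hg h hh
  | one => intro x hx; simpa using hx
  | mul a b _ _ ha hb =>
    intro x hx
    rw [show a * b * x * (a * b)⁻¹ = a * (b * x * b⁻¹) * a⁻¹ by group]
    exact ha _ (hb x hx)
  | inv a _ ha =>
    intro x hx
    have hfin : ∀ y ∈ Ab, ∃ z ∈ Ab, a * z * a⁻¹ = y := by
      intro y hy
      let f : Ab → Ab := fun z => ⟨a * z * a⁻¹, ha _ z.2⟩
      have hf : Function.Injective f := fun p q e => Subtype.ext (by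
        simpa using mul_left_cancel (mul_right_cancel (congrArg Subtype.val e)))
      obtain ⟨z, hz⟩ := (Finite.injective_iff_surjective.1 hf) ⟨y, hy⟩
      exact ⟨z, z.2, congrArg Subtype.val hz⟩
    obtain ⟨z, hz, e⟩ := hfin x hx
    rw [← e, show a⁻¹ * (a * z * a⁻¹) * a⁻¹⁻¹ = z by group]
    exact hz

theorem Nb_le_GP : Nb ≤ GP := genH_le

theorem card_Nb : Nat.card Nb = 29160 := by
  refine le_antisymm ?_ ?_
  · choose σ hσ hσi using fun i => GP_transitive p0 i
    let f : Fin 112 × Nb → GP := fun p => ⟨σ p.1 * p.2, mul_mem (hσ _) (Nb_le_GP p.2.2)⟩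
    have hfix : ∀ n ∈ Nb, n p0 = p0 := by
      intro n hn
      induction hn using Subgroup.closure_induction with
      | mem n hn =>
        obtain ⟨h, hh, rfl⟩ := hn
        exact Fin.ext ((permOf_val (gensH_valid hh) _).trans
          (Nat.eq_of_beq_eq_true (List.all_eq_true.1 gensH_fix h hh)))
      | one => rfl
      | mul a b _ _ ha hb => rw [Equiv.Perm.mul_apply, hb, ha]
      | inv a _ ha => exact Equiv.Perm.inv_eq_iff_eq.2 ha.symm
    have hf : Function.Injective f := by
      rintro ⟨i, n⟩ ⟨j, m⟩ e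
      have e' : σ i * n = σ j * m := congrArg Subtype.val e
      have hij : i = j := by
        have := congrArg (fun s => s p0) e'
        simp only [Equiv.Perm.mul_apply, hfix _ n.2, hfix _ m.2, hσi] at this
        exact this
      subst hij
      exact Prod.ext rfl (Subtype.ext (mul_left_cancel e'))
    have := Nat.card_le_card_of_injective f hf
    rw [Nat.card_prod, Nat.card_fin, card_GP] at this
    omega
  · rw [← chainH_ok.2]
    exact card_ge_chain Nb chainH_ok.1 (fun e he c hc =>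
      (mem_of_producedBy producedH c (List.mem_flatMap.2 ⟨e, he, hc⟩)).2) Nb (by
        intro σ
        simp only [List.mem_singleton, forall_eq]
        refine ⟨fun hσ => ⟨hσ, fun _ => ?_⟩, fun hσ => hσ.1⟩
        induction hσ using Subgroup.closure_induction with
        | mem n hn =>
          obtain ⟨h, hh, rfl⟩ := hn
          exact Fin.ext ((permOf_val (gensH_valid hh) _).trans
            (Nat.eq_of_beq_eq_true (List.all_eq_true.1 gensH_fix h hh)))
        | one => rfl
        | mul a b _ _ ha hb => rw [Equiv.Perm.mul_apply, hb, ha]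
        | inv a _ ha => exact Equiv.Perm.inv_eq_iff_eq.2 ha.symm)

include hω hF in
theorem card_GS : Nat.card (GS F) = 27590492160 := by
  have hF' : Fintype.card F = 2 ^ 2 := by rw [hF]; norm_num
  have h := card_psu_mul hF' (n := 6) (by norm_num)
  rw [card_gu hF'] at h
  norm_num [Finset.prod_range_succ, Nat.even_iff] at h
  rw [← (Subgroup.center (GS F)).card_mul_index, card_center_su hF' (by norm_num)]
  show Nat.gcd 6 (2 + 1) * Nat.card (Cfsg.PSU 6 F 2) = _
  norm_num
  omega

theorem isPGroup_Sgp : IsPGroup 3 (Sgp hω hF) := IsPGroup.of_card (n := 7) (by rw [card_Sgp]; rfl)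

/-- A subgroup of order `3 ^ 7` is conjugate to the Sylow subgroup. -/
theorem exists_conj_Sgp {P : Subgroup (GS F)} (hP : Nat.card P = 2187) :
    ∃ g : GS F, P.map (MulAut.conj g).toMonoidHom = Sgp hω hF := by
  have key : ∀ R : Subgroup (GS F), Nat.card R = 2187 → ∃ Q : Sylow 3 (GS F), (Q : Subgroup (GS F)) = R := by
    intro R hR
    obtain ⟨Q, hQ⟩ := (IsPGroup.of_card (p := 3) (n := 7) (by rw [hR]; rfl) : IsPGroup 3 R).exists_le_sylow
    refine ⟨Q, (Subgroup.eq_of_le_of_card_ge hQ ?_).symm⟩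
    obtain ⟨n, hn⟩ := (IsPGroup.iff_card).1 Q.isPGroup'
    have hd : 3 ^ n ∣ 27590492160 := card_GS hω hF ▸ hn ▸ Subgroup.card_subgroup_dvd_card (Q : Subgroup (GS F))
    have : n ≤ 7 := by
      by_contra hc
      have h8 : 3 ^ 8 ∣ 27590492160 := (pow_dvd_pow 3 (show 8 ≤ n by omega)).trans hd
      norm_num at h8
    rw [hn, hR]
    exact (Nat.pow_le_pow_right (by norm_num) this).trans (by norm_num)
  obtain ⟨P', hP'⟩ := key P hP
  obtain ⟨Q, hQ⟩ := key (Sgp hω hF) (card_Sgp hω hF)
  haveI : Fact (Nat.Prime 3) := ⟨Nat.prime_three⟩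
  obtain ⟨g, hg⟩ := MulAction.exists_smul_eq (GS F) P' Q
  exact ⟨g, by rw [← hP', ← hQ, ← hg, Sylow.coe_subgroup_smul]; rfl⟩

include hω hF in
theorem no_split [IsSimpleGroup GP] {H : Subgroup (GS F)} (hcard : Nat.card H = 9797760)
    (π : H →* GP) (hsurj : Function.Surjective π) (hker : π.ker = Subgroup.center H)
    (hzero : ∀ h : H, ∀ r l : Fin 6, ((r : ℕ) < 3 ↔ (l : ℕ) < 3) ∨ mat (h : GS F) r l = 0) : False := by
  classical
  have hmulblk : ∀ (o : Fin 2) (g h : H) (r l : Fin 3),
      mat ((g * h : H) : GS F) (blockRow o r) (blockRow o l) =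
        ∑ k : Fin 3, mat (g : GS F) (blockRow o r) (blockRow o k) * mat (h : GS F) (blockRow o k) (blockRow o l) := by
    intro o g h r l
    show (mat (g : GS F) * mat (h : GS F)) _ _ = _
    rw [Matrix.mul_apply]
    have hinj : Function.Injective (blockRow o) := fun a b e => Fin.ext (by simpa [blockRow] using e)
    rw [← Finset.sum_image (s := (Finset.univ : Finset (Fin 3))) (g := blockRow o) (f := fun x => mat (g : GS F) (blockRow o r) x * mat (h : GS F) x (blockRow o l))
      (fun a _ b _ e => hinj e)]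
    refine (Finset.sum_subset (Finset.subset_univ _) fun x _ hx => ?_).symm
    rcases hzero g (blockRow o r) x with e | e
    · exfalso
      refine hx (Finset.mem_image.2 ⟨⟨(x : ℕ) - 3 * o, ?_⟩, Finset.mem_univ _, Fin.ext ?_⟩) <;>
        (simp only [blockRow] at e ⊢; omega)
    · rw [e, zero_mul]
  let B : Fin 2 → H →* Matrix (Fin 3) (Fin 3) F := fun o =>
    { toFun := fun h => Matrix.of fun r l => mat (h : GS F) (blockRow o r) (blockRow o l)
      map_one' := by
        ext r l
        show (1 : Matrix (Fin 6) (Fin 6) F) (blockRow o r) (blockRow o l) = _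
        simp [Matrix.one_apply, blockRow, Fin.ext_iff]
      map_mul' := fun g h => by
        ext r l
        rw [Matrix.of_apply, hmulblk, Matrix.mul_apply]
        rfl }
  have hker3 : Nat.card π.ker = 3 := by
    have := π.ker.card_mul_index
    rw [Subgroup.index, Nat.card_congr (QuotientGroup.quotientKerEquivOfSurjective π hsurj).toEquiv,
      card_GP, hcard] at this
    omega
  have habel : ∀ o, ∀ g h : H, B o g * B o h = B o h * B o g := by
    intro o g h
    rcases ((MonoidHom.normal_ker (B o)).map π hsurj).eq_bot_or_eq_top with hb | ht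
    · exfalso
      have hle : (B o).ker ≤ π.ker := fun x hx => by
        rw [MonoidHom.mem_ker, ← Subgroup.mem_bot, ← hb]
        exact Subgroup.mem_map_of_mem π hx
      have h1 : Nat.card (B o).ker ≤ 3 :=
        (Nat.card_le_card_of_injective _ (Subgroup.inclusion_injective hle)).trans hker3.le
      have h2 : (B o).ker.index ≤ 262144 := by
        refine (index_ker_le (B o)).trans ?_
        rw [show Nat.card (Matrix (Fin 3) (Fin 3) F) = Nat.card (Fin 3 → Fin 3 → F) from rfl, Nat.card_fun,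
          Nat.card_fun, Nat.card_fin, Nat.card_eq_fintype_card, hF]
        norm_num
      have := (B o).ker.card_mul_index
      rw [hcard] at this
      have := Nat.mul_le_mul h1 h2
      omega
    · have key : ∀ x : H, ∃ z ∈ π.ker, B o x = B o z := fun x => by
        obtain ⟨k, hk, e⟩ : π x ∈ (B o).ker.map π := ht ▸ Subgroup.mem_top _
        refine ⟨k⁻¹ * x, by rw [MonoidHom.mem_ker, map_mul, map_inv, e, inv_mul_cancel], ?_⟩
        rw [map_mul, show B o k⁻¹ = 1 from inv_mem hk, one_mul]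
      obtain ⟨y, hy, eg⟩ := key g
      obtain ⟨z, hz, eh⟩ := key h
      rw [eg, eh, ← map_mul, ← map_mul, Subgroup.mem_center_iff.1 (hker ▸ hz) y]
  have hcomm : ∀ g h : H, g * h = h * g := by
    intro g h
    refine Subtype.ext (Subtype.ext (Subtype.ext (Matrix.ext fun r l => ?_)))
    show mat ((g * h : H) : GS F) r l = mat ((h * g : H) : GS F) r l
    by_cases hrl : ((r : ℕ) < 3 ↔ (l : ℕ) < 3)
    · obtain ⟨o, r', l', rfl, rfl⟩ : ∃ o r' l', blockRow o r' = r ∧ blockRow o l' = l := by
        revert hrl r l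
        decide
      have := congrFun (congrFun (habel o g h) r') l'
      rw [← map_mul, ← map_mul] at this
      exact this
    · rw [(hzero (g * h) r l).resolve_left hrl, (hzero (h * g) r l).resolve_left hrl]
  have htop : Subgroup.center H = ⊤ := eq_top_iff.2 fun x _ => Subgroup.mem_center_iff.2 fun y => hcomm y x
  rw [hker, htop, Subgroup.card_top, hcard] at hker3
  omega

/-- A monomial element commuting with the Sylow subgroup that splits the space would make the group small. -/
theorem center_scalar [IsSimpleGroup GP] {H : Subgroup (GS F)} (hcard : Nat.card H = 9797760) (hS : Sgp hω hF ≤ H)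
    (π : H →* GP) (hsurj : Function.Surjective π) (hker : π.ker = Subgroup.center H) :
    ∀ z ∈ Subgroup.center H, IsScal (z : GS F) := by
  intro z hz
  obtain ⟨hT, hc⟩ := centralizes_Sgp hω hF (z := (z : GS F)) fun s hs =>
    (congrArg Subtype.val (Subgroup.mem_center_iff.1 hz ⟨s, hS hs⟩)).symm
  have hd : ∀ r l : Fin 6, mat (z : GS F) r l = if r = l then colScal (z : GS F) l else 0 := fun r l =>
    col_eq hω hF (Fin.ext (hT l)) r
  have hblock : ∀ l : Fin 6, colScal (z : GS F) l = colScal (z : GS F) (if (l : ℕ) < 3 then 0 else 3) := by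
    have h1 : ∀ l : Fin 6, colScal (z : GS F) l = colScal (z : GS F) ⟨pat 3 l, pat_lt 3 (by norm_num) l l.2⟩ :=
      fun l => (hc l).1
    have h2 : ∀ l : Fin 6, colScal (z : GS F) l = colScal (z : GS F) ⟨pat 1 l, pat_lt 1 (by norm_num) l l.2⟩ :=
      fun l => (hc l).2
    have a0 := h1 0; have a1 := h1 1; have a3 := h2 3; have a4 := h2 4
    intro l
    fin_cases l <;> simp [pat] at a0 a1 a3 a4 ⊢
    · exact a0.symm
    · rw [← a1, ← a0]
    · exact a3.symm
    · rw [← a4, ← a3]
  set a := colScal (z : GS F) 0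
  set c := colScal (z : GS F) 3
  have hdiag : ∀ r l : Fin 6, mat (z : GS F) r l = if r = l then (if (l : ℕ) < 3 then a else c) else 0 := by
    intro r l
    rw [hd, hblock l]
    split_ifs <;> rfl
  by_cases hac : a = c
  · refine ⟨a, ?_⟩
    ext r l
    rw [hdiag, hac]
    simp [Matrix.one_apply]
  exfalso
  have hzero : ∀ h : H, ∀ r l : Fin 6, ((r : ℕ) < 3 ↔ (l : ℕ) < 3) ∨ mat (h : GS F) r l = 0 := by
    intro h r l
    by_cases hrl : ((r : ℕ) < 3 ↔ (l : ℕ) < 3)
    · exact Or.inl hrl
    right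
    have e : mat (h : GS F) * mat (z : GS F) = mat (z : GS F) * mat (h : GS F) :=
      congrArg (fun x : H => mat (x : GS F)) (Subgroup.mem_center_iff.1 hz h)
    have e' := congrFun (congrFun e r) l
    simp only [Matrix.mul_apply, hdiag, mul_ite, mul_zero, ite_mul, zero_mul, Finset.sum_ite_eq',
      Finset.sum_ite_eq, Finset.mem_univ, if_true] at e'
    by_contra hne
    by_cases hr : (r : ℕ) < 3
    · rw [if_pos hr, if_neg (fun h' => hrl ⟨fun _ => h', fun _ => hr⟩), mul_comm] at e'
      exact hac (mul_right_cancel₀ hne e').symm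
    · rw [if_neg hr, if_pos (by tauto), mul_comm] at e'
      exact hac (mul_right_cancel₀ hne e')
  exact no_split hω hF hcard π hsurj hker hzero

include hω hF in
theorem center_le_Scal [IsSimpleGroup GP] {H : Subgroup (GS F)} (hcard : Nat.card H = 9797760)
    (hS : Sgp hω hF ≤ H) (π : H →* GP) (hsurj : Function.Surjective π) (hker : π.ker = Subgroup.center H) :
    π.ker ≤ (Scal (F := F)).subgroupOf H := fun z hz =>
  center_scalar hω hF hcard hS π hsurj hker z (hker ▸ hz)

/-- The elements of a subgroup lying over a set of permutations. -/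
noncomputable def preim {H : Subgroup (GS F)} (π : H →* GP) (S : Subgroup (Equiv.Perm (Fin 112))) :
    Subgroup (GS F) := ((S.subgroupOf GP).comap π).map H.subtype

omit [Fintype F] in
theorem mem_preim {H : Subgroup (GS F)} {π : H →* GP} {S : Subgroup (Equiv.Perm (Fin 112))} {g : GS F} :
    g ∈ preim π S ↔ ∃ h : g ∈ H, ((π ⟨g, h⟩ : GP) : Equiv.Perm (Fin 112)) ∈ S :=
  ⟨fun ⟨x, hx, e⟩ => e ▸ ⟨x.2, hx⟩, fun ⟨h, hx⟩ => ⟨⟨g, h⟩, hx, rfl⟩⟩

omit [Fintype F] in
theorem preim_le {H : Subgroup (GS F)} (π : H →* GP) (S : Subgroup (Equiv.Perm (Fin 112))) : preim π S ≤ H :=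
  fun _ hg => (mem_preim.1 hg).1

theorem card_preim {H : Subgroup (GS F)} (hcard : Nat.card H = 9797760) (π : H →* GP)
    (hsurj : Function.Surjective π) {S : Subgroup (Equiv.Perm (Fin 112))} (hS : S ≤ GP) :
    Nat.card (preim π S) = 3 * Nat.card S := by
  have h1 := ((S.subgroupOf GP).comap π).card_mul_index
  rw [Subgroup.index_comap_of_surjective _ hsurj, hcard] at h1
  have h2 := (S.subgroupOf GP).card_mul_index
  rw [card_GP, Nat.card_congr (Subgroup.subgroupOfEquivOfLe hS).toEquiv] at h2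
  have h3 : Nat.card (preim π S) = Nat.card ((S.subgroupOf GP).comap π) :=
    Nat.card_congr (((S.subgroupOf GP).comap π).equivMapOfInjective _ H.subtype_injective).toEquiv.symm
  rw [h3]
  have hpos : 0 < (S.subgroupOf GP).index := Nat.pos_of_ne_zero Subgroup.index_ne_zero_of_finite
  refine Nat.eq_of_mul_eq_mul_right hpos ?_
  rw [h1, mul_assoc, h2]
  norm_num


/-- The frames in the orbit of the standard frame. -/
noncomputable def orbit (D : Subgroup (GS F)) : Finset (Finset (Fin 672)) := by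
  classical
  exact (Finset.univ : Finset D).image fun g => mv hω hF g E0

theorem mem_orbit {D : Subgroup (GS F)} {S : Finset (Fin 672)} :
    S ∈ orbit hω hF D ↔ ∃ g ∈ D, mv hω hF g E0 = S := by
  simp [orbit]

theorem card_orbit_mul (D : Subgroup (GS F)) :
    (orbit hω hF D).card * Nat.card (D ⊓ Mono hω hF : Subgroup (GS F)) = Nat.card D := by
  classical
  let hact : MulAction D (Finset (Fin 672)) :=
    { smul := fun g S => mv hω hF g S
      one_smul := fun S => mv_one hω hF S
      mul_smul := fun a b S => mv_mul hω hF a b S }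
  have hst : MulAction.stabilizer D E0 = (Mono hω hF).subgroupOf D := by ext g; rfl
  have horb : MulAction.orbit D E0 = ↑(orbit hω hF D) := by
    ext S
    rw [Finset.mem_coe, mem_orbit, MulAction.mem_orbit_iff]
    exact ⟨fun ⟨g, e⟩ => ⟨g, g.2, e⟩, fun ⟨g, hg, e⟩ => ⟨⟨g, hg⟩, e⟩⟩
  have h := MulAction.index_stabilizer D E0
  rw [horb, Set.ncard_coe_finset, hst] at h
  rw [← h, mul_comm, Nat.card_congr
    (Subgroup.subgroupOfEquivOfLe (inf_le_left : D ⊓ Mono hω hF ≤ D)).toEquiv.symm]
  rw [Subgroup.inf_subgroupOf_left]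
  exact Subgroup.card_mul_index _

theorem permB_idx_mv (b : Fin 3) (g : Lb hω hF b) {i : Fin 112}
    (e : idx hω hF b g ⟨0, by norm_num⟩ = i) : mv hω hF g E0 = frB b i := by
  rw [← e, idx_spec, frB_zero]

theorem mem_Lb_of_mv {b : Fin 3} {h : GS F} (hh : mv hω hF h E0 ∈ Bset b) : h ∈ Lb hω hF b := by
  obtain ⟨i, hi⟩ := mem_Bset.1 hh
  obtain ⟨g, -, hg⟩ := permB_range_transitive hω hF b i
  have hm : (g : GS F)⁻¹ * h ∈ Mono hω hF := by
    show mv hω hF _ E0 = E0
    rw [mv_mul, ← hi, ← permB_idx_mv hω hF b g hg, ← mv_mul, inv_mul_cancel, mv_one]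
  rw [show h = g * ((g : GS F)⁻¹ * h) from (mul_inv_cancel_left _ h).symm]
  exact mul_mem g.2 (Mono_le_Lb hω hF b hm)

theorem three_dvd_GP : ∃ x : GP, x * x ≠ 1 := by
  haveI : Fact (Nat.Prime 3) := ⟨Nat.prime_three⟩
  obtain ⟨x, hx⟩ := exists_prime_orderOf_dvd_card' (G := GP) 3 (by rw [card_GP]; norm_num)
  refine ⟨x, fun h => ?_⟩
  have := orderOf_dvd_of_pow_eq_one (show x ^ 2 = 1 by rw [sq, h])
  rw [hx] at this
  norm_num at this

include hω hF in
/-- A cover whose point stabiliser contains the Sylow subgroup is one of the three. -/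
theorem classify [IsSimpleGroup GP] {H : Subgroup (GS F)} (hcard : Nat.card H = 9797760)
    (π : H →* GP) (hsurj : Function.Surjective π) (hker : π.ker = Subgroup.center H)
    (hSgp : Sgp hω hF ≤ preim π Nb) : ∃ b, H = Kb hω hF b := by
  classical
  have hSH : Sgp hω hF ≤ H := hSgp.trans (preim_le π Nb)
  have hscal := center_le_Scal hω hF hcard hSH π hsurj hker
  have hker3 : Nat.card π.ker = 3 := by
    have := π.ker.card_mul_index
    rw [Subgroup.index, Nat.card_congr (QuotientGroup.quotientKerEquivOfSurjective π hsurj).toEquiv,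
      card_GP, hcard] at this
    omega
  set N := preim π Nb
  set X := preim π Ab
  have hN : Nat.card N = 87480 := by rw [card_preim hcard π hsurj Nb_le_GP, card_Nb]
  have hXN : X ≤ N := Subgroup.map_mono (Subgroup.comap_mono (fun x hx => Ab_le_Nb hx))
  have hX : 243 ≤ Nat.card X := by
    rw [card_preim hcard π hsurj (Ab_le_Nb.trans Nb_le_GP)]
    have := card_Ab_ge
    omega
  have hXp : IsPGroup 3 X := fun x => by
    obtain ⟨h, hx⟩ := mem_preim.1 x.2
    refine ⟨2, Subtype.ext ?_⟩
    have h1 : (⟨(x : GS F), h⟩ : H) ^ 3 ∈ π.ker := by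
      rw [MonoidHom.mem_ker, map_pow]
      exact Subtype.ext (Ab_cube _ hx)
    have h2 : (⟨_, h1⟩ : π.ker) ^ Nat.card π.ker = 1 := pow_card_eq_one'
    rw [hker3] at h2
    have h3 := congrArg (fun z : π.ker => ((z : H) : GS F)) h2
    simpa [← pow_mul] using h3
  have hnorm : ∀ n ∈ N, ∀ x ∈ X, n * x * n⁻¹ ∈ X := by
    intro n hn x hx
    obtain ⟨h1, h1'⟩ := mem_preim.1 hn
    obtain ⟨h2, h2'⟩ := mem_preim.1 hx
    refine mem_preim.2 ⟨mul_mem (mul_mem h1 h2) (inv_mem h1), ?_⟩
    have e : (⟨n * x * n⁻¹, mul_mem (mul_mem h1 h2) (inv_mem h1)⟩ : H) = ⟨n, h1⟩ * ⟨x, h2⟩ * ⟨n, h1⟩⁻¹ := rfl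
    rw [e, map_mul, map_mul, map_inv]
    exact Ab_normal _ h1' _ h2'
  have hsub : Sgp hω hF ≤ Subgroup.normalizer X := fun s hs => Subgroup.mem_normalizer_iff.2 fun x =>
    ⟨fun hx => hnorm s (hSgp hs) x hx, fun hx => by
      have := hnorm s⁻¹ (inv_mem (hSgp hs)) _ hx
      rwa [show s⁻¹ * (s * x * s⁻¹) * s⁻¹⁻¹ = x by group] at this⟩
  have hXS : X ≤ Sgp hω hF := by
    obtain ⟨n, hn⟩ := IsPGroup.iff_card.1 (hXp.to_sup_of_normal_left' (isPGroup_Sgp hω hF) hsub)
    have hd : 3 ^ n ∣ 87480 := hn ▸ hN ▸ Subgroup.card_dvd_of_le (sup_le hXN hSgp)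
    have hn7 : n ≤ 7 := by
      by_contra hc
      have h8 : 3 ^ 8 ∣ 87480 := (pow_dvd_pow 3 (show 8 ≤ n by omega)).trans hd
      norm_num at h8
    refine le_trans le_sup_left (Subgroup.eq_of_le_of_card_ge le_sup_right ?_).ge
    rw [hn, card_Sgp]
    exact (Nat.pow_le_pow_right (by norm_num) hn7).trans (by norm_num)
  have hXT : X ≤ Tgp hω hF := le_Tgp hω hF hXS
    (fun t ht x hx => hnorm t (hSgp (Tgp_le_Sgp hω hF ht)) x hx) fun x hx y hy => by
      obtain ⟨h1, h1'⟩ := mem_preim.1 hx
      obtain ⟨h2, h2'⟩ := mem_preim.1 hy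
      have : (⟨x, h1⟩ * ⟨y, h2⟩ * ⟨x, h1⟩⁻¹ * ⟨y, h2⟩⁻¹ : H) ∈ π.ker := by
        rw [MonoidHom.mem_ker, map_mul, map_mul, map_mul, map_inv, map_inv]
        refine Subtype.ext ?_
        simp only [Subgroup.coe_mul, Subgroup.coe_inv, Subgroup.coe_one]
        rw [Ab_comm _ h1' _ h2', mul_inv_cancel_right, mul_inv_cancel]
      exact hscal this
  have hXeq : X = Tgp hω hF := Subgroup.eq_of_le_of_card_ge hXT ((card_Tgp_le hω hF).trans hX)
  have hNM : N ≤ Mono hω hF := fun n hn => by
    have := mem_Mono_of_normalizes hω hF (n := n) fun t ht => hXeq ▸ hnorm n hn t (hXeq ▸ ht)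
    simpa using inv_mem this
  have hM0 : M0 hω hF ≤ H := (M0_le_of_large hω hF hNM hN.ge).trans (preim_le π Nb)
  have hc : 87480 ∣ Nat.card (H ⊓ Mono hω hF : Subgroup (GS F)) :=
    hN ▸ Subgroup.card_dvd_of_le (le_inf (preim_le π Nb) hNM)
  have hc' : Nat.card (H ⊓ Mono hω hF : Subgroup (GS F)) ≤ 174960 :=
    (Nat.card_le_card_of_injective _ (Subgroup.inclusion_injective inf_le_right)).trans (card_Mono_le hω hF)
  have hO := card_orbit_mul hω hF H
  have hcpos : 0 < Nat.card (H ⊓ Mono hω hF : Subgroup (GS F)) := Nat.card_pos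
  set O := orbit hω hF H
  have hO2 : O.card = 112 ∨ O.card = 56 := by
    obtain ⟨k, hk⟩ := hc
    rw [hk] at hO hc' hcpos
    rw [hcard] at hO
    rcases (show k = 1 ∨ k = 2 by omega) with rfl | rfl <;> omega
  obtain ⟨h112, -, h567⟩ := stable_set hω hF O (fun S hS => by
      obtain ⟨g, -, rfl⟩ := (mem_orbit hω hF).1 hS
      exact isFr_E0.mv hω hF g) hO2 (fun h hh S hS => by
      obtain ⟨g, hg, rfl⟩ := (mem_orbit hω hF).1 hS
      exact (mem_orbit hω hF).2 ⟨h * g, mul_mem (hM0 hh) hg, mv_mul hω hF h g E0⟩)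
  obtain ⟨j, hj, hjO⟩ : ∃ j : Fin 8, (j = 5 ∨ j = 6 ∨ j = 7) ∧ short j ⊆ O := by
    rcases h567 with h | h | h
    exacts [⟨5, by simp, h⟩, ⟨6, by simp, h⟩, ⟨7, by simp, h⟩]
  obtain ⟨b, hjb⟩ := exists_big j hj
  refine ⟨b, ?_⟩
  set D := H ⊓ Lb hω hF b
  have hHM : D ⊓ Mono hω hF = H ⊓ Mono hω hF := le_antisymm (inf_le_inf_right _ inf_le_left)
    (le_inf (le_inf inf_le_left (inf_le_right.trans (Mono_le_Lb hω hF b))) inf_le_right)
  have hD := card_orbit_mul hω hF D
  rw [hHM] at hD
  have hDH : Nat.card D ∣ Nat.card H := Subgroup.card_dvd_of_le inf_le_left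
  rw [← hD, ← hO, h112, Nat.mul_dvd_mul_iff_right hcpos] at hDH
  have h82 : 82 ≤ (orbit hω hF D).card := by
    have hE : E0 ∉ short j := fun h => by
      refine Finset.disjoint_left.1 (short_disjoint (i := 0) (j := j) ?_) ?_ h
      · rcases hj with rfl | rfl | rfl <;> decide
      · rw [short_zero]; exact Finset.mem_singleton_self _
    have hsub' : insert E0 (short j) ⊆ orbit hω hF D := fun S hS => by
      rcases Finset.mem_insert.1 hS with rfl | hS
      · exact (mem_orbit hω hF).2 ⟨1, one_mem _, mv_one hω hF _⟩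
      · obtain ⟨g, hg, rfl⟩ := (mem_orbit hω hF).1 (hjO hS)
        exact (mem_orbit hω hF).2 ⟨g, ⟨hg, mem_Lb_of_mv hω hF (hjb hS)⟩, rfl⟩
    refine le_trans ?_ (Finset.card_le_card hsub')
    rw [Finset.card_insert_of_notMem hE, short_card]
    rcases hj with rfl | rfl | rfl <;> decide
  have hDcard : (orbit hω hF D).card = 112 := by
    obtain ⟨k, hk⟩ := hDH
    rcases (show k = 1 ∨ 2 ≤ k by
      rcases k with _ | _ | k <;> omega) with rfl | hk2
    · omega
    · have := Nat.mul_le_mul h82 hk2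
      omega
  have hDeq : D = H := Subgroup.eq_of_le_of_card_ge inf_le_left (by rw [← hD, ← hO, h112, hDcard])
  have hHL : H ≤ Lb hω hF b := fun x hx => ((hDeq.symm ▸ hx : x ∈ D) : x ∈ H ⊓ Lb hω hF b).2
  set R := ((Kb hω hF b).subgroupOf H).map π
  have hsq : ∀ x : GP, x * x ∈ R := fun x => by
    obtain ⟨h, rfl⟩ := hsurj x
    rw [← map_mul]
    exact Subgroup.mem_map_of_mem π (sq_mem_Kb hω hF b (hHL h.2))
  have hRn : R.Normal := ⟨fun r hr g => by
    rw [show g * r * g⁻¹ = g * r * (g * r) * r⁻¹ * (g⁻¹ * g⁻¹) by group]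
    exact mul_mem (mul_mem (hsq _) (inv_mem hr)) (hsq _)⟩
  have htop : R = ⊤ := by
    refine hRn.eq_bot_or_eq_top.resolve_left fun hbot => ?_
    obtain ⟨x, hx⟩ := three_dvd_GP
    exact hx (Subgroup.mem_bot.1 (hbot ▸ hsq x))
  have hle : H ≤ Kb hω hF b := fun x hx => by
    obtain ⟨q, hq, e⟩ : π ⟨x, hx⟩ ∈ R := htop ▸ Subgroup.mem_top _
    have hz : q⁻¹ * ⟨x, hx⟩ ∈ π.ker := by rw [MonoidHom.mem_ker, map_mul, map_inv, e, inv_mul_cancel]
    have := mul_mem (Subgroup.mem_subgroupOf.1 hq) (Scal_le_Kb hω hF b (hscal hz))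
    simpa using this
  exact Subgroup.eq_of_le_of_card_ge hle (by rw [card_Kb, hcard])

include hω hF in
/-- A subgroup with centre of order three and central quotient `PSU₄(3)` is conjugate to one of the three. -/
theorem exists_conj_Kb [IsSimpleGroup GP] {H : Subgroup (GS F)} (hc : Nat.card (Subgroup.center H) = 3)
    (e : H ⧸ Subgroup.center H ≃* GP) : ∃ g : GS F, ∃ b, H.map (MulAut.conj g).toMonoidHom = Kb hω hF b := by
  set π := e.toMonoidHom.comp (QuotientGroup.mk' (Subgroup.center H))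
  have hsurj : Function.Surjective π := e.surjective.comp (QuotientGroup.mk'_surjective _)
  have hker : π.ker = Subgroup.center H := by
    ext x
    simp [π, MonoidHom.mem_ker]
  have hcard : Nat.card H = 9797760 := by
    rw [← (Subgroup.center H).card_mul_index, Subgroup.index, Nat.card_congr e.toEquiv, card_GP, hc]
  have hN : Nat.card (preim π Nb) = 87480 := by rw [card_preim hcard π hsurj Nb_le_GP, card_Nb]
  haveI : Fact (Nat.Prime 3) := ⟨Nat.prime_three⟩
  obtain ⟨P, hP⟩ := Sylow.exists_subgroup_card_pow_prime (G := preim π Nb) 3 (n := 7) (by rw [hN]; norm_num)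
  obtain ⟨g, hg⟩ := exists_conj_Sgp hω hF (P := P.map (preim π Nb).subtype) (by
    rw [Nat.card_congr (P.equivMapOfInjective _ (Subgroup.subtype_injective _)).toEquiv.symm, hP]; rfl)
  set H' := H.map (MulAut.conj g).toMonoidHom
  let φ : H ≃* H' := H.equivMapOfInjective _ (MulAut.conj g).injective
  have hsymm : ∀ x : H', π.comp φ.symm.toMonoidHom x = π (φ.symm x) := fun _ => rfl
  have hker' : (π.comp φ.symm.toMonoidHom).ker = Subgroup.center H' := by
    ext x
    rw [MonoidHom.mem_ker, hsymm, ← MonoidHom.mem_ker, hker, Subgroup.mem_center_iff, Subgroup.mem_center_iff]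
    constructor
    · intro h y; exact φ.symm.injective (by simpa using h (φ.symm y))
    · intro h y; simpa using congrArg φ.symm (h (φ y))
  obtain ⟨b, hb⟩ := classify hω hF (H := H')
    (by rw [← Nat.card_congr φ.toEquiv, hcard]) (π.comp φ.symm.toMonoidHom)
    (hsurj.comp φ.symm.surjective) hker' (by
      rw [← hg]
      rintro _ ⟨_, ⟨x, -, rfl⟩, rfl⟩
      obtain ⟨hxH, hx⟩ := mem_preim.1 x.2
      refine mem_preim.2 ⟨Subgroup.mem_map_of_mem _ hxH, ?_⟩
      have : φ.symm ⟨_, Subgroup.mem_map_of_mem (MulAut.conj g).toMonoidHom hxH⟩ = ⟨x, hxH⟩ :=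
        φ.injective (by rw [MulEquiv.apply_symm_apply]; rfl)
      rw [hsymm]
      exact this ▸ hx)
  exact ⟨g, b, hb⟩

theorem center_GP [IsSimpleGroup GP] : Subgroup.center GP = ⊥ := by
  refine (inferInstance : (Subgroup.center GP).Normal).eq_bot_or_eq_top.resolve_right fun h => ?_
  letI : CommGroup GP := { (inferInstance : Group GP) with
    mul_comm := fun a b => Subgroup.mem_center_iff.1 (h ▸ Subgroup.mem_top b : b ∈ Subgroup.center GP) a }
  have := IsSimpleGroup.prime_card (α := GP)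
  rw [card_GP] at this
  norm_num at this

theorem center_Kb [IsSimpleGroup GP] (b : Fin 3) : Subgroup.center (Kb hω hF b) = (toGP hω hF b).ker := by
  refine le_antisymm (fun z hz => ?_) fun z hz => ?_
  · rw [MonoidHom.mem_ker, ← Subgroup.mem_bot, ← center_GP, Subgroup.mem_center_iff]
    intro y
    obtain ⟨x, rfl⟩ := toGP_surjective hω hF b y
    rw [← map_mul, ← map_mul, Subgroup.mem_center_iff.1 hz x]
  · rw [ker_toGP] at hz
    exact Subgroup.mem_center_iff.2 fun y => Subtype.ext (IsScal.comm hz (y : GS F)).symm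

theorem Kb_spec [IsSimpleGroup GP] (b : Fin 3) :
    Nat.card (Subgroup.center (Kb hω hF b)) = 3 ∧ Nonempty (Kb hω hF b ⧸ Subgroup.center (Kb hω hF b) ≃* GP) := by
  refine ⟨?_, ⟨(QuotientGroup.quotientMulEquivOfEq (center_Kb hω hF b)).trans
    (QuotientGroup.quotientKerEquivOfSurjective _ (toGP_surjective hω hF b))⟩⟩
  rw [center_Kb, ker_toGP, Nat.card_congr (Subgroup.subgroupOfEquivOfLe (Scal_le_Kb hω hF b)).toEquiv,
    card_Scal hω hF]

theorem exists_mem_Kb {b : Fin 3} {S : Finset (Fin 672)} (hS : S ∈ Bset b) :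
    ∃ k ∈ Kb hω hF b, mv hω hF k E0 = S := by
  obtain ⟨i, rfl⟩ := mem_Bset.1 hS
  obtain ⟨g, hg, hi⟩ := permB_range_transitive hω hF b i
  exact ⟨g, (mem_Kb hω hF).2 ⟨g.2, hg⟩, permB_idx_mv hω hF b g hi⟩

include hω hF in
/-- The three subgroups are not conjugate. -/
theorem eq_of_conj {a c : Fin 3} {g : GS F}
    (h : (Kb hω hF a).map (MulAut.conj g).toMonoidHom = Kb hω hF c) : a = c := by
  classical
  have hinj : Function.Injective (mv hω hF g) := fun p q e => by
    simpa [← mv_mul, mv_one] using congrArg (mv hω hF g⁻¹) e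
  set O := (Bset a).image (mv hω hF g)
  have hcard : O.card = 112 := by rw [Finset.card_image_of_injective _ hinj, card_Bset]
  have hinv : ∀ k ∈ Kb hω hF c, ∀ S ∈ O, mv hω hF k S ∈ O := by
    intro k hk S hS
    rw [← h] at hk
    obtain ⟨k', hk', rfl⟩ := hk
    obtain ⟨T, hT, rfl⟩ := Finset.mem_image.1 hS
    refine Finset.mem_image.2 ⟨mv hω hF k' T, Kb_le_Lb hω hF a hk' T hT, ?_⟩
    rw [← mv_mul, ← mv_mul]
    refine congrArg (fun x => mv hω hF x T) ?_
    simp only [MulEquiv.coe_toMonoidHom, MulAut.conj_apply]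
    rw [inv_mul_cancel_right]
  obtain ⟨-, hE, -⟩ := stable_set hω hF O (fun S hS => by
      obtain ⟨T, hT, rfl⟩ := Finset.mem_image.1 hS
      obtain ⟨k, -, rfl⟩ := exists_mem_Kb hω hF hT
      exact (isFr_E0.mv hω hF k).mv hω hF g) (Or.inl hcard) fun k hk => hinv k (M0_le_Kb hω hF c hk)
  obtain ⟨S, hS, e⟩ := Finset.mem_image.1 hE
  obtain ⟨k, hk, rfl⟩ := exists_mem_Kb hω hF hS
  have hgk : g * k ∈ Mono hω hF := by rw [← mv_mul] at e; exact e
  have hg : g ∈ Lb hω hF a := by
    have := mul_mem (Mono_le_Lb hω hF a hgk) (inv_mem (Kb_le_Lb hω hF a hk))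
    rwa [mul_inv_cancel_right] at this
  have hsub : Bset c ⊆ Bset a := fun T hT => by
    obtain ⟨k', hk', rfl⟩ := exists_mem_Kb hω hF hT
    obtain ⟨T', hT', e'⟩ := Finset.mem_image.1 (hinv k' hk' E0 hE)
    exact e' ▸ hg T' hT'
  exact Bset_ne (Finset.eq_of_subset_of_card_le hsub (by rw [card_Bset, card_Bset])).symm

end CfsgLib.Chev.U43U6
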