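import Cfsg.Agent.Lib.Chev.U43InU6.Checks

/-!
Checks on words in the generators of the monomial subgroup.
-/

set_option autoImplicit false
set_option maxRecDepth 100000

namespace CfsgLib.Chev.U43U6

/-- The matrix code of the product of a word of generators, the first letter leftmost. -/
def wordMat : List ℕ → List ℕ
  | [] => (List.range 6).map fun k => 4 ^ k
  | g :: w => (wordMat w).map (mulV (monGens.getD g []))

/-- The index of the unit point. -/
def uPt (k : ℕ) : ℕ := posC (4 ^ k) - 1

/-- The nine patterns of the Sylow subgroup. -/
def pat (i k : ℕ) : ℕ :=
  if k < 3 then (k + i / 3) % 3 else 3 + (k - 3 + i % 3) % 3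

/-- The word of a pattern. -/
def patWord (i : ℕ) : List ℕ := List.replicate (i / 3) 0 ++ List.replicate (i % 3) 3

/-- The words of the diagonal part. -/
def diagWord (t : ℕ) : List ℕ :=
  List.replicate (t % 3) 4 ++ List.replicate (t / 3 % 3) 5 ++ List.replicate (t / 9 % 3) 6 ++
    List.replicate (t / 27 % 3) 7 ++ List.replicate (t / 81 % 3) 8

/-- A matrix code realises a pattern on the unit vectors. -/
def hasPat (m : List ℕ) (f : ℕ → ℕ) : Bool :=
  (List.range 6).all fun k => Nat.beq (posC (colM m k) - 1) (uPt (f k)) && Nat.ble 1 (posC (colM m k))

theorem gens_cube : ((List.range 9).all fun g =>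
    (List.range 6).all fun k => Nat.beq (colM (wordMat [g, g, g]) k) (4 ^ k)) = true := by decide +kernel

theorem gens_pat : (((List.range 5).all fun g => hasPat (wordMat [g + 4]) id) &&
    (List.range 9).all fun i => hasPat (wordMat (patWord i)) (pat i)) = true := by decide +kernel

theorem pat_closed : ((List.range 9).all fun i => (List.range 9).all fun j =>
    (List.range 9).any fun l => (List.range 6).all fun k => Nat.beq (pat i (pat j k)) (pat l k)) = true := by
  decide +kernel

theorem pat_distinct : ((List.range 9).all fun i => (List.range 9).all fun j =>
    Nat.beq i j || (List.range 6).any fun k => !Nat.beq (pat i k) (pat j k)) = true := by decide +kernel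

theorem diag_pat : ((List.range 243).all fun t => hasPat (wordMat (diagWord t)) id) = true := by decide +kernel

theorem diag_distinct : distinct ((List.range 243).map fun t =>
    (wordMat (diagWord t)).foldr (fun c acc => c + 4096 * acc) 0) = true := by decide +kernel

/-- The inner commutator of a diagonal generator and a pattern, as a word. -/
def innerWord (g i : ℕ) : List ℕ := [g] ++ patWord i ++ [g, g] ++ patWord i ++ patWord i

/-- The commutator of the inner commutator with the pattern, as a word. -/
def outerWord (g i : ℕ) : List ℕ :=
  innerWord g i ++ patWord i ++ innerWord g i ++ innerWord g i ++ patWord i ++ patWord i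

/-- The code is not a scalar matrix. -/
def notScalar (m : List ℕ) : Bool :=
  !([1, 2, 3].any fun a => (List.range 6).all fun k => Nat.beq (colM m k) (a * 4 ^ k))

theorem comm_check : ((List.range 9).all fun i => Nat.beq i 0 ||
    (List.range 5).any fun g => notScalar (wordMat (outerWord (g + 4) i))) = true := by
  decide +kernel

/-- A diagonal generator has the two entries at its place, ones elsewhere. -/
def diagShapeOK (g : ℕ) : Bool :=
  (List.range 6).all fun k =>
    Nat.beq (colM (monGens.getD (g + 4) []) k) ((if k = g then 2 else if k = g + 1 then 3 else 1) * 4 ^ k)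

theorem diag_shape : ((List.range 5).all diagShapeOK) = true := by decide +kernel

/-- The cycles on the two blocks of three coordinates. -/
def cycleShapeOK : Bool :=
  (List.range 6).all fun k =>
    Nat.beq (colM (monGens.getD 0 []) k) (4 ^ pat 3 k) && Nat.beq (colM (monGens.getD 3 []) k) (4 ^ pat 1 k)

theorem cycle_shape : cycleShapeOK = true := by decide +kernel

end CfsgLib.Chev.U43U6
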