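import Cfsg.Agent.Lib.Chev.U43InU6.Frames
import Cfsg.Agent.Lib.Chev.U43InU6.MonoChecks

/-!
The stabiliser of the standard frame, its Sylow 3-subgroup and its diagonal part.
-/

set_option autoImplicit false
set_option maxRecDepth 100000
set_option linter.unusedSectionVars false

namespace CfsgLib.Chev.U43U6

open Matrix

variable {F : Type*} [Field F] [Fintype F] {ω : F} (hω : IsOmega ω) (hF : Fintype.card F = 4)

theorem uPt_ok : ((List.range 6).all fun k => Nat.blt (uPt k) 672 && Nat.beq (ptC (uPt k)) (4 ^ k) &&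
    baseFr.any (Nat.beq (uPt k))) = true ∧
    (baseFr.all fun i => (List.range 6).any fun k => Nat.beq i (uPt k)) = true := by
  decide +kernel

/-- The point of a unit vector. -/
def uF (k : Fin 6) : Fin 672 := ⟨uPt k, by
  have h := of_range uPt_ok.1 k.2
  simp only [Bool.and_eq_true] at h
  simpa [Nat.blt] using h.1.1⟩

theorem vdec_unit (k : Fin 6) : vdec ω (4 ^ (k : ℕ)) = Pi.single k (1 : F) := by
  funext i
  have e : crd (4 ^ (k : ℕ)) i = if i = k then 1 else 0 := by revert i k; decide +kernel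
  show dec ω (crd (4 ^ (k : ℕ)) i) = _
  rw [e, Pi.single_apply]
  split <;> simp [dec_one, dec_zero]

theorem vec_uF (k : Fin 6) : vec ω (uF k) = Pi.single k (1 : F) := by
  have h := of_range uPt_ok.1 k.2
  simp only [Bool.and_eq_true] at h
  show vdec ω (ptC (uPt k)) = _
  rw [Nat.eq_of_beq_eq_true h.1.2, vdec_unit]

theorem uF_injective : Function.Injective uF := by decide +kernel

theorem mem_E0 {i : Fin 672} : i ∈ E0 ↔ ∃ k, uF k = i := by
  rw [E0, mem_lst]
  constructor
  · intro hi
    have h := List.all_eq_true.1 uPt_ok.2 _ hi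
    obtain ⟨k, hk, e⟩ := List.any_eq_true.1 h
    exact ⟨⟨k, List.mem_range.1 hk⟩, Fin.ext (Nat.eq_of_beq_eq_true e).symm⟩
  · rintro ⟨k, rfl⟩
    have h := of_range uPt_ok.1 k.2
    simp only [Bool.and_eq_true, List.any_eq_true] at h
    obtain ⟨b, hb, e⟩ := h.2
    show uPt k ∈ baseFr
    rw [Nat.eq_of_beq_eq_true e]
    exact hb

/-- The stabiliser of the standard frame. -/
noncomputable def Mono : Subgroup (GS F) where
  carrier := {g | mv hω hF g E0 = E0}
  one_mem' := mv_one hω hF _
  mul_mem' {a b} ha hb := by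
    show mv hω hF (a * b) E0 = E0
    rw [mv_mul, hb, ha]
  inv_mem' {a} ha := by
    show mv hω hF a⁻¹ E0 = E0
    conv_lhs => rw [← (ha : mv hω hF a E0 = E0), ← mv_mul, inv_mul_cancel, mv_one]

theorem mem_Mono {g : GS F} : g ∈ Mono hω hF ↔ ∀ k, ∃ l, act hω hF g (uF k) = uF l := by
  constructor
  · intro hg k
    have : act hω hF g (uF k) ∈ mv hω hF g E0 := (mem_mv hω hF).2 ⟨_, mem_E0.2 ⟨k, rfl⟩, rfl⟩
    rw [(hg : mv hω hF g E0 = E0)] at this
    obtain ⟨l, e⟩ := mem_E0.1 this
    exact ⟨l, e.symm⟩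
  · intro h
    refine Finset.eq_of_subset_of_card_le (fun i hi => ?_) (le_of_eq (Finset.card_map _).symm)
    obtain ⟨j, hj, rfl⟩ := (mem_mv hω hF).1 hi
    obtain ⟨k, rfl⟩ := mem_E0.1 hj
    obtain ⟨l, e⟩ := h k
    exact e ▸ mem_E0.2 ⟨l, rfl⟩

theorem exists_col {g : GS F} {k l : Fin 6} (h : act hω hF g (uF k) = uF l) :
    ∃ a : F, a ≠ 0 ∧ mat g *ᵥ Pi.single k 1 = a • Pi.single l 1 := by
  obtain ⟨a, ha, e⟩ := (exists_act hω hF g (uF k)).choose_spec
  refine ⟨a, ha, ?_⟩
  rw [← vec_uF (ω := ω), ← vec_uF (ω := ω) l, e]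
  exact congrArg (fun i => a • vec ω i) h

/-- The scalar in a column of an element. -/
noncomputable def colScal (g : GS F) (k : Fin 6) : F := ∑ r, mat g r k

theorem col_eq {g : GS F} {k l : Fin 6} (h : act hω hF g (uF k) = uF l) :
    ∀ r, mat g r k = if r = l then colScal g k else 0 := by
  obtain ⟨a, -, e⟩ := exists_col hω hF h
  have hr : ∀ r, mat g r k = if r = l then a else 0 := fun r => by
    have := congrFun e r
    simp only [Matrix.mulVec_single_one, Matrix.col_apply, Pi.smul_apply, Pi.single_apply,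
      smul_eq_mul, mul_ite, mul_one, mul_zero] at this
    exact this
  have hs : colScal g k = a := by simp [colScal, hr]
  rw [hs]
  exact hr

theorem colScal_ne {g : GS F} (hg : g ∈ Mono hω hF) (k : Fin 6) : colScal g k ≠ 0 := by
  obtain ⟨l, hl⟩ := (mem_Mono hω hF).1 hg k
  obtain ⟨a, ha, e⟩ := exists_col hω hF hl
  have h1 := congrFun e l
  have h2 := col_eq hω hF hl l
  simp [Matrix.mulVec_single_one] at h1
  rw [h1, if_pos rfl] at h2
  exact h2 ▸ ha

/-- An element of the stabiliser is fixed by its permutation and five of its scalars. -/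
theorem mono_ext {g h : GS F} (hg : g ∈ Mono hω hF)
    (hperm : ∀ k, act hω hF g (uF k) = act hω hF h (uF k))
    (hscal : ∀ k : Fin 6, k ≠ 5 → colScal g k = colScal h k) : g = h := by
  have hcol : ∀ k : Fin 6, k ≠ 5 → ∀ r, mat g r k = mat h r k := by
    intro k hk r
    obtain ⟨l, hl⟩ := (mem_Mono hω hF).1 hg k
    rw [col_eq hω hF hl r, col_eq hω hF ((hperm k).symm.trans hl) r, hscal k hk]
  obtain ⟨l, hl⟩ := (mem_Mono hω hF).1 hg 5
  have hg5 := col_eq hω hF hl
  have hh5 := col_eq hω hF ((hperm 5).symm.trans hl)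
  have ha : colScal h 5 ≠ 0 := by
    obtain ⟨a, ha, e⟩ := exists_col hω hF ((hperm 5).symm.trans hl)
    have := congrFun e l
    simp [Matrix.mulVec_single_one] at this
    rw [hh5 l, if_pos rfl] at this
    exact this ▸ ha
  set c := colScal g 5 / colScal h 5
  have hup : mat g = (mat h).updateCol 5 (c • fun r => mat h r 5) := by
    ext r k
    by_cases hk : k = 5
    · subst hk
      rw [Matrix.updateCol_self, Pi.smul_apply, smul_eq_mul, hg5 r, hh5 r]
      split
      · rw [div_mul_cancel₀ _ ha]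
      · rw [mul_zero]
    · rw [Matrix.updateCol_ne hk, hcol k hk r]
  have hc : c = 1 := by
    have hd := congrArg Matrix.det hup
    rw [Matrix.det_updateCol_smul] at hd
    have e : (mat h).updateCol 5 (fun r => mat h r 5) = mat h := Matrix.updateCol_eq_self _ _
    rw [e, show (mat g).det = 1 from g.1.2, show (mat h).det = 1 from h.1.2, mul_one] at hd
    exact hd.symm
  refine Subtype.ext (Subtype.ext ?_)
  show mat g = mat h
  rw [hup, hc, one_smul]
  exact Matrix.updateCol_eq_self _ _

include hF in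
theorem card_units_four : Nat.card Fˣ = 3 := by
  rw [Nat.card_units, Nat.card_eq_fintype_card, hF]

theorem card_Mono_le : Nat.card (Mono hω hF) ≤ 174960 := by
  classical
  have hperm : ∀ g : Mono hω hF, ∃ σ : Equiv.Perm (Fin 6), ∀ k, act hω hF g (uF k) = uF (σ k) := by
    intro g
    choose s hs using (mem_Mono hω hF).1 g.2
    have hinj : Function.Injective s := fun a b e => uF_injective ((toPerm hω hF g.1).injective
      (show act hω hF g (uF a) = act hω hF g (uF b) by rw [hs, hs, e]))
    exact ⟨Equiv.ofBijective s (Finite.injective_iff_bijective.1 hinj), hs⟩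
  choose σ hσ using hperm
  let f : Mono hω hF → Equiv.Perm (Fin 6) × (Fin 5 → Fˣ) := fun g =>
    (σ g, fun k => Units.mk0 _ (colScal_ne hω hF g.2 k.castSucc))
  have hf : Function.Injective f := fun g h e => by
    simp only [f, Prod.mk.injEq] at e
    refine Subtype.ext (mono_ext hω hF g.2 (fun k => by rw [hσ, hσ, e.1]) fun k hk => ?_)
    have h1 := congrFun e.2 (k.castPred (show k ≠ Fin.last 5 from hk))
    simpa [Units.ext_iff] using h1
  refine (Nat.card_le_card_of_injective f hf).trans ?_
  rw [Nat.card_prod, Nat.card_fun, card_units_four hF, Nat.card_perm, Nat.card_fin, Nat.card_fin]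
  decide

theorem M0_le_Mono : M0 hω hF ≤ Mono hω hF := fun h hh => by
  have := short_stable hω hF 0 hh E0 (by rw [short_zero]; exact Finset.mem_singleton_self _)
  rw [short_zero, Finset.mem_singleton] at this
  exact this

theorem wordMat_spec : ∀ (w : List ℕ), (∀ g ∈ w, g < 9) → ∀ k : Fin 6,
    mat ((w.map (monEl hω hF)).prod) *ᵥ Pi.single k 1 = vdec ω (colM (wordMat w) k)
  | [], _, k => by
    have e : colM (wordMat []) k = 4 ^ (k : ℕ) := by revert k; decide +kernel
    rw [e, vdec_unit]
    exact Matrix.one_mulVec _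
  | g :: w, hw, k => by
    obtain ⟨hg, hw'⟩ := List.forall_mem_cons.1 hw
    have hlen : (wordMat w).length = 6 := by
      clear hw hw'
      induction w with
      | nil => rfl
      | cons a w ih => simpa [wordMat] using ih
    have ih := wordMat_spec w hw' k
    rw [List.map_cons, List.prod_cons]
    show ((monEl hω hF g).1.1 * ((w.map (monEl hω hF)).prod).1.1) *ᵥ _ = _
    rw [← Matrix.mulVec_mulVec]
    show mat (monEl hω hF g) *ᵥ (mat ((w.map (monEl hω hF)).prod) *ᵥ _) = _
    rw [ih, monEl_mat hω hF hg, ← vdec_mulV hω]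
    congr 1
    have key : ∀ (L : List ℕ) (f : ℕ → ℕ) (i : ℕ), i < L.length → f (L.getD i 0) = (L.map f).getD i 0 :=
      fun L f i hi => by
        rw [List.getD_eq_getElem _ _ hi, List.getD_eq_getElem _ _ (by rw [List.length_map]; exact hi),
          List.getElem_map]
    exact key _ _ _ (by omega)

theorem word_mem {w : List ℕ} (hw : ∀ g ∈ w, g < 9) : (w.map (monEl hω hF)).prod ∈ M0 hω hF :=
  list_prod_mem fun x hx => by
    obtain ⟨g, hg, rfl⟩ := List.mem_map.1 hx
    exact monEl_mem hω hF (hw g hg)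

theorem eq_of_cols {g h : GS F} (e : ∀ k : Fin 6, mat g *ᵥ Pi.single k 1 = mat h *ᵥ Pi.single k 1) : g = h := by
  refine Subtype.ext (Subtype.ext (Matrix.ext fun r k => ?_))
  have := congrFun (e k) r
  simpa [Matrix.mulVec_single_one] using this

theorem monEl_cube {g : ℕ} (hg : g < 9) : monEl hω hF g * monEl hω hF g * monEl hω hF g = 1 := by
  refine eq_of_cols fun k => ?_
  have h := wordMat_spec hω hF [g, g, g] (by simp [hg]) k
  have e : ([g, g, g].map (monEl hω hF)).prod = monEl hω hF g * monEl hω hF g * monEl hω hF g := by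
    simp [mul_assoc]
  rw [e] at h
  rw [h, Nat.eq_of_beq_eq_true (of_range (of_range gens_cube hg) k.2), vdec_unit]
  exact (Matrix.one_mulVec _).symm

/-- A large subgroup of the frame stabiliser contains the even monomial subgroup. -/
theorem M0_le_of_large {U : Subgroup (GS F)} (hU : U ≤ Mono hω hF) (hcard : 87480 ≤ Nat.card U) :
    M0 hω hF ≤ U := by
  have hlt := card_Mono_le hω hF
  have hmul : Nat.card U * U.relIndex (Mono hω hF) = Nat.card (Mono hω hF) := by
    rw [← (U.subgroupOf (Mono hω hF)).card_mul_index,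
      Nat.card_congr (Subgroup.subgroupOfEquivOfLe hU).toEquiv]
    rfl
  have hne : U.relIndex (Mono hω hF) ≠ 0 := Subgroup.index_ne_zero_of_finite
  have hle : U.relIndex (Mono hω hF) ≤ 2 := by
    by_contra hc
    have := Nat.mul_le_mul hcard (show 3 ≤ U.relIndex (Mono hω hF) by omega)
    omega
  have hsq : ∀ x ∈ Mono hω hF, x * x ∈ U := by
    intro x hx
    rcases (show U.relIndex (Mono hω hF) = 1 ∨ U.relIndex (Mono hω hF) = 2 by omega) with h | h
    · exact mul_mem (Subgroup.relIndex_eq_one.1 h hx) (Subgroup.relIndex_eq_one.1 h hx)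
    · have := Subgroup.mul_self_mem_of_index_two (H := U.subgroupOf (Mono hω hF)) h ⟨x, hx⟩
      exact this
  refine (Subgroup.closure_le _).2 ?_
  rintro _ ⟨g, hg, rfl⟩
  set x := monEl hω hF g
  have h3 : x * x * x = 1 := monEl_cube hω hF hg
  have hx := M0_le_Mono hω hF (monEl_mem hω hF hg)
  have : x = (x * x) * (x * x) := by rw [← mul_assoc, h3, one_mul]
  show x ∈ U
  rw [this]
  exact hsq _ (mul_mem hx hx) |> fun _ => mul_mem (hsq x hx) (hsq x hx)

/-! The Sylow subgroup and the diagonal part. -/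

theorem mulV_lt (m : List ℕ) (c : ℕ) : mulV m c < 4096 := by
  have h : ∀ a b, a < 4096 → b < 4096 → Nat.xor a b < 4096 := fun a b ha hb =>
    Nat.xor_lt_two_pow (n := 12) ha hb
  simp only [mulV]
  exact h _ _ (h _ _ (h _ _ (h _ _ (h _ _ (sclV_lt _ _) (sclV_lt _ _)) (sclV_lt _ _)) (sclV_lt _ _))
    (sclV_lt _ _)) (sclV_lt _ _)

theorem wordMat_length (w : List ℕ) : (wordMat w).length = 6 := by
  induction w with
  | nil => rfl
  | cons a w ih => simpa [wordMat] using ih

theorem colM_wordMat_lt (w : List ℕ) (k : ℕ) : colM (wordMat w) k < 4096 := by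
  have h : ∀ x ∈ wordMat w, x < 4096 := by
    cases w with
    | nil => decide +kernel
    | cons a w =>
      intro x hx
      obtain ⟨y, -, rfl⟩ := List.mem_map.1 hx
      exact mulV_lt _ _
  by_cases hk : k < (wordMat w).length
  · rw [colM, List.getD_eq_getElem _ _ hk]; exact h _ (List.getElem_mem _)
  · rw [colM, List.getD_eq_default _ _ (by omega)]; norm_num

theorem follows_of_col {g : GS F} {k : Fin 6} {c : ℕ}
    (e : mat g *ᵥ Pi.single k 1 = vdec ω c) (hlt : c < 4096) :
    (act hω hF g (uF k) : ℕ) = posC c - 1 := by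
  rw [← vec_uF (ω := ω)] at e
  have hn : Cfsg.hermForm 6 F 2 (vdec ω c) (vdec ω c) = 1 := by
    rw [← e]; exact (herm_mat g _ _).trans (vec_norm hω _)
  have hc := of_range codes_ok hlt
  have hh : herm c c = 1 :=
    dec_inj hω (herm_lt _ _) (by norm_num) (by rw [dec_one, ← hermForm_dec hω]; exact hn)
  simp only [codeOK, hh, Bool.or_eq_true, Bool.and_eq_true, List.any_eq_true] at hc
  rcases hc with hc | ⟨⟨h1, h2⟩, b, hb, hbc⟩
  · simp at hc
  have h1' := Nat.le_of_ble_eq_true h1
  have h2' := Nat.le_of_ble_eq_true h2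
  have key : act hω hF g (uF k) = ⟨posC c - 1, by omega⟩ := by
    refine act_eq hω hF (a := dec ω b) (fun z => ?_) ?_
    · have := dec_eq_zero hω z
      simp at hb
      rcases hb with rfl | rfl | rfl <;> simp at this
    · rw [e, vec, ← vdec_scl hω, Nat.eq_of_beq_eq_true hbc]
  rw [key]

/-- An element permutes the unit points by a function. -/
def Follows (g : GS F) (f : ℕ → ℕ) : Prop := ∀ k : Fin 6, (act hω hF g (uF k) : ℕ) = uPt (f k)

theorem pat_lt : ∀ i < 9, ∀ k < 6, pat i k < 6 := by decide +kernel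

theorem Follows.mem {g : GS F} {i : ℕ} (hi : i < 9) (h : Follows hω hF g (pat i)) : g ∈ Mono hω hF :=
  (mem_Mono hω hF).2 fun k => ⟨⟨pat i k, pat_lt i hi k k.2⟩, Fin.ext (h k)⟩

theorem follows_word {w : List ℕ} (hw : ∀ g ∈ w, g < 9) {f : ℕ → ℕ} (h : hasPat (wordMat w) f = true) :
    Follows hω hF (w.map (monEl hω hF)).prod f := by
  intro k
  have hk := of_range h k.2
  simp only [Bool.and_eq_true] at hk
  rw [follows_of_col hω hF (wordMat_spec hω hF w hw k) (colM_wordMat_lt _ _)]
  exact Nat.eq_of_beq_eq_true hk.1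

end CfsgLib.Chev.U43U6
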