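import Cfsg.Agent.Lib.Chev.U43InU6.Sylow
import Cfsg.Agent.Lib.Chev.U43InU6.KChecks
import Cfsg.Agent.Lib.Chev.U43InU6.AbelianChecks

/-!
The three subgroups.
-/

set_option autoImplicit false
set_option maxRecDepth 100000
set_option linter.unusedSectionVars false

namespace CfsgLib.Chev.U43U6

open Matrix
open CfsgLib.KnownA.PermCert (pimg permOf valid mem_genGroup genGroup_le genGroup permOf_val valid_lt)
open CfsgLib.KnownA.U4ThreeSchur (GP gensG codeA codeB valid_gens first mem_needG)

variable {F : Type*} [Field F] [Fintype F] {ω : F} (hω : IsOmega ω) (hF : Fintype.card F = 4)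

/-- The frame of an index. -/
def frB (b : Fin 3) (i : Fin 112) : Finset (Fin 672) := lst ((kFr b).getD i [])

theorem kFr_length (b : Fin 3) : (kFr b).length = 112 := by
  have h := of_range set_ok b.2
  simp only [setOK, Bool.and_eq_true] at h
  exact Nat.eq_of_beq_eq_true h.1.1.1

theorem kFr_lt (b : Fin 3) (i : Fin 112) : ∀ x ∈ (kFr b).getD i [], x < 672 := by
  have h := of_range set_ok b.2
  simp only [setOK, Bool.and_eq_true, List.all_eq_true] at h
  intro x hx
  rw [List.getD_eq_getElem _ _ ((kFr_length b).symm ▸ i.2)] at hx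
  simpa [Nat.blt] using h.2 _ (List.getElem_mem _) x hx

theorem frB_injective (b : Fin 3) : Function.Injective (frB b) := by
  intro i j e
  have h := of_range set_ok b.2
  simp only [setOK, Bool.and_eq_true] at h
  have hnd := distinct_nodup h.1.1.2
  have hi : (i : ℕ) < (kFr b).length := (kFr_length b).symm ▸ i.2
  have hj : (j : ℕ) < (kFr b).length := (kFr_length b).symm ▸ j.2
  have em := mask_congr (kFr_lt b i) (kFr_lt b j) e
  rw [List.getD_eq_getElem _ _ hi, List.getD_eq_getElem _ _ hj] at em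
  refine Fin.ext ((hnd.getElem_inj_iff (hi := by simpa [kMasks] using hi) (hj := by simpa [kMasks] using hj)).1 ?_)
  simpa [kMasks] using em

/-- The set of frames. -/
def Bset (b : Fin 3) : Finset (Finset (Fin 672)) := Finset.univ.image (frB b)

theorem mem_Bset {b : Fin 3} {S : Finset (Fin 672)} : S ∈ Bset b ↔ ∃ i, frB b i = S := by simp [Bset]

theorem card_Bset (b : Fin 3) : (Bset b).card = 112 := by
  rw [Bset, Finset.card_image_of_injective _ (frB_injective b), Finset.card_univ, Fintype.card_fin]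

theorem mask_mem {b : Fin 3} {L : List ℕ} (h : (kMasks b).any (Nat.beq (mask L)) = true) : lst L ∈ Bset b := by
  obtain ⟨m, hm, e⟩ := List.any_eq_true.1 h
  obtain ⟨f, hf, rfl⟩ := List.mem_map.1 hm
  obtain ⟨i, hi, rfl⟩ := List.mem_iff_getElem.1 hf
  refine mem_Bset.2 ⟨⟨i, kFr_length b ▸ hi⟩, ?_⟩
  rw [frB, List.getD_eq_getElem _ _ hi, lst_congr (Nat.eq_of_beq_eq_true e)]

theorem E0_mem (b : Fin 3) : E0 ∈ Bset b := by
  have h := of_range set_ok b.2
  simp only [setOK, Bool.and_eq_true] at h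
  exact mask_mem h.1.2

theorem short_subset (b : Fin 3) : short ⟨bigShort b, by unfold bigShort; split_ifs <;> norm_num⟩ ⊆ Bset b := by
  intro S hS
  obtain ⟨f, hf, rfl⟩ := List.mem_map.1 (List.mem_toFinset.1 hS)
  have h := of_range big_ok.1 b.2
  exact mask_mem (List.all_eq_true.1 h f hf)

theorem exists_big (j : Fin 8) (hj : j = 5 ∨ j = 6 ∨ j = 7) : ∃ b : Fin 3, short j ⊆ Bset b := by
  have h : ∀ j ∈ [5, 6, 7], ∃ b : Fin 3, bigShort b = j := by decide +kernel
  obtain ⟨b, hb⟩ := h j (by rcases hj with rfl | rfl | rfl <;> simp)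
  refine ⟨b, ?_⟩
  convert short_subset b using 2
  exact Fin.ext hb.symm

theorem Bset_ne {a c : Fin 3} (h : Bset a = Bset c) : a = c := by
  have hk := of_range (of_range sets_differ a.2) c.2
  simp only [Bool.or_eq_true, List.any_eq_true] at hk
  rcases hk with hk | ⟨m, hm, hm'⟩
  · exact Fin.ext (Nat.eq_of_beq_eq_true hk)
  exfalso
  obtain ⟨f, hf, rfl⟩ := List.mem_map.1 hm
  obtain ⟨i, hi, rfl⟩ := List.mem_iff_getElem.1 hf
  have hS : lst ((kFr a)[i]) ∈ Bset c := h ▸ mem_Bset.2 ⟨⟨i, kFr_length a ▸ hi⟩, by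
    rw [frB, List.getD_eq_getElem _ _ hi]⟩
  obtain ⟨k, hk⟩ := mem_Bset.1 hS
  have hi' := kFr_lt a ⟨i, kFr_length a ▸ hi⟩
  rw [List.getD_eq_getElem _ _ hi] at hi'
  have em := mask_congr (kFr_lt c k) hi' hk
  simp only [Bool.not_eq_true', List.any_eq_false] at hm'
  refine hm' (mask ((kFr c).getD k [])) (List.mem_map.2 ⟨_, ?_, rfl⟩) (by rw [em]; exact Nat.beq_refl _)
  rw [List.getD_eq_getElem _ _ ((kFr_length c).symm ▸ k.2)]
  exact List.getElem_mem _

/-- The stabiliser of the set. -/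
noncomputable def Lb (b : Fin 3) : Subgroup (GS F) :=
  { toSubmonoid :=
      { carrier := {g | ∀ S ∈ Bset b, mv hω hF g S ∈ Bset b}
        one_mem' := fun S hS => by rwa [mv_one]
        mul_mem' := fun {x y} hx hy S hS => by rw [mv_mul]; exact hx _ (hy S hS) }
    inv_mem' := fun {x} hx S hS => by
      obtain ⟨T, hT, e⟩ := Finset.surj_on_of_inj_on_of_card_le (s := Bset b) (t := Bset b)
        (fun T _ => mv hω hF x T) (fun T hT => hx T hT)
        (fun p q _ _ e => by simpa [← mv_mul, mv_one] using congrArg (mv hω hF x⁻¹) e) le_rfl S hS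
      show mv hω hF x⁻¹ S ∈ Bset b
      rw [e, ← mv_mul, inv_mul_cancel, mv_one]
      exact hT }

theorem exists_idx (b : Fin 3) (g : Lb hω hF b) (i : Fin 112) :
    ∃ j, frB b j = mv hω hF g (frB b i) := mem_Bset.1 (g.2 _ (mem_Bset.2 ⟨i, rfl⟩))

/-- The image of an index. -/
noncomputable def idx (b : Fin 3) (g : Lb hω hF b) (i : Fin 112) : Fin 112 := (exists_idx hω hF b g i).choose

theorem idx_spec (b : Fin 3) (g : Lb hω hF b) (i : Fin 112) :
    frB b (idx hω hF b g i) = mv hω hF g (frB b i) := (exists_idx hω hF b g i).choose_spec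

theorem idx_mul (b : Fin 3) (g h : Lb hω hF b) (i : Fin 112) :
    idx hω hF b (g * h) i = idx hω hF b g (idx hω hF b h i) := by
  apply frB_injective b
  rw [idx_spec, idx_spec, idx_spec, Subgroup.coe_mul, mv_mul]

theorem idx_one (b : Fin 3) (i : Fin 112) : idx hω hF b 1 i = i := by
  apply frB_injective b
  rw [idx_spec, Subgroup.coe_one, mv_one]

/-- The action on the 112 frames. -/
noncomputable def permB (b : Fin 3) : Lb hω hF b →* Equiv.Perm (Fin 112) where
  toFun g :=
    { toFun := idx hω hF b g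
      invFun := idx hω hF b g⁻¹
      left_inv := fun i => by rw [← idx_mul, inv_mul_cancel, idx_one]
      right_inv := fun i => by rw [← idx_mul, mul_inv_cancel, idx_one] }
  map_one' := Equiv.ext (idx_one hω hF b)
  map_mul' g h := Equiv.ext (idx_mul hω hF b g h)

theorem exists_realiser (b : Fin 3) (t : ℕ) (ht : t < 2) :
    ∃ g : Lb hω hF b, permB hω hF b g = permOf 112 (if t = 0 then codeA else codeB) := by
  have h := of_range mat_ok b.2
  simp only [matOK, Bool.and_eq_true] at h
  set c := if t = 0 then codeA else codeB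
  have hc : valid 112 c = true := by
    simp only [c]; split
    exacts [valid_gens.1, valid_gens.2]
  set m := (kMat b).getD t []
  have hm : isSU m = true := by
    simp only [m]
    rcases (show t = 0 ∨ t = 1 by omega) with rfl | rfl
    exacts [h.1.1, h.1.2]
  obtain ⟨g, hg⟩ := exists_el hω hF hm
  have hmask : ∀ i : Fin 112, mask (((kFr b).getD i []).map (imgP m)) = mask ((kFr b).getD (pimg c i) []) := by
    intro i
    have hi := of_range h.2 i.2
    simp only [Bool.and_eq_true] at hi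
    simp only [m, c]
    rcases (show t = 0 ∨ t = 1 by omega) with rfl | rfl
    · exact Nat.eq_of_beq_eq_true hi.1
    · exact Nat.eq_of_beq_eq_true hi.2
  have himg : ∀ i : Fin 112, mv hω hF g (frB b i) = frB b ⟨pimg c i, valid_lt hc i.2⟩ := by
    intro i
    rw [frB, frB, ← lst_congr (hmask i)]
    ext j
    rw [mem_mv, mem_lst, List.mem_map]
    constructor
    · rintro ⟨k, hk, rfl⟩
      exact ⟨k, mem_lst.1 hk, (act_code hω hF hg k).symm⟩
    · rintro ⟨x, hx, e⟩
      exact ⟨⟨x, kFr_lt b i x hx⟩, mem_lst.2 hx, Fin.ext ((act_code hω hF hg _).trans e)⟩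
  have hgL : g ∈ Lb hω hF b := fun S hS => by
    obtain ⟨i, rfl⟩ := mem_Bset.1 hS
    rw [himg]
    exact mem_Bset.2 ⟨_, rfl⟩
  refine ⟨⟨g, hgL⟩, Equiv.ext fun i => ?_⟩
  apply frB_injective b
  show frB b (idx hω hF b ⟨g, hgL⟩ i) = _
  rw [idx_spec, himg]
  congr 1
  exact Fin.ext (permOf_val hc i).symm

theorem GP_le_range (b : Fin 3) : GP ≤ (permB hω hF b).range := by
  refine genGroup_le fun c hc => ?_
  simp only [gensG, List.mem_cons, List.not_mem_nil, or_false] at hc
  rcases hc with rfl | rfl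
  · exact exists_realiser hω hF b 0 (by norm_num)
  · exact exists_realiser hω hF b 1 (by norm_num)

/-- The transposition as an element. -/
noncomputable def tauEl : GS F := (exists_el hω hF tauM_ok).choose

theorem tauEl_mat : mat (tauEl hω hF) = mdec ω tauM := (exists_el hω hF tauM_ok).choose_spec

theorem gens_keep (b : Fin 3) : M0 hω hF ≤ Lb hω hF b ∧ tauEl hω hF ∈ Lb hω hF b := by
  have h := of_range keep_ok b.2
  simp only [keepOK, List.all_eq_true, Bool.and_eq_true, List.mem_range] at h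
  constructor
  · refine (Subgroup.closure_le _).2 ?_
    rintro _ ⟨g, hg, rfl⟩ S hS
    obtain ⟨i, rfl⟩ := mem_Bset.1 hS
    rw [frB, mv_monEl hω hF hg (kFr_lt b i)]
    refine mask_mem ((h _ ?_).2 g hg)
    rw [List.getD_eq_getElem _ _ ((kFr_length b).symm ▸ i.2)]
    exact List.getElem_mem _
  · intro S hS
    obtain ⟨i, rfl⟩ := mem_Bset.1 hS
    have e : mv hω hF (tauEl hω hF) (frB b i) = lst (((kFr b).getD i []).map (imgP tauM)) := by
      ext j
      rw [mem_mv, mem_lst, List.mem_map]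
      constructor
      · rintro ⟨k, hk, rfl⟩
        exact ⟨k, mem_lst.1 hk, (act_code hω hF (tauEl_mat hω hF) k).symm⟩
      · rintro ⟨x, hx, e⟩
        exact ⟨⟨x, kFr_lt b i x hx⟩, mem_lst.2 hx, Fin.ext ((act_code hω hF (tauEl_mat hω hF) _).trans e)⟩
    rw [e]
    refine mask_mem ((h _ ?_).1)
    rw [List.getD_eq_getElem _ _ ((kFr_length b).symm ▸ i.2)]
    exact List.getElem_mem _

theorem Tgp_le_M0 : Tgp hω hF ≤ M0 hω hF := by
  intro t ht
  let f : Fin 243 → Tgp hω hF := fun i => ⟨diagEl hω hF i, diagEl_mem hω hF i.2⟩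
  have hf : Function.Injective f := fun i j e => Fin.ext (diagEl_inj hω hF i.2 j.2 (congrArg Subtype.val e))
  have hb := hf.bijective_of_nat_card_le (by rw [Nat.card_fin]; exact card_Tgp_le hω hF)
  obtain ⟨i, hi⟩ := hb.2 ⟨t, ht⟩
  rw [← show diagEl hω hF i = t from congrArg Subtype.val hi]
  exact word_mem hω hF (diagWord_lt i)

theorem Sgp_le_M0 : Sgp hω hF ≤ M0 hω hF := by
  rintro g ⟨i, hi, hg⟩
  have hC := patEl_follows hω hF hi
  have ht : (patEl hω hF i)⁻¹ * g ∈ Tgp hω hF := fun k => by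
    rw [act_mul, hg.act_eq' hω hF hi, ← hC.act_eq' hω hF hi k, ← act_mul, inv_mul_cancel, act_one]
    rfl
  have : g = patEl hω hF i * ((patEl hω hF i)⁻¹ * g) := (mul_inv_cancel_left _ _).symm
  rw [this]
  exact mul_mem (word_mem hω hF (patWord_lt i hi)) (Tgp_le_M0 hω hF ht)

theorem perm_list (σ : Fin 6 → Fin 6) (hσ : Function.Injective σ) :
    ∃ e ∈ permWords, permOK e = true ∧ ∀ k : Fin 6, e.1.getD k 0 = σ k := by
  have h := perms_ok
  simp only [Bool.and_eq_true, List.all_eq_true] at h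
  have hi := perms_inj
  simp only [List.all_eq_true, List.mem_range, Bool.and_eq_true, Bool.or_eq_true, Bool.not_eq_true'] at hi
  have hlt : ∀ e ∈ permWords, ∀ k : Fin 6, e.1.getD k 0 < 6 := fun e he k => by
    simpa [Nat.blt] using (hi e he k k.2).1
  let f : {e // e ∈ permWords} → (Fin 6 ↪ Fin 6) := fun e =>
    ⟨fun k => ⟨e.1.1.getD k 0, hlt e.1 e.2 k⟩, fun k l ekl => by
      rcases (hi e.1 e.2 k k.2).2 l l.2 with h' | h'
      · exact Fin.ext (Nat.eq_of_beq_eq_true h')
      · have e' : e.1.1.getD k 0 = e.1.1.getD l 0 := congrArg Fin.val ekl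
        rw [e', Nat.beq_refl] at h'
        exact Bool.noConfusion h'⟩
  have hlen : ∀ e ∈ permWords, e.1.length = 6 := fun e he => by
    have := h.1.2 e he
    simp only [permOK, Bool.and_eq_true] at this
    exact Nat.eq_of_beq_eq_true this.1.1.1
  have hnd := distinct_nodup h.2
  have hf : Function.Injective f := by
    rintro ⟨e, he⟩ ⟨e', he'⟩ eq
    refine Subtype.ext (List.inj_on_of_nodup_map hnd he he' ?_)
    have : e.1 = e'.1 := List.ext_getElem (by rw [hlen e he, hlen e' he']) fun k hk hk' => by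
      have hk6 : k < 6 := hlen e he ▸ hk
      have := congrArg (fun g : Fin 6 ↪ Fin 6 => ((g ⟨k, hk6⟩ : Fin 6) : ℕ)) eq
      rw [← List.getD_eq_getElem _ 0 hk, ← List.getD_eq_getElem _ 0 hk']
      exact this
    simp only [this]
  have hcard : Nat.card {e // e ∈ permWords} = 720 := by
    classical
    rw [Nat.card_congr (Equiv.subtypeEquivRight (fun e => (List.mem_toFinset (l := permWords)).symm)),
      Nat.card_eq_fintype_card, Fintype.card_coe,
      List.toFinset_card_of_nodup (List.Nodup.of_map _ hnd), Nat.eq_of_beq_eq_true h.1.1]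
  have : Finite {e // e ∈ permWords} := Nat.finite_of_card_ne_zero (by omega)
  have hb := hf.bijective_of_nat_card_le (by
    rw [hcard, Nat.card_eq_fintype_card, Fintype.card_embedding_eq, Fintype.card_fin]; decide)
  obtain ⟨⟨e, he⟩, hef⟩ := hb.2 ⟨σ, hσ⟩
  refine ⟨e, he, h.1.2 e he, fun k => ?_⟩
  exact congrArg (fun g : Fin 6 ↪ Fin 6 => ((g k : Fin 6) : ℕ)) hef

theorem mono_sigma {g : GS F} (hg : g ∈ Mono hω hF) :
    ∃ σ : Fin 6 → Fin 6, Function.Injective σ ∧ ∀ k, act hω hF g (uF k) = uF (σ k) := by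
  choose σ hσ using (mem_Mono hω hF).1 hg
  exact ⟨σ, fun a b e => uF_injective ((toPerm hω hF g).injective
    (show act hω hF g (uF a) = act hω hF g (uF b) by rw [hσ, hσ, e])), hσ⟩

theorem Mono_le_Lb (b : Fin 3) : Mono hω hF ≤ Lb hω hF b := by
  intro g hg
  obtain ⟨σ, hinj, hσ⟩ := mono_sigma hω hF hg
  obtain ⟨e, -, he, hek⟩ := perm_list σ hinj
  simp only [permOK, Bool.and_eq_true, List.all_eq_true] at he
  obtain ⟨⟨⟨-, he2⟩, hw⟩, hpat⟩ := he
  have hw' : ∀ x ∈ e.2.2, x < 9 := fun x hx => by simpa [Nat.blt] using hw x hx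
  set W := (e.2.2.map (monEl hω hF)).prod
  set h := if e.2.1 = 0 then W else tauEl hω hF * W with hdef
  have hmem : h ∈ Lb hω hF b := by
    rw [hdef]
    split
    · exact (gens_keep hω hF b).1 (word_mem hω hF hw')
    · exact mul_mem (gens_keep hω hF b).2 ((gens_keep hω hF b).1 (word_mem hω hF hw'))
  have hfol : ∀ k : Fin 6, act hω hF h (uF k) = uF (σ k) := by
    intro k
    have he2' : e.2.1 = 0 ∨ e.2.1 = 1 := by
      have : e.2.1 < 2 := by simpa [Nat.blt] using he2
      omega
    have hk := of_range hpat k.2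
    simp only [Bool.and_eq_true] at hk
    have hcol := wordMat_spec hω hF e.2.2 hw' k
    rcases he2' with h0 | h1
    · rw [h0] at hk
      rw [hdef, if_pos h0]
      refine Fin.ext ?_
      rw [follows_of_col hω hF hcol (colM_wordMat_lt _ _)]
      exact (Nat.eq_of_beq_eq_true hk.1).trans (by rw [hek]; rfl)
    · rw [h1] at hk
      rw [hdef, if_neg (by omega)]
      have hlen : (wordMat e.2.2).length = 6 := wordMat_length _
      have hcol' : mat (tauEl hω hF * W) *ᵥ Pi.single k 1 =
          vdec ω (mulV tauM (colM (wordMat e.2.2) k)) := by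
        rw [vdec_mulV hω, ← hcol, ← tauEl_mat hω hF, Matrix.mulVec_mulVec]
        rfl
      refine Fin.ext ?_
      rw [follows_of_col hω hF hcol' (mulV_lt _ _)]
      have e' : colM (((List.replicate 1 tauM).foldl (fun m t => m.map (mulV t)) (wordMat e.2.2))) k =
          mulV tauM (colM (wordMat e.2.2) k) := by
        simp only [List.replicate_one, List.foldl_cons, List.foldl_nil, colM]
        rw [List.getD_eq_getElem _ _ (by rw [List.length_map]; omega), List.getElem_map,
          List.getD_eq_getElem _ _ (by omega)]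
      rw [← e']
      exact (Nat.eq_of_beq_eq_true hk.1).trans (by rw [hek]; rfl)
  have ht : h⁻¹ * g ∈ Tgp hω hF := fun k => by
    rw [act_mul, hσ, ← hfol, ← act_mul, inv_mul_cancel, act_one]
    rfl
  rw [show g = h * (h⁻¹ * g) from (mul_inv_cancel_left h g).symm]
  exact mul_mem hmem ((gens_keep hω hF b).1 (Tgp_le_M0 hω hF ht))

theorem GP_transitive (i j : Fin 112) : ∃ σ ∈ GP, σ i = j := by
  have key : ∀ j : Fin 112, ∃ σ ∈ GP, σ (⟨0, by norm_num⟩ : Fin 112) = j := by
    intro j
    obtain ⟨c, hc, e⟩ := List.any_eq_true.1 (of_range first_cover j.2)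
    obtain ⟨hv, hm⟩ := mem_needG (c := c) (by simp [CfsgLib.KnownA.U4ThreeSchur.needG, hc])
    exact ⟨_, hm, Fin.ext ((permOf_val hv _).trans (Nat.eq_of_beq_eq_true e))⟩
  obtain ⟨σ, hσ, e⟩ := key i
  obtain ⟨τ, hτ, e'⟩ := key j
  exact ⟨τ * σ⁻¹, mul_mem hτ (inv_mem hσ), by
    rw [← e, Equiv.Perm.mul_apply, Equiv.Perm.inv_eq_iff_eq.2 rfl, e']⟩

theorem frB_zero (b : Fin 3) : frB b ⟨0, by norm_num⟩ = E0 := by
  have h : ∀ b : Fin 3, mask ((kFr b).getD 0 []) = mask baseFr := by decide +kernel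
  exact lst_congr (h b)

theorem permB_range_transitive (b : Fin 3) (i : Fin 112) :
    ∃ g : Lb hω hF b, permB hω hF b g ∈ GP ∧ idx hω hF b g ⟨0, by norm_num⟩ = i := by
  obtain ⟨σ, hσ, e⟩ := GP_transitive ⟨0, by norm_num⟩ i
  obtain ⟨g, hg⟩ := GP_le_range hω hF b hσ
  exact ⟨g, hg ▸ hσ, by rw [← e, ← hg]; rfl⟩

end CfsgLib.Chev.U43U6
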