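import Cfsg.Agent.Lib.Chev.U43InU6.Mono
import Mathlib.GroupTheory.Sylow

/-!
The Sylow 3-subgroup of the special unitary group and its abelian subgroup of order 243.
-/

set_option autoImplicit false
set_option maxRecDepth 100000
set_option linter.unusedSectionVars false

namespace CfsgLib.Chev.U43U6

open Matrix

variable {F : Type*} [Field F] [Fintype F] {ω : F} (hω : IsOmega ω) (hF : Fintype.card F = 4)

theorem follows_one : Follows hω hF 1 id := fun k => by simp [act_one, uF]

theorem Follows.mul {g h : GS F} {f f' : ℕ → ℕ} (hg : Follows hω hF g f) (hh : Follows hω hF h f')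
    (hf' : ∀ k < 6, f' k < 6) : Follows hω hF (g * h) fun k => f (f' k) := by
  intro k
  rw [act_mul, show act hω hF h (uF k) = uF ⟨f' k, hf' k k.2⟩ from Fin.ext (hh k)]
  exact hg _

theorem uPt_inj {k l : ℕ} (hk : k < 6) (hl : l < 6) (h : uPt k = uPt l) : k = l :=
  congrArg Fin.val (uF_injective (a₁ := ⟨k, hk⟩) (a₂ := ⟨l, hl⟩) (Fin.ext h))

/-- The Sylow 3-subgroup. -/
noncomputable def Sgp : Subgroup (GS F) :=
  { toSubmonoid :=
      { carrier := {g | ∃ i < 9, Follows hω hF g (pat i)}
        one_mem' := ⟨0, by norm_num, fun k => by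
          have e : pat 0 k = k := by revert k; decide +kernel
          rw [e]; simp [act_one, uF]⟩
        mul_mem' := fun {a b} ha hb => by
          obtain ⟨i, hi, ha⟩ := ha
          obtain ⟨j, hj, hb⟩ := hb
          have h := of_range (of_range pat_closed hi) hj
          simp only [List.any_eq_true, List.all_eq_true, List.mem_range] at h
          obtain ⟨l, hl, h⟩ := h
          exact ⟨l, hl, fun k => by
            rw [← Nat.eq_of_beq_eq_true (h k k.2)]
            exact ha.mul hω hF hb (pat_lt j hj) k⟩ }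
    inv_mem' := fun {a} ha => by
      have key : ∀ n : ℕ, ∃ i < 9, Follows hω hF (a ^ n) (pat i) := by
        intro n
        induction n with
        | zero =>
          refine ⟨0, by norm_num, fun k => ?_⟩
          have e : pat 0 k = k := by revert k; decide +kernel
          rw [e]; simp [act_one, uF]
        | succ n ih =>
          obtain ⟨i, hi, hn⟩ := ih
          obtain ⟨j, hj, ha⟩ := ha
          have h := of_range (of_range pat_closed hi) hj
          simp only [List.any_eq_true, List.all_eq_true, List.mem_range] at h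
          obtain ⟨l, hl, h⟩ := h
          refine ⟨l, hl, fun k => ?_⟩
          rw [pow_succ, ← Nat.eq_of_beq_eq_true (h k k.2)]
          exact hn.mul hω hF ha (pat_lt j hj) k
      have : a⁻¹ = a ^ (orderOf a - 1) := by
        rw [inv_eq_iff_mul_eq_one, ← pow_succ', Nat.sub_add_cancel (orderOf_pos a), pow_orderOf_eq_one]
      show ∃ i < 9, Follows hω hF a⁻¹ (pat i)
      rw [this]
      exact key _ }

/-- The diagonal subgroup. -/
noncomputable def Tgp : Subgroup (GS F) where
  carrier := {g | Follows hω hF g id}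
  one_mem' := follows_one hω hF
  mul_mem' {a b} ha hb := ha.mul hω hF hb (fun k hk => hk)
  inv_mem' {a} ha := fun k => by
    show (act hω hF a⁻¹ (uF k) : ℕ) = uPt k
    conv_lhs => rw [show uF k = act hω hF a (uF k) from (Fin.ext (ha k)).symm, ← act_mul, inv_mul_cancel, act_one]
    rfl

theorem Tgp_le_Sgp : Tgp hω hF ≤ Sgp hω hF := fun g hg => ⟨0, by norm_num, fun k => by
  have e : pat 0 k = k := by revert k; decide +kernel
  rw [e]; exact hg k⟩

theorem Sgp_le_Mono : Sgp hω hF ≤ Mono hω hF := fun _ ⟨_, hi, h⟩ => h.mem hω hF hi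

theorem Follows.act_eq' {g : GS F} {i : ℕ} (hi : i < 9) (h : Follows hω hF g (pat i)) (k : Fin 6) :
    act hω hF g (uF k) = uF ⟨pat i k, pat_lt i hi k k.2⟩ := Fin.ext (h k)

theorem Tgp_col {t : GS F} (ht : t ∈ Tgp hω hF) (k : Fin 6) :
    mat t *ᵥ Pi.single k 1 = colScal t k • Pi.single k 1 := by
  have h := col_eq hω hF (g := t) (k := k) (l := k) (Fin.ext (ht k))
  funext r
  simp [Matrix.mulVec_single_one, h r, Pi.single_apply]

theorem Tgp_comm {s t : GS F} (hs : s ∈ Tgp hω hF) (ht : t ∈ Tgp hω hF) : s * t = t * s := by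
  refine eq_of_cols fun k => ?_
  show (s.1.1 * t.1.1) *ᵥ _ = (t.1.1 * s.1.1) *ᵥ _
  rw [← Matrix.mulVec_mulVec, ← Matrix.mulVec_mulVec]
  show mat s *ᵥ (mat t *ᵥ _) = mat t *ᵥ (mat s *ᵥ _)
  rw [Tgp_col hω hF hs, Tgp_col hω hF ht, Matrix.mulVec_smul, Matrix.mulVec_smul, Tgp_col hω hF hs,
    Tgp_col hω hF ht, smul_smul, smul_smul, mul_comm]

theorem card_Tgp_le : Nat.card (Tgp hω hF) ≤ 243 := by
  let f : Tgp hω hF → Fin 5 → Fˣ := fun g k =>
    Units.mk0 _ (colScal_ne hω hF (Sgp_le_Mono hω hF (Tgp_le_Sgp hω hF g.2)) k.castSucc)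
  have hf : Function.Injective f := fun g h e => by
    refine Subtype.ext (mono_ext hω hF (Sgp_le_Mono hω hF (Tgp_le_Sgp hω hF g.2))
      (fun k => Fin.ext ((g.2 k).trans (h.2 k).symm)) fun k hk => ?_)
    have h1 := congrFun e (k.castPred (show k ≠ Fin.last 5 from hk))
    simpa [f, Units.ext_iff] using h1
  refine (Nat.card_le_card_of_injective f hf).trans ?_
  rw [Nat.card_fun, card_units_four hF, Nat.card_fin]
  norm_num

theorem card_Sgp_le : Nat.card (Sgp hω hF) ≤ 2187 := by
  classical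
  choose i hi hfol using fun g : Sgp hω hF => g.2
  let f : Sgp hω hF → Fin 9 × (Fin 5 → Fˣ) := fun g =>
    (⟨i g, hi g⟩, fun k => Units.mk0 _ (colScal_ne hω hF (Sgp_le_Mono hω hF g.2) k.castSucc))
  have hf : Function.Injective f := fun g h e => by
    simp only [f, Prod.mk.injEq, Fin.mk.injEq] at e
    refine Subtype.ext (mono_ext hω hF (Sgp_le_Mono hω hF g.2) (fun k => Fin.ext ?_) fun k hk => ?_)
    · rw [hfol g k, hfol h k, e.1]
    · have h1 := congrFun e.2 (k.castPred (show k ≠ Fin.last 5 from hk))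
      simpa [Units.ext_iff] using h1
  refine (Nat.card_le_card_of_injective f hf).trans ?_
  rw [Nat.card_prod, Nat.card_fun, card_units_four hF, Nat.card_fin, Nat.card_fin]
  norm_num

theorem patWord_lt : ∀ i < 9, ∀ g ∈ patWord i, g < 9 := by decide +kernel

theorem diagWord_lt (t : ℕ) : ∀ g ∈ diagWord t, g < 9 := by
  intro g hg
  simp only [diagWord, List.mem_append, List.mem_replicate] at hg
  omega

/-- The element of a pattern. -/
noncomputable def patEl (i : ℕ) : GS F := ((patWord i).map (monEl hω hF)).prod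

theorem patEl_follows {i : ℕ} (hi : i < 9) : Follows hω hF (patEl hω hF i) (pat i) := by
  have h := gens_pat
  rw [Bool.and_eq_true] at h
  exact follows_word hω hF (patWord_lt i hi) (of_range h.2 hi)

/-- The element of a diagonal word. -/
noncomputable def diagEl (t : ℕ) : GS F := ((diagWord t).map (monEl hω hF)).prod

theorem diagEl_mem {t : ℕ} (ht : t < 243) : diagEl hω hF t ∈ Tgp hω hF :=
  follows_word hω hF (diagWord_lt t) (of_range diag_pat ht)

theorem monEl_diag_mem {g : ℕ} (hg : g < 5) : monEl hω hF (g + 4) ∈ Tgp hω hF := by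
  have h := gens_pat
  rw [Bool.and_eq_true] at h
  have := follows_word hω hF (w := [g + 4]) (by simp; omega) (of_range h.1 hg)
  rw [List.map_cons, List.map_nil, List.prod_cons, List.prod_nil, mul_one] at this
  exact this

theorem diagEl_inj {s t : ℕ} (hs : s < 243) (ht : t < 243) (e : diagEl hω hF s = diagEl hω hF t) : s = t := by
  have hcols : ∀ k : Fin 6, colM (wordMat (diagWord s)) k = colM (wordMat (diagWord t)) k := fun k =>
    vdec_inj hω (colM_wordMat_lt _ _) (colM_wordMat_lt _ _)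
      ((wordMat_spec hω hF _ (diagWord_lt s) k).symm.trans
        ((show _ = mat (diagEl hω hF t) *ᵥ Pi.single k 1 from congrArg (fun g => mat g *ᵥ Pi.single k 1) e).trans
          (wordMat_spec hω hF _ (diagWord_lt t) k)))
  have hlen : ∀ w : List ℕ, (wordMat w).length = 6 := fun w => by
    induction w with
    | nil => rfl
    | cons a w ih => simpa [wordMat] using ih
  have hw : wordMat (diagWord s) = wordMat (diagWord t) := by
    refine List.ext_getElem (by rw [hlen, hlen]) fun k h1 h2 => ?_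
    have := hcols ⟨k, by rw [hlen] at h1; exact h1⟩
    rw [colM, colM, List.getD_eq_getElem _ _ h1, List.getD_eq_getElem _ _ h2] at this
    exact this
  exact List.inj_on_of_nodup_map (distinct_nodup diag_distinct) (List.mem_range.2 hs) (List.mem_range.2 ht)
    (by rw [hw])

theorem card_Sgp : Nat.card (Sgp hω hF) = 2187 := by
  refine le_antisymm (card_Sgp_le hω hF) ?_
  let f : Fin 9 × Fin 243 → Sgp hω hF := fun p =>
    ⟨patEl hω hF p.1 * diagEl hω hF p.2,
      mul_mem ⟨p.1, p.1.2, patEl_follows hω hF p.1.2⟩ (Tgp_le_Sgp hω hF (diagEl_mem hω hF p.2.2))⟩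
  have hf : Function.Injective f := by
    rintro ⟨i, s⟩ ⟨j, t⟩ e
    have e' : patEl hω hF i * diagEl hω hF s = patEl hω hF j * diagEl hω hF t := congrArg Subtype.val e
    have hij : i = j := by
      by_contra hne
      have h := of_range (of_range pat_distinct i.2) j.2
      simp only [Bool.or_eq_true, List.any_eq_true, List.mem_range, Bool.not_eq_true'] at h
      rcases h with h | ⟨k, hk, h⟩
      · exact hne (Fin.ext (Nat.eq_of_beq_eq_true h))
      · have h1 := (patEl_follows hω hF i.2).mul hω hF (diagEl_mem hω hF s.2) (fun k hk => hk) ⟨k, hk⟩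
        have h2 := (patEl_follows hω hF j.2).mul hω hF (diagEl_mem hω hF t.2) (fun k hk => hk) ⟨k, hk⟩
        rw [e'] at h1
        have := uPt_inj (pat_lt i i.2 k hk) (pat_lt j j.2 k hk) (h1.symm.trans h2)
        rw [this, Nat.beq_refl] at h
        exact Bool.noConfusion h
    subst hij
    exact Prod.ext rfl (Fin.ext (diagEl_inj hω hF s.2 t.2 (mul_left_cancel e')))
  have := Nat.card_le_card_of_injective f hf
  simpa [Nat.card_prod] using this

theorem Tgp_conj {g : GS F} (hg : g ∈ Sgp hω hF) {t : GS F} (ht : t ∈ Tgp hω hF) :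
    g * t * g⁻¹ ∈ Tgp hω hF := by
  obtain ⟨i, hi, hg⟩ := hg
  intro k
  have hsurj : ∃ l : Fin 6, act hω hF g (uF l) = uF k := by
    have hinj : Function.Injective (fun l : Fin 6 => (⟨pat i l, pat_lt i hi l l.2⟩ : Fin 6)) := fun a b e =>
      uF_injective ((toPerm hω hF g).injective (show act hω hF g (uF a) = act hω hF g (uF b) by
        rw [hg.act_eq' hω hF hi, hg.act_eq' hω hF hi]
        exact congrArg uF e))
    obtain ⟨l, hl⟩ := (Finite.injective_iff_surjective.1 hinj) k
    exact ⟨l, (hg.act_eq' hω hF hi l).trans (congrArg uF hl)⟩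
  obtain ⟨l, hl⟩ := hsurj
  show (act hω hF (g * t * g⁻¹) (uF k) : ℕ) = uPt k
  rw [← hl, ← act_mul, inv_mul_cancel_right, act_mul, show act hω hF t (uF l) = uF l from Fin.ext (ht l), hl]
  rfl

theorem colScal_pow {t : GS F} (ht : t ∈ Tgp hω hF) (k : Fin 6) : colScal t k ^ 3 = 1 := by
  have h := FiniteField.pow_card_sub_one_eq_one (colScal t k)
    (colScal_ne hω hF (Sgp_le_Mono hω hF (Tgp_le_Sgp hω hF ht)) k)
  rwa [hF] at h

theorem Tgp_cube {t : GS F} (ht : t ∈ Tgp hω hF) : t * t * t = 1 := by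
  refine eq_of_cols fun k => ?_
  show (t.1.1 * t.1.1 * t.1.1) *ᵥ _ = (1 : Matrix (Fin 6) (Fin 6) F) *ᵥ _
  rw [← Matrix.mulVec_mulVec, ← Matrix.mulVec_mulVec, Matrix.one_mulVec]
  show mat t *ᵥ (mat t *ᵥ (mat t *ᵥ _)) = _
  rw [Tgp_col hω hF ht, Matrix.mulVec_smul, Tgp_col hω hF ht, smul_smul, Matrix.mulVec_smul, Tgp_col hω hF ht,
    smul_smul, show colScal t k * colScal t k * colScal t k = colScal t k ^ 3 by ring, colScal_pow hω hF ht,
    one_smul]

theorem patEl_cube {i : ℕ} (hi : i < 9) : patEl hω hF i * patEl hω hF i * patEl hω hF i = 1 := by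
  refine eq_of_cols fun k => ?_
  have hlt : ∀ g ∈ patWord i ++ patWord i ++ patWord i, g < 9 := fun g hg => by
    simp only [List.mem_append] at hg
    rcases hg with (h | h) | h <;> exact patWord_lt i hi g h
  have h := wordMat_spec hω hF _ hlt k
  simp only [List.map_append, List.prod_append] at h
  have e : ∀ i < 9, ∀ k < 6, colM (wordMat (patWord i ++ patWord i ++ patWord i)) k = 4 ^ k := by decide +kernel
  rw [e i hi k k.2, vdec_unit] at h
  exact h.trans (Matrix.one_mulVec _).symm

theorem prod_map_append (f : ℕ → GS F) (L M : List ℕ) :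
    ((L ++ M).map f).prod = (L.map f).prod * (M.map f).prod := by rw [List.map_append, List.prod_append]

theorem prod_map_one (f : ℕ → GS F) (a : ℕ) : ([a].map f).prod = f a := List.prod_singleton

theorem prod_map_two (f : ℕ → GS F) (a : ℕ) : ([a, a].map f).prod = f a * f a := by
  rw [List.map_cons, List.prod_cons, prod_map_one]

/-- A scalar element. -/
def IsScal (g : GS F) : Prop := ∃ a : F, mat g = a • 1

theorem IsScal.comm {z : GS F} (hz : IsScal z) (x : GS F) : z * x = x * z := by
  obtain ⟨a, ha⟩ := hz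
  refine Subtype.ext (Subtype.ext ?_)
  show mat z * mat x = mat x * mat z
  rw [ha, smul_mul_assoc, one_mul, mul_smul_comm, mul_one]

set_option maxHeartbeats 1000000 in
/-- A subgroup of the Sylow subgroup with scalar commutators normalised by the diagonal part lies in
the diagonal part. -/
theorem le_Tgp {X : Subgroup (GS F)} (hX : X ≤ Sgp hω hF)
    (hconj : ∀ t ∈ Tgp hω hF, ∀ x ∈ X, t * x * t⁻¹ ∈ X)
    (hcomm : ∀ x ∈ X, ∀ y ∈ X, IsScal (x * y * x⁻¹ * y⁻¹)) : X ≤ Tgp hω hF := by
  intro x hxX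
  obtain ⟨i, hi, hx⟩ := hX hxX
  rcases Nat.eq_zero_or_pos i with rfl | hi0
  · intro k
    have e : pat 0 k = k := by revert k; decide +kernel
    rw [hx k, e]
    rfl
  exfalso
  have h := of_range comm_check hi
  simp only [Bool.or_eq_true, List.any_eq_true, List.mem_range] at h
  rcases h with h | ⟨g, hg, h⟩
  · exact absurd (Nat.eq_of_beq_eq_true h) (by omega)
  set C := patEl hω hF i
  set τ := monEl hω hF (g + 4)
  have hτ : τ ∈ Tgp hω hF := monEl_diag_mem hω hF hg
  have hC : C ∈ Sgp hω hF := ⟨i, hi, patEl_follows hω hF hi⟩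
  set t := C⁻¹ * x
  have ht : t ∈ Tgp hω hF := by
    intro k
    show (act hω hF (C⁻¹ * x) (uF k) : ℕ) = uPt k
    rw [act_mul, hx.act_eq' hω hF hi, ← (patEl_follows hω hF hi).act_eq' hω hF hi k, ← act_mul, inv_mul_cancel,
      act_one]
    rfl
  have hxt : x = C * t := (mul_inv_cancel_left C x).symm
  set I := τ * C * τ⁻¹ * C⁻¹
  have hI : I ∈ Tgp hω hF := by
    have := Tgp_conj hω hF hC (inv_mem hτ)
    rw [show I = τ * (C * τ⁻¹ * C⁻¹) by simp only [I, mul_assoc]]
    exact mul_mem hτ this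
  have e1 : τ * x * τ⁻¹ * x⁻¹ = I := by
    rw [hxt]
    calc τ * (C * t) * τ⁻¹ * (C * t)⁻¹ = τ * C * (t * τ⁻¹) * t⁻¹ * C⁻¹ := by group
      _ = τ * C * (τ⁻¹ * t) * t⁻¹ * C⁻¹ := by rw [Tgp_comm hω hF ht (inv_mem hτ)]
      _ = τ * C * τ⁻¹ * C⁻¹ := by group
      _ = I := rfl
  have hIX : I ∈ X := e1 ▸ mul_mem (hconj τ hτ x hxX) (inv_mem hxX)
  have hs := hcomm I hIX x hxX
  have e2 : I * x * I⁻¹ * x⁻¹ = I * C * I⁻¹ * C⁻¹ := by
    rw [hxt]
    calc I * (C * t) * I⁻¹ * (C * t)⁻¹ = I * C * (t * I⁻¹) * t⁻¹ * C⁻¹ := by group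
      _ = I * C * (I⁻¹ * t) * t⁻¹ * C⁻¹ := by rw [Tgp_comm hω hF ht (inv_mem hI)]
      _ = I * C * I⁻¹ * C⁻¹ := by group
  rw [e2] at hs
  have hc3 : C * C * C = 1 := patEl_cube hω hF hi
  have hcinv : C⁻¹ = C * C := inv_eq_of_mul_eq_one_right (by rw [← mul_assoc]; exact hc3)
  have htinv : τ⁻¹ = τ * τ := inv_eq_of_mul_eq_one_right (by
    rw [← mul_assoc]; exact monEl_cube hω hF (show g + 4 < 9 by omega))
  have hI3 : I * I * I = 1 := Tgp_cube hω hF hI
  have hIinv : I⁻¹ = I * I := inv_eq_of_mul_eq_one_right (by rw [← mul_assoc]; exact hI3)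
  have hpw : ((patWord i).map (monEl hω hF)).prod = C := rfl
  have hinner : ((innerWord (g + 4) i).map (monEl hω hF)).prod = I := by
    rw [innerWord, prod_map_append, prod_map_append, prod_map_append, prod_map_append, hpw, prod_map_one,
      prod_map_two]
    show τ * C * (τ * τ) * C * C = τ * C * τ⁻¹ * C⁻¹
    rw [mul_assoc _ C C, ← hcinv, ← htinv]
  have houter : ((outerWord (g + 4) i).map (monEl hω hF)).prod = I * C * I⁻¹ * C⁻¹ := by
    rw [outerWord, prod_map_append, prod_map_append, prod_map_append, prod_map_append, prod_map_append,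
      hinner, hpw, mul_assoc _ C C, ← hcinv, mul_assoc _ I I, ← hIinv]
  have hlt : ∀ a ∈ outerWord (g + 4) i, a < 9 := by
    intro a ha
    have hpa := patWord_lt i hi a
    have hin : a ∈ innerWord (g + 4) i → a < 9 := fun h => by
      simp only [innerWord, List.mem_append, List.mem_cons, List.not_mem_nil, or_false] at h
      rcases h with (((h | h) | (h | h)) | h) | h
      · omega
      · exact hpa h
      · omega
      · omega
      · exact hpa h
      · exact hpa h
    simp only [outerWord, List.mem_append] at ha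
    rcases ha with ((((h | h) | h) | h) | h) | h
    · exact hin h
    · exact hpa h
    · exact hin h
    · exact hin h
    · exact hpa h
    · exact hpa h
  obtain ⟨a, ha⟩ := hs
  rw [← houter] at ha
  simp only [notScalar, Bool.not_eq_true', List.any_eq_false, List.all_eq_true, List.mem_range] at h
  obtain ⟨b, hb, hba⟩ := dec_surj hω hF a
  have hb0 : b ≠ 0 := by
    rintro rfl
    rw [dec_zero] at hba
    subst hba
    have := congrArg Matrix.det ha
    rw [zero_smul, Matrix.det_zero] at this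
    exact one_ne_zero ((((outerWord (g + 4) i).map (monEl hω hF)).prod.1.2).symm.trans this)
  refine h b (by simp; omega) fun k hk => ?_
  have e := wordMat_spec hω hF _ hlt ⟨k, hk⟩
  rw [ha, Matrix.smul_mulVec, Matrix.one_mulVec] at e
  have e' : vdec ω (b * 4 ^ k) = a • Pi.single (⟨k, hk⟩ : Fin 6) (1 : F) := by
    have hs4 : sclV b (4 ^ k) = b * 4 ^ k :=
      (by decide +kernel : ∀ b < 4, ∀ k < 6, sclV b (4 ^ k) = b * 4 ^ k) b hb k hk
    rw [← hs4, vdec_scl hω, hba, vdec_unit (ω := ω) ⟨k, hk⟩]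
  rw [vdec_inj hω (colM_wordMat_lt _ _) ((by decide +kernel : ∀ b < 4, ∀ k < 6, b * 4 ^ k < 4096) b hb k hk) (e.symm.trans e'.symm)]
  exact Nat.beq_refl _

theorem monEl_diag_mat {g : ℕ} (hg : g < 5) (k : Fin 6) :
    mat (monEl hω hF (g + 4)) *ᵥ Pi.single k 1 =
      dec ω (if (k : ℕ) = g then 2 else if (k : ℕ) = g + 1 then 3 else 1) • Pi.single k 1 := by
  have h := of_range diag_shape hg
  have hk := of_range h k.2
  rw [monEl_mat hω hF (show g + 4 < 9 by omega), ← vdec_unit (ω := ω) k, ← vdec_mulV hω, ← vdec_scl hω]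
  congr 1
  have e : ∀ g < 5, ∀ k < 6, mulV (monGens.getD (g + 4) []) (4 ^ k) =
      sclV (if k = g then 2 else if k = g + 1 then 3 else 1) (4 ^ k) := by decide +kernel
  exact e g hg k k.2

/-- The normaliser of the diagonal part keeps the frame. -/
theorem mem_Mono_of_normalizes {n : GS F} (hn : ∀ t ∈ Tgp hω hF, n * t * n⁻¹ ∈ Tgp hω hF) :
    n⁻¹ ∈ Mono hω hF := by
  refine (mem_Mono hω hF).2 fun k => ?_
  set v := mat n⁻¹ *ᵥ Pi.single k 1
  have hv : ∀ g < 5, ∃ c : F, mat (monEl hω hF (g + 4)) *ᵥ v = c • v := by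
    intro g hg
    refine ⟨colScal (n * monEl hω hF (g + 4) * n⁻¹) k, ?_⟩
    have h := Tgp_col hω hF (hn _ (monEl_diag_mem hω hF hg)) k
    have h' := congrArg (fun w => mat n⁻¹ *ᵥ w) h
    simp only [Matrix.mulVec_smul] at h'
    rw [← h', Matrix.mulVec_mulVec, ← Matrix.mulVec_mulVec]
    show mat (monEl hω hF (g + 4)) *ᵥ (mat n⁻¹ *ᵥ _) = _
    rw [Matrix.mulVec_mulVec, Matrix.mulVec_mulVec]
    congr 1
    show ((monEl hω hF (g + 4) * n⁻¹ : GS F)).1.1 = (n⁻¹ * (n * monEl hω hF (g + 4) * n⁻¹) : GS F).1.1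
    rw [show n⁻¹ * (n * monEl hω hF (g + 4) * n⁻¹) = monEl hω hF (g + 4) * n⁻¹ by group]
  have hone : ∀ a b : Fin 6, (a : ℕ) < b → v a = 0 ∨ v b = 0 := by
    intro a b hab
    obtain ⟨c, hc⟩ := hv a (by omega)
    by_contra hne
    push Not at hne
    have hd : ∀ j : Fin 6, dec ω (if (j : ℕ) = a then 2 else if (j : ℕ) = a + 1 then 3 else 1) * v j = c * v j := by
      intro j
      have hdiag : mat (monEl hω hF ((a : ℕ) + 4)) =
          Matrix.diagonal fun j : Fin 6 => dec ω (if (j : ℕ) = a then 2 else if (j : ℕ) = a + 1 then 3 else 1) := by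
        ext r s
        have := congrFun (monEl_diag_mat hω hF (g := a) (by omega) s) r
        simp only [Matrix.mulVec_single_one, Matrix.col_apply, Pi.smul_apply, Pi.single_apply,
          smul_eq_mul] at this
        rw [this, Matrix.diagonal_apply]
        by_cases hrs : r = s
        · subst hrs; simp
        · simp [hrs]
      have := congrFun hc j
      rw [hdiag, Matrix.mulVec_diagonal] at this
      exact this
    have ha := mul_right_cancel₀ hne.1 (hd a)
    have hb := mul_right_cancel₀ hne.2 (hd b)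
    rw [if_pos rfl] at ha
    rw [if_neg (by omega)] at hb
    have := dec_inj hω (a := 2) (by norm_num) (by split <;> norm_num) (ha.trans hb.symm)
    split at this <;> omega
  have hv0 : ∃ l, v l ≠ 0 := by
    by_contra hc
    push Not at hc
    have h := herm_mat n⁻¹ (Pi.single k (1 : F)) (Pi.single k 1)
    rw [show mat n⁻¹ *ᵥ Pi.single k (1 : F) = 0 from funext hc] at h
    simp [Cfsg.hermForm, Pi.single_apply] at h
  obtain ⟨l, hl⟩ := hv0
  refine ⟨l, act_eq hω hF hl ?_⟩
  rw [vec_uF, vec_uF]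
  funext j
  by_cases hj : j = l
  · subst hj; simp [v]
  · have : v j = 0 := by
      rcases lt_or_gt_of_ne (fun e => hj (Fin.ext e)) with h | h
      · exact (hone j l h).resolve_right hl
      · exact (hone l j h).resolve_left hl
    simp [v, this, hj]

theorem cycle_cols : (∀ k : Fin 6, mulV (monGens.getD 0 []) (4 ^ (k : ℕ)) = 4 ^ pat 3 k) ∧
    (∀ k : Fin 6, mulV (monGens.getD 3 []) (4 ^ (k : ℕ)) = 4 ^ pat 1 k) := by decide +kernel

theorem monEl_cycle_mem : monEl hω hF 0 ∈ Sgp hω hF ∧ monEl hω hF 3 ∈ Sgp hω hF := by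
  have h1 := patEl_follows hω hF (show 3 < 9 by norm_num)
  have h2 := patEl_follows hω hF (show 1 < 9 by norm_num)
  simp [patEl, patWord] at h1 h2
  exact ⟨⟨3, by norm_num, h1⟩, ⟨1, by norm_num, h2⟩⟩

/-- An element commuting with the Sylow subgroup is diagonal and constant on the two blocks. -/
theorem centralizes_Sgp {z : GS F} (hz : ∀ s ∈ Sgp hω hF, z * s = s * z) :
    z ∈ Tgp hω hF ∧ ∀ k : Fin 6, colScal z k = colScal z ⟨pat 3 k, pat_lt 3 (by norm_num) k k.2⟩ ∧
      colScal z k = colScal z ⟨pat 1 k, pat_lt 1 (by norm_num) k k.2⟩ := by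
  have hT : ∀ t ∈ Tgp hω hF, z * t = t * z := fun t ht => hz t (Tgp_le_Sgp hω hF ht)
  have hmono : z ∈ Mono hω hF := by
    have := mem_Mono_of_normalizes hω hF (n := z⁻¹) fun t ht => by
      rw [inv_inv, mul_assoc, ← hT t ht, inv_mul_cancel_left]; exact ht
    simpa using this
  have hfix : z ∈ Tgp hω hF := by
    intro k
    obtain ⟨l, hl⟩ := (mem_Mono hω hF).1 hmono k
    obtain ⟨c, hc0, hc⟩ := exists_col hω hF hl
    have key : ∀ g < 5, dec ω (if (k : ℕ) = g then 2 else if (k : ℕ) = g + 1 then 3 else 1) =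
        dec ω (if (l : ℕ) = g then 2 else if (l : ℕ) = g + 1 then 3 else 1) := by
      intro g hg
      have e := congrArg (fun x => mat x *ᵥ Pi.single k (1 : F)) (hT _ (monEl_diag_mem hω hF hg))
      change (z.1.1 * (monEl hω hF (g + 4)).1.1) *ᵥ _ = ((monEl hω hF (g + 4)).1.1 * z.1.1) *ᵥ _ at e
      rw [← Matrix.mulVec_mulVec, ← Matrix.mulVec_mulVec] at e
      change mat z *ᵥ (mat (monEl hω hF (g + 4)) *ᵥ _) = mat (monEl hω hF (g + 4)) *ᵥ (mat z *ᵥ _) at e
      rw [monEl_diag_mat hω hF hg, Matrix.mulVec_smul, hc, Matrix.mulVec_smul, monEl_diag_mat hω hF hg,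
        smul_smul, smul_smul] at e
      have := congrFun e l
      simp only [Pi.smul_apply, Pi.single_eq_same, smul_eq_mul, mul_one] at this
      rw [mul_comm c] at this
      exact mul_right_cancel₀ hc0 this
    have : (l : ℕ) = k := by
      by_contra hne
      have hkey : ∀ g < 5, (if (k : ℕ) = g then 2 else if (k : ℕ) = g + 1 then 3 else 1) =
          (if (l : ℕ) = g then 2 else if (l : ℕ) = g + 1 then 3 else 1) := fun g hg =>
        dec_inj hω (by split_ifs <;> norm_num) (by split_ifs <;> norm_num) (key g hg)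
      have h1 := hkey (min (k : ℕ) l) (by omega)
      split_ifs at h1 <;> omega
    rw [hl, show l = k from Fin.ext this]
    rfl
  refine ⟨hfix, fun k => ?_⟩
  have key : ∀ g i (hi : i < 9), g < 9 → monEl hω hF g ∈ Sgp hω hF →
      (∀ k : Fin 6, mulV (monGens.getD g []) (4 ^ (k : ℕ)) = 4 ^ pat i k) →
      colScal z k = colScal z ⟨pat i k, pat_lt i hi k k.2⟩ := by
    intro g i hi hg hmem hcol
    have e := congrArg (fun x => mat x *ᵥ Pi.single k (1 : F)) (hz _ hmem)
    change (z.1.1 * (monEl hω hF g).1.1) *ᵥ _ = ((monEl hω hF g).1.1 * z.1.1) *ᵥ _ at e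
    rw [← Matrix.mulVec_mulVec, ← Matrix.mulVec_mulVec] at e
    change mat z *ᵥ (mat (monEl hω hF g) *ᵥ _) = mat (monEl hω hF g) *ᵥ (mat z *ᵥ _) at e
    have hcol' : mat (monEl hω hF g) *ᵥ Pi.single k 1 = Pi.single ⟨pat i k, pat_lt i hi k k.2⟩ (1 : F) := by
      rw [monEl_mat hω hF hg, ← vdec_unit (ω := ω) k, ← vdec_mulV hω, hcol,
        ← vdec_unit (ω := ω) ⟨pat i k, pat_lt i hi k k.2⟩]
    rw [hcol', Tgp_col hω hF hfix, Tgp_col hω hF hfix, Matrix.mulVec_smul, hcol'] at e
    have := congrFun e ⟨pat i k, pat_lt i hi k k.2⟩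
    simpa using this.symm
  exact ⟨key 0 3 (by norm_num) (by norm_num) (monEl_cycle_mem hω hF).1 cycle_cols.1,
    key 3 1 (by norm_num) (by norm_num) (monEl_cycle_mem hω hF).2 cycle_cols.2⟩

end CfsgLib.Chev.U43U6
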